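import Groth.Agent.FibDim.RelDim
import Groth.Agent.FibDim.Open
import Groth.Agent.FibFlat.Local
import Groth.Agent.FibDim.LocDim
import Groth.Agent.FDescent.QuasiFlat

/-!
# Relative degrees of maximal points of fibres of a flat morphism along generizations

If `f` is flat and locally of finite presentation and `w ⤳ x` are maximal points of their fibres,
then `rd f x ≤ rd f w`: a transcendence basis at `x` gives a map to affine space that is flat at `x`
by the fibrewise criterion, so it stays independent at `w` by going down.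
-/

set_option autoImplicit false
set_option linter.style.haveILetI false
set_option backward.isDefEq.respectTransparency false
set_option backward.isDefEq.respectTransparency.types false

open AlgebraicGeometry CategoryTheory Topology IsLocalRing

namespace Groth.Agent.Triage.FibMaxFlat

universe u

open Groth.Agent.FibDim Groth.Agent.FibFlat

/-- Stalk maps of `Spec A[T] → Spec A` at `pA[T]` send the maximal ideal to a generating set. -/
theorem maximalIdeal_le_map_sm {A : Type u} [CommRing A] {n : ℕ}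
    (y : Spec (CommRingCat.of (MvPolynomial (Fin n) A))) (s : Spec (CommRingCat.of A))
    (h : Spec.map (CommRingCat.ofHom (algebraMap A (MvPolynomial (Fin n) A))) y = s)
    (hy : (y : PrimeSpectrum (MvPolynomial (Fin n) A)).asIdeal =
      (s : PrimeSpectrum A).asIdeal.map MvPolynomial.C) :
    maximalIdeal ((Spec (CommRingCat.of (MvPolynomial (Fin n) A))).presheaf.stalk y) ≤
      (maximalIdeal ((Spec (CommRingCat.of A)).presheaf.stalk s)).map
        (sm (Spec.map (CommRingCat.ofHom (algebraMap A (MvPolynomial (Fin n) A)))) y s h) := by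
  intro z hz
  obtain ⟨a, v, hv, hav⟩ := tS_surj _ y z
  have hmem : ∀ (R : CommRingCat.{u}) (p : PrimeSpectrum R) (r : R),
      tS R p r ∈ maximalIdeal _ ↔ r ∈ p.asIdeal := fun R p r => by
    rw [tS_eq, RingHom.comp_apply]
    let e := (Spec.stalkIso R p).commRingCatIsoToRingEquiv
    show e.symm (algebraMap R (Localization.AtPrime p.asIdeal) r) ∈ _ ↔ _
    rw [mem_maximalIdeal, mem_nonunits_iff, isUnit_map_iff e.symm, ← mem_nonunits_iff,
      ← mem_maximalIdeal]
    exact IsLocalization.AtPrime.to_map_mem_maximal_iff _ _ r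
  have ha : a ∈ (y : PrimeSpectrum (MvPolynomial (Fin n) A)).asIdeal := by
    refine (hmem _ y a).1 ?_
    rw [← hav]
    exact Ideal.mul_mem_right _ _ hz
  rw [hy] at ha
  rw [← Ideal.mul_unit_mem_iff_mem _ hv, hav, ← Ideal.mem_comap]
  refine (Ideal.map_le_iff_le_comap.2 fun r hr => ?_) ha
  rw [Ideal.mem_comap, Ideal.mem_comap]
  have hn := RingHom.congr_fun
    (tS_natural (CommRingCat.ofHom (algebraMap A (MvPolynomial (Fin n) A))) y s h) r
  simp only [RingHom.comp_apply, CommRingCat.hom_ofHom] at hn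
  rw [← MvPolynomial.algebraMap_eq, ← hn]
  exact Ideal.mem_map_of_mem _ ((hmem _ s r).2 hr)

theorem indepMod_of_le {A B : Type u} [CommRing A] [CommRing B] [Algebra A B]
    [Algebra.FinitePresentation A B] [Module.Flat A B] {n : ℕ} {t : Fin n → B}
    {P W : PrimeSpectrum B} (hWP : W.asIdeal ≤ P.asIdeal) (ht : IndepMod (A := A) t P.asIdeal)
    (hW : ∀ W' : PrimeSpectrum B, W'.asIdeal ≤ W.asIdeal →
      W'.asIdeal.under A = W.asIdeal.under A → W' = W) : IndepMod (A := A) t W.asIdeal := by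
  let φ : MvPolynomial (Fin n) A →ₐ[A] B := MvPolynomial.aeval t
  let g := Spec.map (CommRingCat.ofHom (algebraMap A (MvPolynomial (Fin n) A)))
  let fS := Spec.map (CommRingCat.ofHom φ.toRingHom)
  let x' : Spec (CommRingCat.of B) := P
  have hy : (fS x' : PrimeSpectrum (MvPolynomial (Fin n) A)).asIdeal =
      (g (fS x') : PrimeSpectrum A).asIdeal.map MvPolynomial.C := by
    have hg : (g (fS x') : PrimeSpectrum A).asIdeal = P.asIdeal.under A := by
      show Ideal.comap (algebraMap A (MvPolynomial (Fin n) A)) (Ideal.comap φ.toRingHom P.asIdeal) = _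
      rw [Ideal.comap_comap]
      exact congrArg (Ideal.comap · P.asIdeal) φ.comp_algebraMap
    rw [hg]
    ext G
    exact ht.mem_iff G
  have hFF : FF fS g x' := by
    have hmax := maximalIdeal_le_map_sm (fS x') (g (fS x')) rfl hy
    have hne : (maximalIdeal _).map (sm g (fS x') (g (fS x')) rfl) = maximalIdeal _ :=
      le_antisymm (map_maximalIdeal_le (sm g (fS x') (g (fS x')) rfl)) hmax
    show FFl _ _
    unfold FFl
    refine RingHom.Flat.of_isField ?_ _
    haveI : ((maximalIdeal _).map (sm g (fS x') (g (fS x')) rfl)).IsMaximal :=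
      hne.symm ▸ maximalIdeal.isMaximal _
    exact (Ideal.Quotient.field _).toIsField
  obtain ⟨O, -, hxO, hO⟩ := affine_main φ x' hFF
  obtain ⟨-, hflat⟩ := hO x' hxO
  intro G hG
  set q := W.asIdeal.under A with hq
  have hprime : (q.map (MvPolynomial.C (σ := Fin n))).IsPrime := by
    rw [show q.map (MvPolynomial.C (σ := Fin n)) = RingHom.ker (MvPolynomial.map (Ideal.Quotient.mk q)) by
      rw [MvPolynomial.ker_map, Ideal.mk_ker]]
    exact RingHom.ker_isPrime _
  have hle : q.map MvPolynomial.C ≤ W.asIdeal.comap φ.toRingHom :=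
    Ideal.map_le_iff_le_comap.2 fun a ha => by
      simpa [Ideal.mem_comap, φ, hq] using ha
  obtain ⟨W', hW'W, hW'⟩ := lifts_of_flat_stalk fS hflat (z := (W : Spec (CommRingCat.of B)))
    ((PrimeSpectrum.le_iff_specializes W P).1 hWP)
    (t := (⟨_, hprime⟩ : PrimeSpectrum (MvPolynomial (Fin n) A)))
    ((PrimeSpectrum.le_iff_specializes ⟨_, hprime⟩ (PrimeSpectrum.comap φ.toRingHom W)).1 hle)
  have hW'q : (W' : PrimeSpectrum B).asIdeal.comap φ.toRingHom = q.map MvPolynomial.C :=
    congrArg PrimeSpectrum.asIdeal hW'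
  have heq : W' = W := hW W' ((PrimeSpectrum.le_iff_specializes (W' : PrimeSpectrum B) W).2 hW'W) (by
    refine le_antisymm (Ideal.comap_mono ((PrimeSpectrum.le_iff_specializes (W' : PrimeSpectrum B) W).2 hW'W))
      fun a ha => ?_
    have h1 : MvPolynomial.C a ∈ (W' : PrimeSpectrum B).asIdeal.comap φ.toRingHom := by
      rw [hW'q]
      exact Ideal.mem_map_of_mem _ ha
    simpa [Ideal.mem_comap, φ] using h1)
  subst heq
  exact hW'q.le hG

variable {X S : Scheme.{u}} (f : X ⟶ S) [Flat f] [LocallyOfFinitePresentation f]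

theorem rd_le_rd_of_specializes {x w : X} (hw : FibMax f w) (h : w ⤳ x) (hx : FibMax f x) :
    rd f x ≤ rd f w := by
  obtain ⟨V, hV, hxV, -⟩ := exists_isAffineOpen_mem_and_subset (x := f x) (U := ⊤) trivial
  obtain ⟨U, hU, hxU, hUV⟩ := exists_isAffineOpen_mem_and_subset (x := x) (U := f ⁻¹ᵁ V) hxV
  replace hUV : U ≤ f ⁻¹ᵁ V := hUV
  letI : Algebra Γ(S, V) Γ(X, U) := (f.appLE V U hUV).hom.toAlgebra
  haveI : Algebra.FinitePresentation Γ(S, V) Γ(X, U) := f.finitePresentation_appLE hV hU hUV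
  haveI : Module.Flat Γ(S, V) Γ(X, U) := f.flat_appLE hV hU hUV
  obtain ⟨P, rfl⟩ := VarDim.exists_fromSpec_eq hU hxU
  obtain ⟨W, rfl⟩ := VarDim.exists_fromSpec_eq hU (h.mem_open U.isOpen hxU)
  obtain ⟨t, ht⟩ := (le_rd_iff f hV hU hUV P _).1 le_rfl
  refine (le_rd_iff f hV hU hUV W _).2 ⟨t, indepMod_of_le
    ((VarDim.fromSpec_specializes_iff hU _ _).1 h) ht fun W' hle hu => ?_⟩
  refine hU.fromSpec.isOpenEmbedding.injective
    (hw _ ((VarDim.fromSpec_specializes_iff hU W' W).2 hle) ?_)
  rw [fromSpec_comm f hV hU hUV, fromSpec_comm f hV hU hUV]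
  exact congrArg hV.fromSpec (PrimeSpectrum.ext hu)

/-- EGA IV 14.3 / Stacks 0D4H: the fibre dimension is constant on generizations of a maximal
point of a fibre. -/
theorem fibreDimAt_eq_of_specializes {x x' : X} (h : x' ⤳ x) (hx : FibMax f x) :
    FlatMor.fibreDimAt f x' = FlatMor.fibreDimAt f x := by
  refine le_antisymm ?_ ?_
  · rw [fibreDimAt_eq_rd f hx]
    exact h.mem_open (isOpen_fibreDimAt_le f (rd f x))
      (show FlatMor.fibreDimAt f x ≤ _ from (fibreDimAt_eq_rd f hx).le)
  · obtain ⟨w, hw, -, hmax, he⟩ := exists_fibMax_generization f x'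
    rw [he, fibreDimAt_eq_rd f hx]
    exact_mod_cast rd_le_rd_of_specializes f hmax (hw.trans h) hx

theorem fibMax_of_isGenericPoint {x : X}
    (h : ∃ Z ∈ irreducibleComponents ↥(f.fiber (f x)), IsGenericPoint (f.asFiber x) Z) : FibMax f x := by
  obtain ⟨Z, hZ, hgen⟩ := h
  have h1 : FibMax f (f.fiberι (f x) (f.asFiber x)) := (fibMax_fiberι_iff f _).2 fun w hw =>
    FDescent.maximal_of_closure_mem_irreducibleComponents (hgen.def ▸ hZ) hw
  rwa [Scheme.Hom.fiberι_asFiber] at h1

/-- A maximal point of a fibre has a neighbourhood on which the fibre dimension is constant. -/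
theorem exists_nhd_fibreDimAt_eq {x : X} (hx : FibMax f x) :
    ∃ U : X.Opens, x ∈ U ∧ ∀ z ∈ U, FlatMor.fibreDimAt f z = ((rd f x : ℕ∞) : WithBot ℕ∞) := by
  let L : X.Opens := ⟨_, isOpen_fibreDimAt_le f (rd f x)⟩
  have hxL : x ∈ L := (fibreDimAt_eq_rd f hx).le
  rcases Nat.eq_zero_or_pos (rd f x) with h0 | hpos
  · refine ⟨L, hxL, fun z hz => le_antisymm hz ?_⟩
    obtain ⟨v, -, -, he, -⟩ := exists_fibreDimAt_eq f z
    rw [he, h0]
    exact_mod_cast Nat.zero_le _
  let O : X.Opens := ⟨_, isOpen_fibreDimAt_le f (rd f x - 1)⟩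
  haveI : QuasiCompact O.ι := ⟨fun W hW hWc => by
    rw [O.ι.isOpenEmbedding.isInducing.isCompact_iff, Set.image_preimage_eq_inter_range,
      Scheme.Opens.range_ι, Set.inter_comm]
    exact isRetrocompact_setOf_fibreDimAt_le f (rd f x - 1) hWc hW⟩
  refine ⟨L ⊓ ⟨(closure (O : Set X))ᶜ, isClosed_closure.isOpen_compl⟩, ⟨hxL, fun hxc => ?_⟩, ?_⟩
  · have hxc' : x ∈ closure (Set.range O.ι.base) := by rwa [Scheme.Opens.range_ι]
    obtain ⟨a, ha⟩ := FDescent.exists_specializes_of_mem_closure_range O.ι hxc'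
    have hle : FlatMor.fibreDimAt f a.1 ≤ ((rd f x - 1 : ℕ) : WithBot ℕ∞) := a.2
    rw [show FlatMor.fibreDimAt f a.1 = FlatMor.fibreDimAt f x from
      fibreDimAt_eq_of_specializes f ha hx, fibreDimAt_eq_rd f hx] at hle
    have : rd f x ≤ rd f x - 1 := Nat.cast_le.1 (WithBot.coe_le_coe.1 hle)
    omega
  · rintro z ⟨hzL, hzO⟩
    obtain ⟨v, -, -, he, -⟩ := exists_fibreDimAt_eq f z
    have h1 : FlatMor.fibreDimAt f z ≤ ((rd f x : ℕ) : WithBot ℕ∞) := hzL
    have h2 : ¬ FlatMor.fibreDimAt f z ≤ ((rd f x - 1 : ℕ) : WithBot ℕ∞) := fun h =>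
      hzO (subset_closure h)
    rw [he] at h1 h2 ⊢
    have h1' : rd f v ≤ rd f x := Nat.cast_le.1 (WithBot.coe_le_coe.1 h1)
    have h2' : ¬ rd f v ≤ rd f x - 1 := fun h => h2 (WithBot.coe_le_coe.2 (Nat.cast_le.2 h))
    rw [show rd f v = rd f x by omega]

end Groth.Agent.Triage.FibMaxFlat
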