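import Mathlib

/-! Scheme-theoretic dominance of morphisms with reduced source. -/

set_option autoImplicit false

universe u

open CategoryTheory AlgebraicGeometry TopologicalSpace

namespace Groth.Agent.Triage.SchDense

variable {X Y : Scheme.{u}}

theorem vanishingIdeal_le_ker (f : X ⟶ Y) [IsReduced X] :
    Scheme.IdealSheafData.vanishingIdeal ⟨closure (Set.range f), isClosed_closure⟩ ≤ f.ker := by
  refine Scheme.IdealSheafData.le_ofIdeals_iff.mpr fun U s hs => ?_
  rw [Scheme.IdealSheafData.vanishingIdeal_ideal, PrimeSpectrum.mem_vanishingIdeal] at hs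
  show f.app U s = 0
  rw [← basicOpen_eq_bot_iff, ← le_bot_iff]
  intro x hx
  rw [← Scheme.preimage_basicOpen] at hx
  have hxU : f x ∈ U.1 := Y.basicOpen_le s hx
  obtain ⟨p, hp⟩ : f x ∈ Set.range U.2.fromSpec := by rw [U.2.range_fromSpec]; exact hxU
  have hpb : p ∈ U.2.fromSpec ⁻¹ᵁ Y.basicOpen s := by
    show U.2.fromSpec p ∈ Y.basicOpen s
    rw [hp]; exact hx
  rw [U.2.fromSpec_preimage_basicOpen] at hpb
  exact absurd (hs p (by show U.2.fromSpec p ∈ closure (Set.range f); rw [hp]; exact subset_closure ⟨x, rfl⟩))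
    ((PrimeSpectrum.mem_basicOpen s p).1 hpb)

theorem vanishingIdeal_eq_bot (f : X ⟶ Y) [IsReduced X] (h : IsSchemeTheoreticallyDominant f) :
    Scheme.IdealSheafData.vanishingIdeal ⟨closure (Set.range f), isClosed_closure⟩ = ⊥ :=
  le_bot_iff.mp ((vanishingIdeal_le_ker f).trans h.ker_eq_bot.le)

theorem denseRange_of_isReduced (f : X ⟶ Y) [IsReduced X] (h : IsSchemeTheoreticallyDominant f) :
    DenseRange f := by
  have e := congrArg (fun I : Y.IdealSheafData => (I.support : Set Y)) (vanishingIdeal_eq_bot f h)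
  simp only [Scheme.IdealSheafData.coe_support_vanishingIdeal, Scheme.IdealSheafData.support_bot,
    Closeds.coe_top] at e
  rw [DenseRange, dense_iff_closure_eq]
  exact e

theorem isReduced_of_isReduced (f : X ⟶ Y) [IsReduced X] (h : IsSchemeTheoreticallyDominant f) :
    IsReduced Y := by
  have hnil : Y.nilradical = ⊥ := by
    rw [← Scheme.IdealSheafData.vanishingIdeal_top]
    refine le_bot_iff.mp (le_trans ?_ (vanishingIdeal_eq_bot f h).le)
    exact Scheme.IdealSheafData.vanishingIdeal_antimono le_top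
  have haff : ∀ (U : Y.affineOpens) (a : Γ(Y, U.1)), IsNilpotent a → a = 0 := fun U a ha => by
    have : a ∈ Y.nilradical.ideal U := by
      simpa [Scheme.nilradical, Scheme.IdealSheafData.radical, Ideal.mem_radical_iff, IsNilpotent] using ha
    rw [hnil] at this
    simpa using this
  refine ⟨fun V => ⟨fun a ha => ?_⟩⟩
  refine Y.IsSheaf.section_ext fun y hy => ?_
  obtain ⟨_, ⟨W, hW, rfl⟩, hyW, hWV⟩ :=
    Y.isBasis_affineOpens.exists_subset_of_mem_open hy V.isOpen
  refine ⟨W, hWV, hyW, ?_⟩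
  rw [map_zero]
  exact haff ⟨W, hW⟩ _ (ha.map _)

theorem isSchemeTheoreticallyDominant_toImage (h : X ⟶ Y) [QuasiCompact h] :
    IsSchemeTheoreticallyDominant h.toImage := by
  rw [isSchemeTheoreticallyDominant_iff]
  refine Scheme.IdealSheafData.ext_of_iSup_eq_top
    (fun U : Y.affineOpens => ⟨h.imageι ⁻¹ᵁ U.1, U.2.preimage h.imageι⟩) ?_ fun U => ?_
  · rw [eq_top_iff]
    intro z _
    obtain ⟨_, ⟨V, hV, rfl⟩, hzV, -⟩ :=
      Y.isBasis_affineOpens.exists_subset_of_mem_open (Set.mem_univ (h.imageι z)) isOpen_univ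
    exact Opens.mem_iSup.2 ⟨⟨V, hV⟩, hzV⟩
  · rw [Scheme.Hom.ker_apply, Scheme.IdealSheafData.ideal_bot]
    exact (RingHom.injective_iff_ker_eq_bot _).1 (Scheme.Hom.toImage_app_injective (U := U) h)

end Groth.Agent.Triage.SchDense
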