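import Groth.Agent.S2604
import Groth.Agent.FlatLoc6.TensorField
import Groth.Agent.FibFlat.Stalk
import Groth.Agent.LC.LiaisonLocal
import Groth.Prelude.Def_MoreMor

/-!
# Cohen–Macaulay morphisms in terms of local rings
-/

set_option autoImplicit false
set_option backward.isDefEq.respectTransparency false
universe u

open AlgebraicGeometry CategoryTheory IsLocalRing TensorProduct

namespace Groth.Agent.Triage.CMMor

open Groth.Agent

/-- Cohen–Macaulayness of the source of a flat local homomorphism. -/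
theorem isCM_iff (A B : Type u) [CommRing A] [CommRing B] [IsNoetherianRing A] [IsNoetherianRing B]
    [IsLocalRing A] [IsLocalRing B] [Algebra A B] [IsLocalHom (algebraMap A B)] [Module.Flat A B] :
    LocCoh.IsCohenMacaulayLocalRing B ↔
      LocCoh.IsCohenMacaulayLocalRing A ∧
        LocCoh.IsCohenMacaulayLocalRing (B ⧸ (maximalIdeal A).map (algebraMap A B)) := by
  haveI : Nontrivial (B ⧸ (maximalIdeal A).map (algebraMap A B)) :=
    inferInstanceAs (Nontrivial (EGA4.FibRing A B))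
  haveI : IsLocalRing (B ⧸ (maximalIdeal A).map (algebraMap A B)) :=
    .of_surjective' (Ideal.Quotient.mk _) Ideal.Quotient.mk_surjective
  have h := S2604.result A B A B
  have e1 : LocCoh.IsCohenMacaulayModule B (B ⊗[A] A) ↔ LocCoh.IsCohenMacaulayModule B B := by
    rw [LocCoh.IsCohenMacaulayModule, LocCoh.IsCohenMacaulayModule,
      Module.supportDim_eq_of_equiv (AlgebraTensorModule.rid A B B),
      Hensel.depth_congr (AlgebraTensorModule.rid A B B)]
  have e2 : LocCoh.IsCohenMacaulayModule (EGA4.FibRing A B) (EGA4.FibMod A B B) ↔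
      LocCoh.IsCohenMacaulayModule (EGA4.FibRing A B) (EGA4.FibRing A B) := by
    have heq : (EGA4.mB A B • ⊤ : Submodule B B) = EGA4.mB A B := by
      rw [Ideal.smul_eq_mul, Ideal.mul_top]
    let e : EGA4.FibMod A B B ≃ₗ[EGA4.FibRing A B] EGA4.FibRing A B :=
      (Submodule.quotEquivOfEq _ _ heq).extendScalarsOfSurjective Ideal.Quotient.mk_surjective
    rw [LocCoh.IsCohenMacaulayModule, LocCoh.IsCohenMacaulayModule, Module.supportDim_eq_of_equiv e,
      Hensel.depth_congr e]
  rw [e1, e2] at h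
  have key : ∀ (R : Type u) [CommRing R] [IsLocalRing R] [IsNoetherianRing R],
      LocCoh.IsCohenMacaulayLocalRing R ↔ LocCoh.IsCohenMacaulayModule R R :=
    fun R _ _ _ => ⟨fun h => h.supportDim_eq_depth, fun h => ⟨h⟩⟩
  rw [key B, key A, key (B ⧸ (maximalIdeal A).map (algebraMap A B))]
  exact h

theorem isCM_of_equiv {R S : Type u} [CommRing R] [CommRing S] (e : R ≃+* S)
    (h : LocCoh.IsCohenMacaulayLocalRing R) : LocCoh.IsCohenMacaulayLocalRing S := by
  haveI : IsLocalRing S := e.isLocalRing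
  haveI : IsNoetherianRing S := isNoetherianRing_of_ringEquiv R e
  exact LC.Liaison.isCMLocal_of_ringEquiv e

theorem isCM_congr {R S : Type u} [CommRing R] [CommRing S] (e : R ≃+* S) :
    LocCoh.IsCohenMacaulayLocalRing R ↔ LocCoh.IsCohenMacaulayLocalRing S :=
  ⟨isCM_of_equiv e, isCM_of_equiv e.symm⟩

variable {X S : Scheme.{u}}

theorem exists_equiv_fibre_stalk_aux (f : X ⟶ S) (x : X) (s : S) (hs : f x = s) (w : ↥(f.fiber s))
    (hw : f.fiberι s w = x) :
    Nonempty ((↑(X.presheaf.stalk x) ⧸ (maximalIdeal (S.presheaf.stalk s)).map (FibFlat.sm f x s hs)) ≃+*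
      ↑((f.fiber s).presheaf.stalk w)) := by
  subst hs
  refine ⟨(Ideal.quotEquivOfEq (FibFlat.ker_sm_fiberι f (f x) w x hw).symm).trans ?_⟩
  exact RingHom.quotientKerEquivOfSurjective (FibFlat.surjective_sm (f := f.fiberι (f x)) w x hw)

/-- The local ring of the fibre through a point. -/
theorem exists_equiv_fibre_stalk (f : X ⟶ S) (x : X) :
    Nonempty ((↑(X.presheaf.stalk x) ⧸ (maximalIdeal (S.presheaf.stalk (f x))).map (f.stalkMap x).hom) ≃+*
      ↑((f.fiber (f x)).presheaf.stalk (f.asFiber x))) := by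
  rw [← FibFlat.sm_self f x]
  exact exists_equiv_fibre_stalk_aux f x (f x) rfl (f.asFiber x) (f.fiberι_asFiber x)

theorem isCMAt_iff (f : X ⟶ S) (x : X) :
    MoreMor.IsCMAt f x ↔ (f.stalkMap x).hom.Flat ∧ LocCoh.IsCohenMacaulayLocalRing
      (↑(X.presheaf.stalk x) ⧸ (maximalIdeal (S.presheaf.stalk (f x))).map (f.stalkMap x).hom) :=
  and_congr_right fun _ => (isCM_congr (exists_equiv_fibre_stalk f x).some).symm

theorem isNoetherianRing_fibre_stalk (f : X ⟶ S) (x : X) (h : IsLocallyNoetherian (f.fiber (f x))) :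
    IsNoetherianRing
      (↑(X.presheaf.stalk x) ⧸ (maximalIdeal (S.presheaf.stalk (f x))).map (f.stalkMap x).hom) :=
  isNoetherianRing_of_ringEquiv _ (exists_equiv_fibre_stalk f x).some.symm

theorem isCMAt_iff_sm (f : X ⟶ S) (x : X) (s : S) (hs : f x = s) :
    MoreMor.IsCMAt f x ↔ (FibFlat.sm f x s hs).Flat ∧ LocCoh.IsCohenMacaulayLocalRing
      (↑(X.presheaf.stalk x) ⧸ (maximalIdeal (S.presheaf.stalk s)).map (FibFlat.sm f x s hs)) := by
  subst hs
  rw [isCMAt_iff, FibFlat.sm_self]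

theorem isNoetherianRing_fibre_stalk_sm (f : X ⟶ S) (x : X) (s : S) (hs : f x = s)
    (h : IsLocallyNoetherian (f.fiber s)) :
    IsNoetherianRing (↑(X.presheaf.stalk x) ⧸ (maximalIdeal (S.presheaf.stalk s)).map (FibFlat.sm f x s hs)) := by
  subst hs
  exact isNoetherianRing_of_ringEquiv _
    (exists_equiv_fibre_stalk_aux f x (f x) rfl (f.asFiber x) (f.fiberι_asFiber x)).some.symm

/-- The fibre rings along a composite of local homomorphisms `A → B → C`, with `C` flat over `B`. -/
theorem fibre_comp {A B C : Type u} [CommRing A] [CommRing B] [CommRing C] [IsLocalRing A] [IsLocalRing B]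
    [IsLocalRing C] (ψ : A →+* B) (φ : B →+* C) [IsLocalHom ψ] [IsLocalHom φ] (hφ : φ.Flat)
    [IsNoetherianRing (B ⧸ (maximalIdeal A).map ψ)] [IsNoetherianRing (C ⧸ (maximalIdeal A).map (φ.comp ψ))] :
    LocCoh.IsCohenMacaulayLocalRing (C ⧸ (maximalIdeal A).map (φ.comp ψ)) ↔
      LocCoh.IsCohenMacaulayLocalRing (B ⧸ (maximalIdeal A).map ψ) ∧
        LocCoh.IsCohenMacaulayLocalRing (C ⧸ (maximalIdeal B).map φ) := by
  let I := (maximalIdeal A).map ψ
  have hIm : I ≤ maximalIdeal B := map_maximalIdeal_le ψ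
  have hJ : (maximalIdeal A).map (φ.comp ψ) = I.map φ := (Ideal.map_map ψ φ).symm
  haveI : IsNoetherianRing (C ⧸ I.map φ) :=
    isNoetherianRing_of_ringEquiv (C ⧸ (maximalIdeal A).map (φ.comp ψ)) (Ideal.quotEquivOfEq hJ)
  rw [isCM_congr (Ideal.quotEquivOfEq hJ)]
  haveI : Nontrivial (B ⧸ I) :=
    Ideal.Quotient.nontrivial_iff.2 fun h => (maximalIdeal.isMaximal B).ne_top (top_le_iff.1 (h ▸ hIm))
  haveI : Nontrivial (C ⧸ I.map φ) :=
    Ideal.Quotient.nontrivial_iff.2 fun h => (maximalIdeal.isMaximal C).ne_top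
      (top_le_iff.1 (h ▸ (Ideal.map_mono hIm).trans (map_maximalIdeal_le φ)))
  haveI : IsLocalRing (B ⧸ I) := .of_surjective' (Ideal.Quotient.mk _) Ideal.Quotient.mk_surjective
  haveI : IsLocalRing (C ⧸ I.map φ) := .of_surjective' (Ideal.Quotient.mk _) Ideal.Quotient.mk_surjective
  letI : Algebra B C := φ.toAlgebra
  haveI : Module.Flat B C := hφ
  haveI : Module.Flat (B ⧸ I) (C ⧸ I.map (algebraMap B C)) :=
    Module.Flat.of_linearEquiv (((TensorProduct.quotTensorEquivQuotSMul C I).trans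
      ((Submodule.quotEquivOfEq _ _ (Ideal.smul_top_eq_map I)).trans
        (Submodule.Quotient.restrictScalarsEquiv B _))).extendScalarsOfSurjective
          Ideal.Quotient.mk_surjective).symm
  haveI : Nontrivial (C ⧸ I.map (algebraMap B C)) := ‹Nontrivial (C ⧸ I.map φ)›
  haveI : IsLocalRing (C ⧸ I.map (algebraMap B C)) := ‹IsLocalRing (C ⧸ I.map φ)›
  haveI : IsNoetherianRing (C ⧸ I.map (algebraMap B C)) := ‹IsNoetherianRing (C ⧸ I.map φ)›
  haveI : IsLocalHom (algebraMap (B ⧸ I) (C ⧸ I.map (algebraMap B C))) := by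
    constructor
    intro b hb
    obtain ⟨b, rfl⟩ := Ideal.Quotient.mk_surjective b
    have hb' : IsUnit (Ideal.Quotient.mk (I.map φ) (φ b)) := hb
    haveI : IsLocalHom (Ideal.Quotient.mk (I.map φ)) := IsLocalHom.of_surjective _ Ideal.Quotient.mk_surjective
    exact (isUnit_of_map_unit φ b (isUnit_of_map_unit _ _ hb')).map _
  show LocCoh.IsCohenMacaulayLocalRing (C ⧸ I.map (algebraMap B C)) ↔
    LocCoh.IsCohenMacaulayLocalRing (B ⧸ I) ∧ LocCoh.IsCohenMacaulayLocalRing (C ⧸ (maximalIdeal B).map φ)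
  rw [isCM_iff (B ⧸ I) (C ⧸ I.map (algebraMap B C))]
  refine and_congr_right fun _ => ?_
  refine isCM_congr ?_
  have hmB : maximalIdeal (B ⧸ I) = (maximalIdeal B).map (Ideal.Quotient.mk I) :=
    (IsLocalRing.map_maximalIdeal_of_surjective _ Ideal.Quotient.mk_surjective).symm
  refine (Ideal.quotEquivOfEq (show (maximalIdeal (B ⧸ I)).map (algebraMap (B ⧸ I) (C ⧸ I.map (algebraMap B C))) =
    ((maximalIdeal B).map φ).map (Ideal.Quotient.mk (I.map φ)) from ?_)).trans
    (DoubleQuot.quotQuotEquivQuotOfLE (Ideal.map_mono hIm))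
  rw [hmB]
  exact (Ideal.map_map (Ideal.Quotient.mk I) (algebraMap (B ⧸ I) (C ⧸ I.map (algebraMap B C)))).trans
    (Ideal.map_map φ (Ideal.Quotient.mk (I.map φ))).symm

/-- A Noetherian fibre ring descends along a flat local homomorphism. -/
theorem isNoetherian_fibre_of_flat {B C : Type u} [CommRing B] [CommRing C] [IsLocalRing B]
    [IsLocalRing C] (φ : B →+* C) [IsLocalHom φ] (hφ : φ.Flat) (I : Ideal B)
    [IsNoetherianRing (C ⧸ I.map φ)] : IsNoetherianRing (B ⧸ I) := by
  letI : Algebra B C := φ.toAlgebra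
  haveI : Module.Flat B C := hφ
  haveI : IsLocalHom (algebraMap B C) := ‹IsLocalHom φ›
  haveI : Module.FaithfullyFlat B C := Module.FaithfullyFlat.of_flat_of_isLocalHom
  refine isNoetherianRing_iff.2 (isNoetherian_iff'.2 ?_)
  haveI := (isNoetherian_iff'.1 (isNoetherianRing_iff.1 ‹IsNoetherianRing (C ⧸ I.map φ)›))
  have hg : ∀ K : Ideal (B ⧸ I), (K.comap (Ideal.Quotient.mk I)).map φ ⊔ I.map φ = (K.comap (Ideal.Quotient.mk I)).map φ := fun K =>
    sup_eq_left.2 (Ideal.map_mono (by
      conv_lhs => rw [← Ideal.mk_ker (I := I)]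
      exact Ideal.ker_le_comap _))
  refine StrictMono.wellFoundedGT (f := fun K : Ideal (B ⧸ I) =>
    ((K.comap (Ideal.Quotient.mk I)).map φ).map (Ideal.Quotient.mk (I.map φ))) (Monotone.strictMono_of_injective
      (fun K L h => Ideal.map_mono (Ideal.map_mono (Ideal.comap_mono h))) fun K L h => ?_)
  have h2 := congrArg (Ideal.comap (Ideal.Quotient.mk (I.map φ))) h
  simp only [Ideal.comap_map_of_surjective _ Ideal.Quotient.mk_surjective, ← RingHom.ker_eq_comap_bot,
    Ideal.mk_ker, hg] at h2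
  have h3 := congrArg (Ideal.comap (algebraMap B C)) h2
  rw [show φ = algebraMap B C from rfl, Ideal.comap_map_eq_self_of_faithfullyFlat, Ideal.comap_map_eq_self_of_faithfullyFlat] at h3
  exact Ideal.comap_injective_of_surjective _ Ideal.Quotient.mk_surjective h3

/-- Flatness descends along a flat local homomorphism. -/
theorem flat_of_comp {A B C : Type u} [CommRing A] [CommRing B] [CommRing C] [IsLocalRing B]
    [IsLocalRing C] (ψ : A →+* B) (φ : B →+* C) [IsLocalHom φ] (hφ : φ.Flat) (h : (φ.comp ψ).Flat) : ψ.Flat := by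
  letI := ψ.toAlgebra
  letI := φ.toAlgebra
  letI := (φ.comp ψ).toAlgebra
  haveI : IsScalarTower A B C := IsScalarTower.of_algebraMap_eq fun _ => rfl
  haveI : Module.Flat B C := hφ
  haveI : IsLocalHom (algebraMap B C) := ‹IsLocalHom φ›
  haveI : Module.FaithfullyFlat B C := Module.FaithfullyFlat.of_flat_of_isLocalHom
  haveI : Module.Flat A C := h
  exact SmallFlat.flat_of_faithfullyFlat_tower A B C

end Groth.Agent.Triage.CMMor
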