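import Groth.Agent.BirNormal.Basic
import Groth.Agent.S9821

/-!
# Birational quasi-finite morphisms to normal schemes
-/

universe u

open CategoryTheory Limits AlgebraicGeometry

set_option backward.isDefEq.respectTransparency false
set_option backward.isDefEq.respectTransparency.types false

namespace Groth.Agent.Triage.ZMTBir

variable {X Y : Scheme.{u}}

lemma isIso_stalkMap_right {W Z : Scheme.{u}} (j : X ⟶ W) [IsOpenImmersion j] (ν : W ⟶ Z) (x : X)
    (h : IsIso ((j ≫ ν).stalkMap x)) : IsIso (ν.stalkMap (j x)) := by
  rw [Scheme.Hom.stalkMap_comp] at h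
  haveI := h
  exact @IsIso.of_isIso_comp_right _ _ _ _ _ _ _ inferInstance h

theorem isOpenImmersion_of_birational [IsIntegral X] [IsIntegral Y]
    (hN : ∀ y : Y, IsIntegrallyClosed (Y.presheaf.stalk y)) (f : X ⟶ Y) [IsSeparated f]
    [QuasiCompact f] [LocallyQuasiFinite f] [LocallyOfFiniteType f]
    (hgen : f (genericPoint X) = genericPoint Y)
    (hbir : IsIso (f.stalkMap (genericPoint X))) : IsOpenImmersion f := by
  let j := f.toNormalization
  have hj : j (genericPoint X) = genericPoint f.normalization := genericPoint_eq_of_isOpenImmersion j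
  have hν : IsIso f.fromNormalization := by
    have key : ∀ z : f.normalization, z = j (genericPoint X) →
        IsIso (f.fromNormalization.stalkMap z) ∧ f.fromNormalization z = genericPoint Y := by
      rintro z rfl
      refine ⟨isIso_stalkMap_right j f.fromNormalization _ ?_, ?_⟩
      · rw [Scheme.Hom.stalkMap_congr_hom _ f f.toNormalization_fromNormalization]
        haveI := hbir
        infer_instance
      · rw [← Scheme.Hom.comp_apply, Scheme.Hom.toNormalization_fromNormalization, hgen]
    obtain ⟨h1, h2⟩ := key _ hj.symm
    haveI := h1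
    haveI : IsIso (Y.presheaf.stalkSpecializes (specializes_of_eq h2)) :=
      BirNormal.isIso_stalkSpecializes_of_eq h2 _
    refine BirNormal.isIso_of_isIntegralHom f.fromNormalization (fun U _ hU => ?_) h2
      (ConcreteCategory.isIso_iff_bijective _ |>.1 inferInstance)
    exact (S9821.result Y).1 (fun y => ⟨inferInstance, hN y⟩) U hU
  rw [← f.toNormalization_fromNormalization]
  infer_instance

end Groth.Agent.Triage.ZMTBir
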