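import Groth.Agent.AlgSpDec.SliceFlat
import Mathlib.RingTheory.Regular.Flat
import Mathlib.RingTheory.Flat.Equalizer

/-!
# Slicing a flat finitely presented algebra by a sequence which is regular on a fibre

For a flat finitely presented algebra `A` over an arbitrary ring `O` and a sequence `fs` of elements of
a prime `Q` which is regular on the fibre at `Q`, there is `g ∉ Q` such that on every flat `A`-algebra
in which `g` is a unit the sequence is weakly regular and all its quotients are flat over `O`.
-/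

set_option autoImplicit false
set_option backward.isDefEq.respectTransparency false
universe u

open AlgebraicGeometry CategoryTheory TensorProduct Polynomial IsLocalRing

namespace Groth.Agent.Triage.SliceFlat

open Groth.Agent

variable {O : Type u} [CommRing O]

/-- The base change of a flat algebra to a quotient is flat. -/
theorem flat_quotient_map {A T : Type u} [CommRing A] [CommRing T] [Algebra A T] [Module.Flat A T]
    (I : Ideal A) : Module.Flat (A ⧸ I) (T ⧸ I.map (algebraMap A T)) :=
  Module.Flat.of_linearEquiv (((TensorProduct.quotTensorEquivQuotSMul T I).trans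
    ((Submodule.quotEquivOfEq _ _ (Ideal.smul_top_eq_map I)).trans
      (Submodule.Quotient.restrictScalarsEquiv A _))).extendScalarsOfSurjective
        Ideal.Quotient.mk_surjective).symm

/-- One element: the flat locus over the affine line. -/
theorem exists_slice_one {A : Type u} [CommRing A] [Algebra O A] [Algebra.FinitePresentation O A]
    [Module.Flat O A] (f : A) (p : Ideal O)
    [p.IsPrime] (Q : Ideal A) [hQ : Q.IsPrime] [Q.LiesOver p] (hf : f ∈ Q)
    (hreg : ∀ t, f * t ∈ FlatModel.sat p ⊥ Q.primeCompl → t ∈ FlatModel.sat p ⊥ Q.primeCompl) :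
    ∃ h ∉ Q, ∀ (T : Type u) [CommRing T] [Algebra A T] [Algebra O T] [IsScalarTower O A T]
      [Module.Flat A T], IsUnit (algebraMap A T h) →
        (∀ t : T, algebraMap A T f * t = 0 → t = 0) ∧
        Module.Flat O (T ⧸ Ideal.span {algebraMap A T f}) := by
  classical
  obtain ⟨W, hW, hQW, hWflat⟩ := FibFlat.affine_main (R := O) (Polynomial.aeval f)
    (⟨Q, hQ⟩ : PrimeSpectrum A) (AlgSpDec.Slice.ff_aeval f p Q hf hreg)
  obtain ⟨U, ⟨h, rfl⟩, hQh, hhW⟩ := PrimeSpectrum.isTopologicalBasis_basic_opens.exists_subset_of_mem_open hQW hW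
  refine ⟨h, hQh, fun T _ _ _ _ _ hu => ?_⟩
  let φ : O[X] →+* A := (Polynomial.aeval (R := O) f).toRingHom
  let A' := Localization.Away h
  letI : Algebra O[X] A' := ((algebraMap A A').comp φ).toAlgebra
  have hA' : Module.Flat O[X] A' := by
    let j := Spec.map (CommRingCat.ofHom (algebraMap A A'))
    have : IsOpenImmersion j := IsOpenImmersion.of_isLocalization h
    have hflat : Flat (j ≫ Spec.map (CommRingCat.ofHom φ)) := by
      refine Flat.of_stalkMap _ fun z => (FibFlat.flat_stalk_open_comp j _ z).2 (hWflat _ (hhW ?_)).2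
      have hz : j z ∈ Set.range (PrimeSpectrum.comap (algebraMap A A')) := ⟨z, rfl⟩
      rwa [PrimeSpectrum.localization_away_comap_range A' h] at hz
    rw [← Spec.map_comp, HasRingHomProperty.Spec_iff (P := @Flat)] at hflat
    exact hflat
  letI : Algebra A' T := (IsLocalization.Away.lift (S := A') h (g := algebraMap A T) hu).toAlgebra
  haveI : IsScalarTower A A' T := IsScalarTower.of_algebraMap_eq fun a =>
    (IsLocalization.Away.lift_eq (S := A') h hu a).symm
  haveI : Module.Flat A' T := (Module.flat_iff_of_isLocalization A' (Submonoid.powers h) T).2 ‹_›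
  letI : Algebra O[X] T := ((algebraMap A T).comp φ).toAlgebra
  haveI : IsScalarTower O[X] A' T := IsScalarTower.of_algebraMap_eq fun a =>
    IsScalarTower.algebraMap_apply A A' T (φ a)
  haveI : Module.Flat O[X] T := Module.Flat.trans O[X] A' T
  haveI : IsScalarTower O O[X] T := IsScalarTower.of_algebraMap_eq fun r => by
    show algebraMap O T r = algebraMap A T (φ (algebraMap O O[X] r))
    rw [show φ (algebraMap O O[X] r) = algebraMap O A r from (Polynomial.aeval f).commutes r]
    exact IsScalarTower.algebraMap_apply O A T r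
  have hX : algebraMap O[X] T X = algebraMap A T f := by
    show algebraMap A T (φ X) = _
    simp [φ]
  have hinj : IsSMulRegular O[X] (X : O[X]) := (Polynomial.monic_X (R := O)).isRegular.left
  constructor
  · intro t ht
    have h2 : IsSMulRegular T (X : O[X]) :=
      IsSMulRegular.of_flat_of_isBaseChange (IsBaseChange.linearMap O[X] T) hinj
    exact h2 (show (X : O[X]) • t = (X : O[X]) • 0 by rw [smul_zero, Algebra.smul_def, hX, ht])
  · let I : Ideal O[X] := Ideal.span {X}
    have : Module.Flat (O[X] ⧸ I) ((O[X] ⧸ I) ⊗[O[X]] T) := inferInstance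
    have : Module.Flat O (O[X] ⧸ I) :=
      Module.Flat.of_linearEquiv (AlgEquiv.toLinearEquiv
        ((Ideal.quotientEquivAlgOfEq O (show I = Ideal.span {X - C (0 : O)} by simp [I])).trans
          (Polynomial.quotientSpanXSubCAlgEquiv (0 : O))))
    have : Module.Flat O ((O[X] ⧸ I) ⊗[O[X]] T) := Module.Flat.trans O (O[X] ⧸ I) _
    have hIf : I • (⊤ : Submodule O[X] T) = (Ideal.span {algebraMap A T f}).restrictScalars O[X] := by
      rw [Ideal.smul_top_eq_map, Ideal.map_span, Set.image_singleton, hX]
    let e := (TensorProduct.quotTensorEquivQuotSMul T I).trans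
      ((Submodule.quotEquivOfEq _ _ hIf).trans (Submodule.Quotient.restrictScalarsEquiv O[X] _))
    exact Module.Flat.of_linearEquiv (e.restrictScalars O).symm

/-- One further element, relative to a flat quotient. -/
theorem exists_slice_step {A : Type u} [CommRing A] [Algebra O A] [Algebra.FinitePresentation O A]
    (I : Ideal A) (hIfg : I.FG) (g : A) (p : Ideal O) [p.IsPrime] (Q : Ideal A) [hQ : Q.IsPrime]
    [Q.LiesOver p] (hg : g ∉ Q) (hIQ : I ≤ Q) (f : A) (hf : f ∈ Q)
    (hflat : ∀ (T : Type u) [CommRing T] [Algebra A T] [Algebra O T] [IsScalarTower O A T]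
      [Module.Flat A T], IsUnit (algebraMap A T g) → Module.Flat O (T ⧸ I.map (algebraMap A T)))
    (hreg : ∀ t, f * t ∈ FlatModel.sat p I Q.primeCompl → t ∈ FlatModel.sat p I Q.primeCompl) :
    ∃ a ∉ Q, ∀ (T : Type u) [CommRing T] [Algebra A T] [Algebra O T] [IsScalarTower O A T]
      [Module.Flat A T], IsUnit (algebraMap A T g) → IsUnit (algebraMap A T a) →
        (∀ t : T, algebraMap A T f * t ∈ I.map (algebraMap A T) → t ∈ I.map (algebraMap A T)) ∧
        Module.Flat O (T ⧸ (I ⊔ Ideal.span {f}).map (algebraMap A T)) := by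
  classical
  let A₁ := Localization.Away g
  let J : Ideal A₁ := I.map (algebraMap A A₁)
  haveI : Algebra.FinitePresentation A A₁ := IsLocalization.Away.finitePresentation g
  haveI : Algebra.FinitePresentation O A₁ := Algebra.FinitePresentation.trans O A A₁
  haveI : Algebra.FinitePresentation O (A₁ ⧸ J) :=
    Algebra.FinitePresentation.quotient (hIfg.map _)
  haveI : Module.Flat A A₁ := IsLocalization.flat A₁ (Submonoid.powers g)
  haveI : Module.Flat O (A₁ ⧸ J) := hflat A₁ (IsLocalization.Away.algebraMap_isUnit g)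
  let B := A₁ ⧸ J
  have hdisj : Disjoint (Submonoid.powers g : Set A) Q :=
    Set.disjoint_left.2 fun x ⟨n, hn⟩ hx => by
      subst hn; exact hg (hQ.mem_of_pow_mem n hx)
  let Q₁ : Ideal A₁ := Q.map (algebraMap A A₁)
  haveI hQ₁ : Q₁.IsPrime := IsLocalization.isPrime_of_isPrime_disjoint (Submonoid.powers g) A₁ Q hQ hdisj
  have hQ₁c : Q₁.comap (algebraMap A A₁) = Q :=
    IsLocalization.comap_map_of_isPrime_disjoint (Submonoid.powers g) A₁ hQ hdisj
  have hker : RingHom.ker (Ideal.Quotient.mk J) ≤ Q₁ := by rw [Ideal.mk_ker]; exact Ideal.map_mono hIQ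
  let QB : Ideal B := Q₁.map (Ideal.Quotient.mk J)
  haveI hQB : QB.IsPrime := Ideal.map_isPrime_of_surjective Ideal.Quotient.mk_surjective hker
  have hQBc : ∀ x : A₁, Ideal.Quotient.mk J x ∈ QB ↔ x ∈ Q₁ := fun x => by
    rw [← Ideal.mem_comap, Ideal.comap_map_of_surjective _ Ideal.Quotient.mk_surjective,
      ← RingHom.ker_eq_comap_bot, sup_eq_left.2 hker]
  let π : A →+* B := (Ideal.Quotient.mk J).comp (algebraMap A A₁)
  have hπ : ∀ x : A, π x ∈ QB ↔ x ∈ Q := fun x => by
    rw [show π x = Ideal.Quotient.mk J (algebraMap A A₁ x) from rfl, hQBc, ← Ideal.mem_comap, hQ₁c]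
  have hcO : ∀ r : O, algebraMap O B r = π (algebraMap O A r) := fun r => by
    show Ideal.Quotient.mk J (algebraMap O A₁ r) = _
    rw [IsScalarTower.algebraMap_apply O A A₁]
    rfl
  haveI : QB.LiesOver p := ⟨by
    refine Ideal.ext fun r => ?_
    show r ∈ p ↔ algebraMap O B r ∈ QB
    rw [hcO, hπ, Q.over_def p]
    rfl⟩
  have hsat : ∀ t : A, π t ∈ FlatModel.sat p (⊥ : Ideal B) QB.primeCompl ↔
      t ∈ FlatModel.sat p I Q.primeCompl := by
    intro t
    have hP : (p.map (algebraMap O B)) = (I ⊔ p.map (algebraMap O A)).map π := by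
      rw [Ideal.map_sup, Ideal.map_map,
        show π.comp (algebraMap O A) = algebraMap O B from RingHom.ext fun r => (hcO r).symm]
      refine (sup_eq_right.2 ?_).symm
      refine Ideal.map_le_iff_le_comap.2 fun x hx => ?_
      rw [Ideal.mem_comap]
      rw [show π x = 0 from Ideal.Quotient.eq_zero_iff_mem.2 (Ideal.mem_map_of_mem _ hx)]
      exact zero_mem _
    constructor
    · rintro ⟨w, hw, hwt⟩
      rw [bot_sup_eq, hP] at hwt
      obtain ⟨w, rfl⟩ := Ideal.Quotient.mk_surjective w
      have hw' : w ∉ Q₁ := fun h => hw ((hQBc w).2 h)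
      obtain ⟨⟨w₀, s⟩, hws⟩ := IsLocalization.surj (Submonoid.powers g) w
      have hw₀ : w₀ ∉ Q := fun h => hw' (by
        have h1 : w * algebraMap A A₁ s ∈ Q₁ := by rw [hws]; exact Ideal.mem_map_of_mem _ h
        refine (hQ₁.mem_or_mem h1).resolve_right fun h2 => ?_
        rw [← Ideal.mem_comap, hQ₁c] at h2
        exact Set.disjoint_left.1 hdisj s.2 h2)
      have h1 : π (w₀ * t) ∈ (I ⊔ p.map (algebraMap O A)).map π := by
        have : π (w₀ * t) = Ideal.Quotient.mk J (algebraMap A A₁ s) * (Ideal.Quotient.mk J w * π t) := by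
          show Ideal.Quotient.mk J (algebraMap A A₁ (w₀ * t)) = _
          rw [map_mul, ← hws, map_mul, map_mul]
          exact mul_comm _ _ |>.trans (by ring!)
        rw [this]
        exact Ideal.mul_mem_left _ _ hwt
      rw [show π = (Ideal.Quotient.mk J).comp (algebraMap A A₁) from rfl, ← Ideal.map_map,
        RingHom.comp_apply, ← Ideal.mem_comap,
        Ideal.comap_map_of_surjective _ Ideal.Quotient.mk_surjective, ← RingHom.ker_eq_comap_bot,
        Ideal.mk_ker, show J = I.map (algebraMap A A₁) from rfl, ← Ideal.map_sup,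
        sup_eq_left.2 (le_sup_left : I ≤ _),
        IsLocalization.algebraMap_mem_map_algebraMap_iff (Submonoid.powers g)] at h1
      obtain ⟨m, ⟨n, rfl⟩, hm⟩ := h1
      refine ⟨g ^ n * w₀, ?_, by rwa [mul_assoc]⟩
      exact fun h => (hQ.mem_or_mem h).elim (fun h' => hg (hQ.mem_of_pow_mem n h')) hw₀
    · rintro ⟨w, hw, hwt⟩
      refine ⟨π w, fun h => hw ((hπ w).1 h), ?_⟩
      rw [bot_sup_eq, hP, ← map_mul]
      exact Ideal.mem_map_of_mem _ hwt
  obtain ⟨h, hh, hgood⟩ := exists_slice_one (π f) p QB ((hπ f).2 hf) (by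
    intro t ht
    obtain ⟨t, rfl⟩ := Ideal.Quotient.mk_surjective t
    obtain ⟨⟨t₀, s⟩, hts⟩ := IsLocalization.surj (Submonoid.powers g) t
    have hs : IsUnit (Ideal.Quotient.mk J (algebraMap A A₁ s)) :=
      (IsLocalization.map_units A₁ s).map _
    have e : π t₀ = Ideal.Quotient.mk J t * Ideal.Quotient.mk J (algebraMap A A₁ s) := by
      rw [← map_mul, hts]; rfl
    have h1 : π (f * t₀) ∈ FlatModel.sat p (⊥ : Ideal B) QB.primeCompl := by
      rw [map_mul, e, ← mul_assoc]
      exact Ideal.mul_mem_right _ _ ht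
    have h2 : π t₀ ∈ FlatModel.sat p (⊥ : Ideal B) QB.primeCompl :=
      (hsat _).2 (hreg _ ((hsat _).1 h1))
    rw [e] at h2
    exact (Ideal.mul_unit_mem_iff_mem _ hs).1 h2)
  obtain ⟨h, rfl⟩ := Ideal.Quotient.mk_surjective h
  obtain ⟨⟨a, s⟩, has⟩ := IsLocalization.surj (Submonoid.powers g) h
  refine ⟨a, fun ha => hh ((hQBc h).2 ?_), fun T _ _ _ _ _ hgu hau => ?_⟩
  · have h1 : h * algebraMap A A₁ s ∈ Q₁ := by rw [has]; exact Ideal.mem_map_of_mem _ ha
    refine (hQ₁.mem_or_mem h1).resolve_right fun h2 => ?_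
    rw [← Ideal.mem_comap, hQ₁c] at h2
    exact Set.disjoint_left.1 hdisj s.2 h2
  letI : Algebra A₁ T := (IsLocalization.Away.lift (S := A₁) g (g := algebraMap A T) hgu).toAlgebra
  haveI hst : IsScalarTower A A₁ T := IsScalarTower.of_algebraMap_eq fun a =>
    (IsLocalization.Away.lift_eq (S := A₁) g hgu a).symm
  haveI : IsScalarTower O A₁ T := IsScalarTower.of_algebraMap_eq fun r => by
    rw [IsScalarTower.algebraMap_apply O A A₁, ← IsScalarTower.algebraMap_apply A A₁ T,
      ← IsScalarTower.algebraMap_apply O A T]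
  haveI : Module.Flat A₁ T := (Module.flat_iff_of_isLocalization A₁ (Submonoid.powers g) T).2 ‹_›
  let K : Ideal T := I.map (algebraMap A T)
  have hJK : J.map (algebraMap A₁ T) = K := by
    rw [Ideal.map_map, ← IsScalarTower.algebraMap_eq]
  haveI : Module.Flat B (T ⧸ J.map (algebraMap A₁ T)) := flat_quotient_map J
  haveI : IsScalarTower O B (T ⧸ J.map (algebraMap A₁ T)) :=
    IsScalarTower.of_algebraMap_eq (R := O) (S := B) (A := T ⧸ J.map (algebraMap A₁ T)) fun r => by
    show Ideal.Quotient.mk (J.map (algebraMap A₁ T)) (algebraMap O T r) =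
      Ideal.Quotient.mk (J.map (algebraMap A₁ T)) (algebraMap A₁ T (algebraMap O A₁ r))
    rw [← IsScalarTower.algebraMap_apply O A₁ T]
  have hu : IsUnit (algebraMap B (T ⧸ J.map (algebraMap A₁ T)) (Ideal.Quotient.mk J h)) := by
    show IsUnit (Ideal.Quotient.mk _ (algebraMap A₁ T h))
    refine IsUnit.map _ (isUnit_of_mul_isUnit_left (y := algebraMap A T s) ?_)
    rw [IsScalarTower.algebraMap_apply A A₁ T s, ← map_mul, has,
      ← IsScalarTower.algebraMap_apply]
    exact hau
  obtain ⟨hnz, hfl⟩ := hgood (T ⧸ J.map (algebraMap A₁ T)) hu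
  have hπf : algebraMap B (T ⧸ J.map (algebraMap A₁ T)) (π f) =
      Ideal.Quotient.mk _ (algebraMap A T f) := by
    show Ideal.Quotient.mk _ (algebraMap A₁ T (algebraMap A A₁ f)) = _
    rw [← IsScalarTower.algebraMap_apply]
  rw [hπf] at hnz hfl
  constructor
  · intro t ht
    rw [show I.map (algebraMap A T) = _ from hJK.symm] at ht ⊢
    refine Ideal.Quotient.eq_zero_iff_mem.1 (hnz _ ?_)
    rw [← map_mul]
    exact Ideal.Quotient.eq_zero_iff_mem.2 ht
  · have hK' : (I ⊔ Ideal.span {f}).map (algebraMap A T) =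
        J.map (algebraMap A₁ T) ⊔ Ideal.span {algebraMap A T f} := by
      rw [Ideal.map_sup, Ideal.map_span, Set.image_singleton, hJK]
    have e := DoubleQuot.quotQuotEquivQuotSupₐ O (J.map (algebraMap A₁ T)) (Ideal.span {algebraMap A T f})
    rw [show (Ideal.span {algebraMap A T f}).map (Ideal.Quotient.mkₐ O (J.map (algebraMap A₁ T))) =
      Ideal.span {Ideal.Quotient.mk (J.map (algebraMap A₁ T)) (algebraMap A T f)} by
        rw [Ideal.map_span, Set.image_singleton]; rfl] at e
    rw [hK']
    exact Module.Flat.of_linearEquiv e.toLinearEquiv.symm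

/-- Slicing by a sequence regular on the fibre at `Q`. -/
theorem exists_slice {A : Type u} [CommRing A] [Algebra O A] [Algebra.FinitePresentation O A]
    [Module.Flat O A] (p : Ideal O) [p.IsPrime] (Q : Ideal A) [hQ : Q.IsPrime] [Q.LiesOver p]
    (fs : List A) (hfs : ∀ f ∈ fs, f ∈ Q)
    (hreg : ∀ i (hi : i < fs.length), ∀ t, fs[i] * t ∈ FlatModel.sat p (Ideal.ofList (fs.take i)) Q.primeCompl →
      t ∈ FlatModel.sat p (Ideal.ofList (fs.take i)) Q.primeCompl) :
    ∃ g ∉ Q, ∀ (T : Type u) [CommRing T] [Algebra A T] [Algebra O T] [IsScalarTower O A T]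
      [Module.Flat A T], IsUnit (algebraMap A T g) →
        RingTheory.Sequence.IsWeaklyRegular T (fs.map (algebraMap A T)) ∧
        ∀ i, Module.Flat O (T ⧸ (Ideal.ofList (fs.take i)).map (algebraMap A T)) := by
  classical
  induction fs using List.reverseRecOn with
  | nil =>
    refine ⟨1, fun h => hQ.ne_top ((Ideal.eq_top_iff_one Q).2 h), fun T _ _ _ _ _ _ =>
      ⟨RingTheory.Sequence.IsWeaklyRegular.nil T T, fun i => ?_⟩⟩
    have : Module.Flat O T := Module.Flat.trans O A T
    exact Module.Flat.of_linearEquiv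
      ((Submodule.quotEquivOfEqBot _ (by simp : (Ideal.ofList (([] : List A).take i)).map (algebraMap A T) = ⊥)).restrictScalars O)
  | append_singleton ys f ih =>
    obtain ⟨g, hg, hgood⟩ := ih (fun y hy => hfs y (List.mem_append_left _ hy)) (fun i hi => by
      have := hreg i (by simp; omega)
      rwa [List.getElem_append_left hi, List.take_append_of_le_length hi.le] at this)
    have hregf := hreg ys.length (by simp)
    rw [List.getElem_concat_length rfl, List.take_left] at hregf
    obtain ⟨a, ha, hstep⟩ := exists_slice_step (Ideal.ofList ys)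
      ⟨ys.toFinset, by rw [Ideal.ofList]; congr 1; ext; simp⟩ g p Q hg
      (Ideal.span_le.2 fun y hy => hfs y (List.mem_append_left _ hy)) f (hfs f (by simp))
      (fun T _ _ _ _ _ hu => by have := (hgood T hu).2 ys.length; rwa [List.take_length] at this) hregf
    refine ⟨g * a, fun h => (hQ.mem_or_mem h).elim hg ha, fun T _ _ _ _ _ hu => ?_⟩
    rw [map_mul, IsUnit.mul_iff] at hu
    obtain ⟨hwr, hfl⟩ := hgood T hu.1
    obtain ⟨hnz, hfl'⟩ := hstep T hu.1 hu.2
    constructor
    · rw [List.map_append, List.map_singleton, RingTheory.Sequence.isWeaklyRegular_append_iff]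
      refine ⟨hwr, ?_⟩
      rw [RingTheory.Sequence.isWeaklyRegular_cons_iff]
      refine ⟨?_, RingTheory.Sequence.IsWeaklyRegular.nil T _⟩
      have hI : (Ideal.ofList (ys.map (algebraMap A T)) • ⊤ : Submodule T T) =
          (Ideal.ofList ys).map (algebraMap A T) := by
        rw [Ideal.map_ofList, Ideal.smul_eq_mul, Ideal.mul_top]
      refine isSMulRegular_iff_right_eq_zero_of_smul.2 fun z hz => ?_
      obtain ⟨t, rfl⟩ := Submodule.Quotient.mk_surjective _ z
      rw [← Submodule.Quotient.mk_smul, Submodule.Quotient.mk_eq_zero, hI, smul_eq_mul] at hz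
      rw [Submodule.Quotient.mk_eq_zero, hI]
      exact hnz t hz
    · intro i
      rcases le_or_gt i ys.length with hi | hi
      · rw [List.take_append_of_le_length hi]
        exact hfl i
      · rw [List.take_of_length_le (by simp; omega), Ideal.ofList_append, Ideal.ofList_singleton]
        exact hfl'

/-- Regular sequences with flat quotients stay weakly regular after tensoring with an algebra. -/
theorem isWeaklyRegular_baseChange {T : Type u} [CommRing T] [Algebra O T] (O' : Type u) [CommRing O']
    [Algebra O O'] {T' : Type u} [CommRing T'] [Algebra O T'] [Algebra T T'] [Algebra O' T']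
    [IsScalarTower O T T'] [IsScalarTower O O' T'] [Algebra.IsPushout O O' T T'] (rs : List T)
    (hwr : RingTheory.Sequence.IsWeaklyRegular T rs)
    (hflat : ∀ i, Module.Flat O (T ⧸ Ideal.ofList (rs.take i))) :
    RingTheory.Sequence.IsWeaklyRegular T' (rs.map (algebraMap T T')) := by
  rw [RingTheory.Sequence.isWeaklyRegular_map_algebraMap_iff]
  refine ⟨fun i hi => ?_⟩
  let I : Ideal T := Ideal.ofList (rs.take i)
  let f := rs[i]
  have hI : (I • ⊤ : Submodule T T) = I := by rw [Ideal.smul_eq_mul, Ideal.mul_top]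
  have hreg : IsSMulRegular (T ⧸ I) f := by
    have h := hwr.regular_mod_prev i hi
    exact ((Submodule.quotEquivOfEq _ _ hI).isSMulRegular_congr f).1 h
  let μ : (T ⧸ I) →ₗ[O] (T ⧸ I) := (LinearMap.lsmul T (T ⧸ I) f).restrictScalars O
  let I' : Ideal T := Ideal.ofList (rs.take (i + 1))
  have hI' : I' = I ⊔ Ideal.span {f} := by
    show Ideal.ofList _ = _
    rw [List.take_succ_eq_append_getElem hi, Ideal.ofList_append, Ideal.ofList_singleton]
  let π : (T ⧸ I) →ₗ[O] (T ⧸ I') :=
    (Ideal.Quotient.factorₐ O (le_sup_left.trans hI'.ge : I ≤ I')).toLinearMap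
  have hex : Function.Exact μ π := by
    intro z
    obtain ⟨z, rfl⟩ := Ideal.Quotient.mk_surjective z
    constructor
    · intro hz
      have hz' : z ∈ I' := Ideal.Quotient.eq_zero_iff_mem.1 hz
      rw [hI'] at hz'
      obtain ⟨a, ha, b, hb, rfl⟩ := Submodule.mem_sup.1 hz'
      obtain ⟨c, rfl⟩ := Ideal.mem_span_singleton'.1 hb
      refine ⟨Ideal.Quotient.mk I c, ?_⟩
      show f • Ideal.Quotient.mk I c = _
      rw [map_add, Ideal.Quotient.eq_zero_iff_mem.2 ha, zero_add, mul_comm, map_mul]
      rfl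
    · rintro ⟨c, hc⟩
      obtain ⟨c, rfl⟩ := Ideal.Quotient.mk_surjective c
      rw [← hc]
      show Ideal.Quotient.mk I' (f * c) = 0
      rw [Ideal.Quotient.eq_zero_iff_mem, hI']
      exact Ideal.mem_sup_right (Ideal.mul_mem_right _ _ (Ideal.mem_span_singleton_self f))
  have hfl : Module.Flat O (T ⧸ I') := hflat (i + 1)
  have hπ : Function.Surjective π := fun z => by
    obtain ⟨z, rfl⟩ := Ideal.Quotient.mk_surjective z
    exact ⟨Ideal.Quotient.mk I z, rfl⟩
  have hinj : Function.Injective (μ.lTensor O') :=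
    LinearMap.lTensor_injective_of_exact_of_flat π hπ μ hreg hex O'
  let e := Algebra.IsPushout.cancelBaseChange O O' T T' (T ⧸ I)
  have he : ∀ z, e (f • z) = μ.lTensor O' (e z) := by
    intro z
    obtain ⟨w, rfl⟩ := e.symm.surjective z
    rw [e.apply_symm_apply]
    apply e.symm.injective
    rw [e.symm_apply_apply]
    induction w using TensorProduct.induction_on with
    | zero => simp
    | add a b ha hb => rw [map_add, smul_add, ha, hb, map_add, map_add]
    | tmul a b =>
      rw [LinearMap.lTensor_tmul, Algebra.IsPushout.cancelBaseChange_symm_tmul,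
        Algebra.IsPushout.cancelBaseChange_symm_tmul, ← TensorProduct.tmul_smul]
      rfl
  have h2 : IsSMulRegular (T' ⊗[T] (T ⧸ I)) f := fun a b hab => e.injective (hinj (by
    rw [← he, ← he]
    exact congrArg e hab))
  exact ((TensorProduct.tensorQuotEquivQuotSMul T' I).isSMulRegular_congr f).1 h2

end Groth.Agent.Triage.SliceFlat
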