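import Groth.Agent.S2066
import Groth.Agent.S2067
import Mathlib

/-! Finite modules over Noetherian rings are pseudo-coherent. -/

universe u

open CategoryTheory CategoryTheory.Limits
open scoped ZeroObject

attribute [local instance] HasDerivedCategory.standard

namespace Triage.NoethPC

variable {A : Type u} [CommRing A]

theorem isZero_homology_inD (M : Type u) [AddCommGroup M] [Module A M] (i : ℤ) (hi : 0 < i) :
    IsZero ((DerivedCategory.homologyFunctor (ModuleCat.{u} A) i).obj (Dual.inD A M)) :=
  DerivedCategory.isZero_of_isLE _ 0 i hi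

theorem pc_of_pos (M : Type u) [AddCommGroup M] [Module A M] (m : ℤ) (hm : 0 < m) :
    DRing.IsPseudoCoherentModule A m M := by
  have hz : ∀ i : ℤ, IsZero ((0 : DRing.Cx A).X i) := fun i =>
    (HomologicalComplex.eval _ _ i).map_isZero (isZero_zero _)
  refine ⟨0, 0, 0, 0, fun i _ => hz i, fun i => ?_, fun i hi => ?_, ?_⟩
  · have : Subsingleton ((0 : DRing.Cx A).X i) := ModuleCat.subsingleton_of_isZero (hz i)
    exact ⟨inferInstance, inferInstance⟩
  · refine ⟨0, ?_, (isZero_homology_inD M i (hm.trans hi)).eq_of_src _ _⟩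
    exact ((DerivedCategory.homologyFunctor _ i).map_isZero
      (DerivedCategory.Q.map_isZero (isZero_zero _))).eq_of_src _ _
  · exact IsZero.epi (isZero_homology_inD M m hm) _

theorem pc_of_free (M : Type u) [AddCommGroup M] [Module A M] [Module.Finite A M] [Module.Free A M] (m : ℤ) :
    DRing.IsPseudoCoherentModule A m M := by
  let E : DRing.Cx A := (HomologicalComplex.single _ (ComplexShape.up ℤ) 0).obj (ModuleCat.of A M)
  let e : DRing.toD E ≅ Dual.inD A M :=
    ((SingleFunctors.evaluation _ _ 0).mapIso
      (DerivedCategory.singleFunctorsPostcompQIso (ModuleCat.{u} A))).symm.app (ModuleCat.of A M)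
  refine ⟨E, 0, 0, e.hom, fun i hi => ?_, fun i => ?_, fun i _ => inferInstance, inferInstance⟩
  · exact HomologicalComplex.isZero_single_obj_X _ _ _ _ (by omega)
  · by_cases h : i = 0
    · subst h
      let f := (HomologicalComplex.singleObjXSelf (ComplexShape.up ℤ) 0 (ModuleCat.of A M)).toLinearEquiv
      exact ⟨Module.Finite.equiv f.symm, Module.Free.of_equiv f.symm⟩
    · have : Subsingleton (E.X i) :=
        ModuleCat.subsingleton_of_isZero (HomologicalComplex.isZero_single_obj_X _ _ _ _ h)
      exact ⟨inferInstance, inferInstance⟩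

theorem pc_of_finite [IsNoetherianRing A] (k : ℕ) : ∀ (M : Type u) [AddCommGroup M] [Module A M]
    [Module.Finite A M], DRing.IsPseudoCoherentModule A (1 - k) M := by
  induction k with
  | zero => intro M _ _ _; exact pc_of_pos M _ (by norm_num)
  | succ k ih =>
    intro M _ _ _
    obtain ⟨n, π, hπ⟩ := Module.Finite.exists_fin' A M
    let S : ShortComplex (ModuleCat.{u} A) := ShortComplex.mk (ModuleCat.ofHom (LinearMap.ker π).subtype)
      (ModuleCat.ofHom π) (by ext x; exact x.2)
    have hS : S.ShortExact :=
      { exact := (ShortComplex.moduleCat_exact_iff S).2 fun x hx => ⟨⟨x, hx⟩, rfl⟩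
        mono_f := (ModuleCat.mono_iff_injective _).2 Subtype.val_injective
        epi_g := (ModuleCat.epi_iff_surjective _).2 hπ }
    have h1 := ih (LinearMap.ker π)
    have h2 := pc_of_free (A := A) (Fin n → A) (1 - ((k + 1 : ℕ) : ℤ))
    have h3 : DRing.IsPseudoCoherent A (1 - ((k + 1 : ℕ) : ℤ) + 1) (Dual.inD A (LinearMap.ker π)) := by
      rw [show (1 - ((k + 1 : ℕ) : ℤ) + 1) = 1 - (k : ℤ) by push_cast; ring]; exact h1
    exact (Groth.Agent.S2067.result hS.singleTriangle hS.singleTriangle_distinguished _).1 h3 h2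

theorem pc' [IsNoetherianRing A] (M : Type u) [AddCommGroup M] [Module A M] [Module.Finite A M] :
    DRing.IsPseudoCoherentModule' A M := by
  refine (Groth.Agent.S2066.result _).1.1 fun m => ?_
  by_cases hm : 0 < m
  · exact pc_of_pos M m hm
  · have := pc_of_finite (A := A) (1 - m).toNat M
    rwa [show (1 : ℤ) - ((1 - m).toNat : ℤ) = m by omega] at this

end Triage.NoethPC
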