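import Groth.Agent.Triage.ZMTBir
import Mathlib.AlgebraicGeometry.SpreadingOut

/-!
# Zariski's main theorem at a normal point, birational case
-/

universe u

open CategoryTheory Limits AlgebraicGeometry TopologicalSpace

set_option backward.isDefEq.respectTransparency false
set_option backward.isDefEq.respectTransparency.types false

namespace Groth.Agent.Triage.ZMTBirPt

lemma bijective_of_fractions {R S K : Type u} [CommRing R] [CommRing S] [CommRing K]
    [Algebra R K] [IsFractionRing R K] [IsDomain R] [IsIntegrallyClosed R]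
    (φ : R →+* S) [IsLocalHom φ] (ψ : S →+* K) (hψ : Function.Injective ψ)
    (hc : ψ.comp φ = algebraMap R K)
    (h : ∀ t : S, ∃ c s : S, φ.IsIntegralElem c ∧ φ.IsIntegralElem s ∧ IsUnit s ∧ t * s = c) :
    Function.Bijective φ := by
  have inj : Function.Injective φ := fun a b hab => IsFractionRing.injective R K (by
    rw [← hc]; exact congrArg ψ hab)
  have hint : ∀ c, φ.IsIntegralElem c → ∃ r, φ r = c := by
    rintro c ⟨P, hP, hPc⟩
    have h1 : IsIntegral R (ψ c) := by
      refine ⟨P, hP, ?_⟩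
      rw [← hc, ← Polynomial.hom_eval₂, hPc, map_zero]
    obtain ⟨r, hr⟩ := IsIntegrallyClosed.isIntegral_iff.1 h1
    refine ⟨r, hψ ?_⟩
    rw [← hr, ← hc]; rfl
  refine ⟨inj, fun t => ?_⟩
  obtain ⟨c, s, hci, hsi, hs, hts⟩ := h t
  obtain ⟨a, rfl⟩ := hint c hci
  obtain ⟨b, rfl⟩ := hint s hsi
  obtain ⟨u, rfl⟩ := (isUnit_map_iff φ b).1 hs
  refine ⟨a * ↑u⁻¹, ?_⟩
  rw [map_mul, ← hts, mul_assoc, ← map_mul, Units.mul_inv, map_one, mul_one]

variable {X Y : Scheme.{u}}

/-- Every element of the local ring at a quasi-finite point is a fraction of integral elements. -/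
lemma exists_integral_fraction [IsAffine Y] (f : X ⟶ Y) [LocallyOfFiniteType f] [IsSeparated f]
    [QuasiCompact f] (x : X) (hx : f.QuasiFiniteAt x) (t : X.presheaf.stalk x) :
    ∃ c s : X.presheaf.stalk x, (f.stalkMap x).hom.IsIntegralElem c ∧
      (f.stalkMap x).hom.IsIntegralElem s ∧ IsUnit s ∧ t * s = c := by
  obtain ⟨V, hxV, hV⟩ := f.exists_mem_and_isIso_morphismRestrict_toNormalization x hx
  let j := f.toNormalization
  haveI : IsIso (j.stalkMap x) := by
    have h1 : IsIso ((j ∣_ V).stalkMap ⟨x, hxV⟩) := inferInstance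
    exact ((MorphismProperty.isomorphisms CommRingCat).arrow_mk_iso_iff
      (morphismRestrictStalkMap j V ⟨x, hxV⟩)).1 h1
  let C := Γ(f.normalization, f.fromNormalization ⁻¹ᵁ ⊤)
  have hW : IsAffineOpen (f.fromNormalization ⁻¹ᵁ ⊤) := (isAffineOpen_top Y).preimage _
  let n : ↥(f.fromNormalization ⁻¹ᵁ ⊤) := ⟨j x, trivial⟩
  letI := f.normalization.presheaf.algebra_section_stalk n
  haveI := hW.isLocalization_stalk n
  let ev : C →+* X.presheaf.stalk x :=
    (f.normalization.presheaf.germ (f.fromNormalization ⁻¹ᵁ ⊤) (j x) trivial ≫ j.stalkMap x).hom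
  have hev : ∀ c, (f.stalkMap x).hom.IsIntegralElem (ev c) := by
    intro c
    obtain ⟨P, hP, hPc⟩ := f.fromNormalization.isIntegral_app ⊤ (isAffineOpen_top Y) c
    refine ⟨P.map (Y.presheaf.germ ⊤ (f x) trivial).hom, hP.map _, ?_⟩
    have h2 := congrArg ev hPc
    rw [Polynomial.hom_eval₂, map_zero] at h2
    rw [Polynomial.eval₂_map]
    have e : (f.stalkMap x).hom.comp (Y.presheaf.germ ⊤ (f x) trivial).hom =
        ev.comp (f.fromNormalization.app ⊤).hom := by
      refine RingHom.ext fun r => ?_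
      show f.stalkMap x (Y.presheaf.germ ⊤ (f x) trivial r) =
        j.stalkMap x (f.normalization.presheaf.germ (f.fromNormalization ⁻¹ᵁ ⊤) (j x) trivial
          (f.fromNormalization.app ⊤ r))
      erw [Scheme.Hom.germ_stalkMap_apply f ⊤ x trivial r,
        Scheme.Hom.germ_stalkMap_apply j (f.fromNormalization ⁻¹ᵁ ⊤) x trivial]
      have gen : ∀ (g : X ⟶ Y) (_ : g = f) (r : Γ(Y, ⊤)),
          X.presheaf.germ (f ⁻¹ᵁ ⊤) x trivial (f.app ⊤ r) = X.presheaf.germ (g ⁻¹ᵁ ⊤) x trivial (g.app ⊤ r) := by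
        rintro g rfl r; rfl
      exact gen _ f.toNormalization_fromNormalization r
    rw [e]
    exact h2
  obtain ⟨⟨c, s⟩, hcs⟩ := IsLocalization.surj (hW.primeIdealOf n).asIdeal.primeCompl (inv (j.stalkMap x) t)
  refine ⟨ev c, ev s, hev _, hev _, ?_, ?_⟩
  · exact (IsLocalization.map_units (f.normalization.presheaf.stalk (j x)) s).map (j.stalkMap x).hom
  · have h3 := congrArg (j.stalkMap x) hcs
    rw [map_mul, ← CommRingCat.comp_apply, IsIso.inv_hom_id, CommRingCat.id_apply] at h3
    exact h3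

theorem isIso_stalkMap [IsIntegral X] [IsIntegral Y] [IsAffine Y] (f : X ⟶ Y) [LocallyOfFiniteType f]
    [IsSeparated f] [QuasiCompact f] (hgen : f (genericPoint X) = genericPoint Y)
    (hbir : IsIso (f.stalkMap (genericPoint X))) (x : X) (hx : f.QuasiFiniteAt x)
    (hy : IsIntegrallyClosed (Y.presheaf.stalk (f x))) : IsIso (f.stalkMap x) := by
  rw [ConcreteCategory.isIso_iff_bijective]
  haveI := hbir
  have hsp : genericPoint X ⤳ x := genericPoint_specializes x
  let ρ := Y.presheaf.stalkSpecializes (hsp.map f.continuous)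
  letI : Algebra (Y.presheaf.stalk (f x)) (Y.presheaf.stalk (f (genericPoint X))) := ρ.hom.toAlgebra
  haveI : IsFractionRing (Y.presheaf.stalk (f x)) (Y.presheaf.stalk (f (genericPoint X))) := by
    have key : ∀ (z : Y) (hz : z = genericPoint Y) (h : z ⤳ f x),
        @IsFractionRing (Y.presheaf.stalk (f x)) _ (Y.presheaf.stalk z) _
          (Y.presheaf.stalkSpecializes h).hom.toAlgebra := by
      rintro z rfl h
      exact instIsFractionRingCarrierStalkCommRingCatPresheafFunctionField Y (f x)
    exact key _ hgen _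
  refine bijective_of_fractions (f.stalkMap x).hom
    (X.presheaf.stalkSpecializes hsp ≫ inv (f.stalkMap (genericPoint X))).hom ?_ ?_
    (exists_integral_fraction f x hx)
  · rw [CommRingCat.hom_comp, RingHom.coe_comp]
    exact (ConcreteCategory.bijective_of_isIso (inv (f.stalkMap (genericPoint X)))).1.comp
      (IsFractionRing.injective (X.presheaf.stalk x) X.functionField)
  · show (f.stalkMap x ≫ X.presheaf.stalkSpecializes hsp ≫ inv (f.stalkMap (genericPoint X))).hom = ρ.hom
    rw [← Scheme.Hom.stalkSpecializes_stalkMap_assoc f _ _ hsp, IsIso.hom_inv_id, Category.comp_id]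

end Groth.Agent.Triage.ZMTBirPt
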