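import Groth.Agent.NormFieldX.Props
import Mathlib.AlgebraicGeometry.SpreadingOut
import Mathlib.AlgebraicGeometry.Morphisms.QuasiFinite
import Mathlib.RingTheory.Algebraic.Integral

/-!
# Relative normalization in a normal integral scheme
-/

universe u

open CategoryTheory Limits AlgebraicGeometry TopologicalSpace

set_option backward.isDefEq.respectTransparency false
set_option backward.isDefEq.respectTransparency.types false

namespace Groth.Agent.Triage.NormInX

variable {X Y : Scheme.{u}} [IsIntegral X]

/-- Elements of the function field integral over sections are sections, on a normal scheme. -/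
theorem exists_section (hN : ∀ x : X, IsIntegrallyClosed (X.presheaf.stalk x)) {V : X.Opens}
    (hξ : genericPoint X ∈ V) (y : X.functionField)
    (hy : (X.presheaf.germ V (genericPoint X) hξ).hom.IsIntegralElem y) :
    ∃ s, X.presheaf.germ V (genericPoint X) hξ s = y := by
  have hloc : ∀ x : V, ∃ (W : X.Opens) (_ : x.1 ∈ W) (hW : W ≤ V) (s : Γ(X, W)),
      X.presheaf.germ W (genericPoint X) ((genericPoint_specializes x.1).mem_open W.isOpen (by assumption)) s = y := by
    rintro ⟨x, hx⟩
    haveI := hN x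
    obtain ⟨P, hP, hPy⟩ := hy
    have hint : IsIntegral (X.presheaf.stalk x) y := by
      refine ⟨P.map (X.presheaf.germ V x hx).hom, hP.map _, ?_⟩
      rw [Polynomial.eval₂_map]
      have e : (algebraMap (X.presheaf.stalk x) X.functionField).comp (X.presheaf.germ V x hx).hom =
          (X.presheaf.germ V (genericPoint X) hξ).hom :=
        RingHom.ext fun r => TopCat.Presheaf.germ_stalkSpecializes_apply X.presheaf hx _ r
      rw [e]
      exact hPy
    obtain ⟨t, ht⟩ := IsIntegrallyClosed.isIntegral_iff.1 hint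
    obtain ⟨W₀, hxW₀, s₀, rfl⟩ := X.presheaf.exists_germ_eq (x := x) t
    refine ⟨W₀ ⊓ V, ⟨hxW₀, hx⟩, inf_le_right, X.presheaf.map (homOfLE inf_le_left).op s₀, ?_⟩
    rw [← ht, X.presheaf.germ_res_apply]
    exact (TopCat.Presheaf.germ_stalkSpecializes_apply X.presheaf hxW₀ _ s₀).symm
  choose W hxW hW s hs using hloc
  have hξW : ∀ p, genericPoint X ∈ W p := fun p => (genericPoint_specializes p.1).mem_open (W p).isOpen (hxW p)
  obtain ⟨S, hS, -⟩ := TopCat.Sheaf.existsUnique_gluing' X.sheaf W V (fun p => homOfLE (hW p))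
    (fun p hp => Opens.mem_iSup.2 ⟨⟨p, hp⟩, hxW ⟨p, hp⟩⟩) s fun p q => by
      apply germ_injective_of_isIntegral X (genericPoint X) (U := W p ⊓ W q) ⟨hξW p, hξW q⟩
      have e1 := X.presheaf.germ_res_apply (homOfLE (inf_le_left : W p ⊓ W q ≤ W p)) (genericPoint X) ⟨hξW p, hξW q⟩ (s p)
      have e2 := X.presheaf.germ_res_apply (homOfLE (inf_le_right : W p ⊓ W q ≤ W q)) (genericPoint X) ⟨hξW p, hξW q⟩ (s q)
      exact (e1.trans (hs p)).trans (e2.trans (hs q)).symm
  refine ⟨S, ?_⟩
  rw [← hs ⟨_, hξ⟩, ← hS ⟨_, hξ⟩]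
  exact (X.presheaf.germ_res_apply _ _ _ _).symm

variable (f : X ⟶ Y) [QuasiCompact f] [QuasiSeparated f] {U : Y.Opens}

/-- Evaluation of sections of the normalization in the function field of the source. -/
noncomputable def ev (hξ : genericPoint X ∈ f ⁻¹ᵁ U) :
    Γ(f.normalization, f.fromNormalization ⁻¹ᵁ U) →+* X.functionField :=
  (f.normalization.presheaf.germ (f.fromNormalization ⁻¹ᵁ U) (f.toNormalization (genericPoint X)) (by
    show (f.toNormalization ≫ f.fromNormalization) (genericPoint X) ∈ U
    rw [Scheme.Hom.toNormalization_fromNormalization]; exact hξ) ≫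
    f.toNormalization.stalkMap (genericPoint X)).hom

theorem ev_spec (hN : ∀ x : X, IsIntegrallyClosed (X.presheaf.stalk x)) (hU : IsAffineOpen U)
    (hξ : genericPoint X ∈ f ⁻¹ᵁ U) :
    Function.Injective (ev f hξ) ∧
      (∀ y : X.functionField, y ∈ Set.range (ev f hξ) ↔
        ((X.presheaf.germ (f ⁻¹ᵁ U) (genericPoint X) hξ).hom.comp (f.app U).hom).IsIntegralElem y) ∧
      ∀ a, ev f hξ (f.fromNormalization.app U a) = X.presheaf.germ (f ⁻¹ᵁ U) (genericPoint X) hξ (f.app U a) := by
  letI := (f.app U).hom.toAlgebra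
  have hle : f ⁻¹ᵁ U ≤ f.toNormalization ⁻¹ᵁ f.fromNormalization ⁻¹ᵁ U := by
    rw [← Scheme.Hom.comp_preimage, Scheme.Hom.toNormalization_fromNormalization]
  let γ := (X.presheaf.germ (f ⁻¹ᵁ U) (genericPoint X) hξ).hom
  have he : ∀ c, ev f hξ c = γ ((f.normalizationObjIso hU).hom c).1 := by
    intro c
    have h1 := ConcreteCategory.congr_hom (f.normalizationObjIso_hom_val hU) c
    refine Eq.trans ?_ (congrArg γ h1).symm
    show f.toNormalization.stalkMap _ (f.normalization.presheaf.germ _ _ _ c) = _
    erw [Scheme.Hom.germ_stalkMap_apply]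
    exact (X.presheaf.germ_res_apply (homOfLE hle) _ hξ _).symm
  have hγ : Function.Injective γ := germ_injective_of_isIntegral X _ hξ
  have hb : Function.Bijective (f.normalizationObjIso hU).hom :=
    (ConcreteCategory.isIso_iff_bijective _).1 inferInstance
  refine ⟨fun a b h => hb.1 (Subtype.ext (hγ (by rw [← he, ← he, h]))), fun y => ⟨?_, fun hy => ?_⟩, fun a => ?_⟩
  · rintro ⟨c, rfl⟩
    obtain ⟨P, hP, hPc⟩ := ((f.normalizationObjIso hU).hom c).2
    refine ⟨P, hP, ?_⟩
    rw [he, ← Polynomial.hom_eval₂]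
    exact (congrArg γ hPc).trans (map_zero _)
  · obtain ⟨P, hP, hPy⟩ := hy
    obtain ⟨s, rfl⟩ := exists_section hN hξ y ⟨P.map (f.app U).hom, hP.map _, by rw [Polynomial.eval₂_map]; exact hPy⟩
    have hs : IsIntegral Γ(Y, U) s := ⟨P, hP, hγ (by rw [map_zero, Polynomial.hom_eval₂]; exact hPy)⟩
    obtain ⟨c, hc⟩ := hb.2 ⟨s, hs⟩
    exact ⟨c, (he c).trans (by rw [hc])⟩
  · rw [he]
    have h2 := ConcreteCategory.congr_hom (f.fromNormalization_app hU) a
    rw [show f.fromNormalization.app U a = (f.normalizationObjIso hU).inv (algebraMap _ _ a) from h2,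
      ← CommRingCat.comp_apply, Iso.inv_hom_id]
    rfl

theorem isIntegrallyClosed_stalk (hN : ∀ x : X, IsIntegrallyClosed (X.presheaf.stalk x))
    [IsIntegral Y] [IsDominant f] (n : f.normalization) :
    IsIntegrallyClosed (f.normalization.presheaf.stalk n) := by
  obtain ⟨U, hU, hnU, -⟩ := exists_isAffineOpen_mem_and_subset (x := f.fromNormalization n) (U := ⊤) trivial
  have hξ : genericPoint X ∈ f ⁻¹ᵁ U := by
    obtain ⟨x, hx⟩ := f.denseRange.exists_mem_open U.isOpen ⟨_, hnU⟩
    exact (genericPoint_specializes x).mem_open (f ⁻¹ᵁ U).isOpen hx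
  letI : Algebra Γ(Y, U) X.functionField :=
    ((X.presheaf.germ (f ⁻¹ᵁ U) (genericPoint X) hξ).hom.comp (f.app U).hom).toAlgebra
  obtain ⟨hinj, hrange, -⟩ := ev_spec f hN hU hξ
  let C := Γ(f.normalization, f.fromNormalization ⁻¹ᵁ U)
  let e : C ≃+* integralClosure Γ(Y, U) X.functionField :=
    RingEquiv.ofBijective ((ev f hξ).codRestrict (integralClosure Γ(Y, U) X.functionField).toSubring
        fun c => (hrange _).1 ⟨c, rfl⟩)
      ⟨fun a b h => hinj (congrArg Subtype.val h), fun y => by
        obtain ⟨c, hc⟩ := (hrange y.1).2 y.2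
        exact ⟨c, Subtype.ext hc⟩⟩
  haveI : IsDomain C := e.toMulEquiv.isDomain
  haveI := NormFieldX.isIntegrallyClosed_integralClosure Γ(Y, U) X.functionField
  haveI : IsIntegrallyClosed C := IsIntegrallyClosed.of_equiv e.symm
  have hW : IsAffineOpen (f.fromNormalization ⁻¹ᵁ U) := hU.preimage _
  letI := f.normalization.presheaf.algebra_section_stalk (⟨n, hnU⟩ : f.fromNormalization ⁻¹ᵁ U)
  haveI := hW.isLocalization_stalk (⟨n, hnU⟩ : f.fromNormalization ⁻¹ᵁ U)
  let p := (hW.primeIdealOf ⟨n, hnU⟩).asIdeal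
  exact isIntegrallyClosed_of_isLocalization _ p.primeCompl p.primeCompl_le_nonZeroDivisors

theorem bijective_stalkMap_genericPoint (hN : ∀ x : X, IsIntegrallyClosed (X.presheaf.stalk x))
    [IsIntegral Y] [IsDominant f] [LocallyQuasiFinite f] :
    f.toNormalization (genericPoint X) = genericPoint f.normalization ∧
      Function.Bijective (f.toNormalization.stalkMap (genericPoint X)).hom := by
  have hfη : f (genericPoint X) = genericPoint Y :=
    (((genericPoint_spec X).image f.continuous).eq (by
      simpa [Set.image_univ, f.denseRange.closure_range] using genericPoint_spec Y))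
  have hjη : f.toNormalization (genericPoint X) = genericPoint f.normalization :=
    (((genericPoint_spec X).image f.toNormalization.continuous).eq (by
      simpa [Set.image_univ, f.toNormalization.denseRange.closure_range] using genericPoint_spec f.normalization))
  refine ⟨hjη, ?_, fun y => ?_⟩
  · have key : ∀ z : f.normalization, z = genericPoint f.normalization → IsField (f.normalization.presheaf.stalk z) := by
      rintro z rfl; exact Field.toIsField f.normalization.functionField
    letI := (key _ hjη).toField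
    exact (f.toNormalization.stalkMap (genericPoint X)).hom.injective
  obtain ⟨U, hU, hηU, -⟩ := exists_isAffineOpen_mem_and_subset (x := genericPoint Y) (U := ⊤) trivial
  have hξ : genericPoint X ∈ f ⁻¹ᵁ U := show f (genericPoint X) ∈ U by rw [hfη]; exact hηU
  obtain ⟨-, hrange, hbase⟩ := ev_spec f hN hU hξ
  haveI : Nonempty U := ⟨⟨_, hηU⟩⟩
  have hK : ∀ z : Y, ∀ hz : z ∈ U, z = genericPoint Y →
      IsField (Y.presheaf.stalk z) ∧
        letI := (Y.presheaf.germ U z hz).hom.toAlgebra
        IsFractionRing Γ(Y, U) (Y.presheaf.stalk z) := by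
    rintro z hz rfl
    exact ⟨Field.toIsField Y.functionField, functionField_isFractionRing_of_isAffineOpen Y U hU⟩
  obtain ⟨hF, hfrac⟩ := hK (f (genericPoint X)) hξ hfη
  letI := hF.toField
  letI aF : Algebra (Y.presheaf.stalk (f (genericPoint X))) X.functionField :=
    (f.stalkMap (genericPoint X)).hom.toAlgebra
  letI := (Y.presheaf.germ U (f (genericPoint X)) hξ).hom.toAlgebra
  letI : Algebra Γ(Y, U) X.functionField :=
    ((X.presheaf.germ (f ⁻¹ᵁ U) (genericPoint X) hξ).hom.comp (f.app U).hom).toAlgebra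
  haveI : IsScalarTower Γ(Y, U) (Y.presheaf.stalk (f (genericPoint X))) X.functionField :=
    IsScalarTower.of_algebraMap_eq fun a => (Scheme.Hom.germ_stalkMap_apply f U (genericPoint X) hξ a).symm
  haveI : Algebra.QuasiFinite (Y.presheaf.stalk (f (genericPoint X))) X.functionField :=
    f.quasiFiniteAt (genericPoint X)
  haveI : Module.Finite (Y.presheaf.stalk (f (genericPoint X))) X.functionField := .of_quasiFinite
  have halg : IsAlgebraic Γ(Y, U) y :=
    (IsFractionRing.isAlgebraic_iff Γ(Y, U) (Y.presheaf.stalk (f (genericPoint X))) X.functionField).2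
      (Algebra.IsAlgebraic.isAlgebraic y)
  obtain ⟨b, hb, hint⟩ := halg.exists_integral_multiple
  obtain ⟨c, hc⟩ := (hrange (b • y)).2 hint
  have hbK : algebraMap Γ(Y, U) X.functionField b ≠ 0 := by
    rw [IsScalarTower.algebraMap_apply Γ(Y, U) (Y.presheaf.stalk (f (genericPoint X)))]
    exact fun h => hb (IsFractionRing.injective Γ(Y, U) (Y.presheaf.stalk (f (genericPoint X)))
      (((algebraMap (Y.presheaf.stalk (f (genericPoint X))) X.functionField).injective
        (h.trans (map_zero _).symm)).trans (map_zero _).symm))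
  have hbc : ev f hξ c = ev f hξ (f.fromNormalization.app U b) * y := by
    rw [hc, hbase, Algebra.smul_def]; rfl
  let g := f.normalization.presheaf.germ (f.fromNormalization ⁻¹ᵁ U) (f.toNormalization (genericPoint X))
    (show (f.toNormalization ≫ f.fromNormalization) (genericPoint X) ∈ U by
      rw [Scheme.Hom.toNormalization_fromNormalization]; exact hξ)
  have hu : IsUnit (g (f.fromNormalization.app U b)) := by
    apply (isUnit_map_iff (f.toNormalization.stalkMap (genericPoint X)).hom _).1
    refine (isUnit_iff_ne_zero (G₀ := X.functionField)).2 ?_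
    show ev f hξ (f.fromNormalization.app U b) ≠ 0
    rw [hbase]; exact hbK
  obtain ⟨u, hu⟩ := hu
  refine ⟨↑u⁻¹ * g c, ?_⟩
  have h3 : (f.toNormalization.stalkMap (genericPoint X)).hom (g c) =
      (f.toNormalization.stalkMap (genericPoint X)).hom (g (f.fromNormalization.app U b)) * y := hbc
  rw [map_mul, h3, ← hu, ← mul_assoc, ← map_mul, Units.inv_mul, map_one, one_mul]

end Groth.Agent.Triage.NormInX
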