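import Groth.Agent.Triage.CMMor
import Groth.Agent.FibFlat.Core
import Mathlib.AlgebraicGeometry.Morphisms.FiniteType
import Mathlib.AlgebraicGeometry.Morphisms.Flat

/-!
# Base change of Cohen–Macaulay morphisms
-/

set_option autoImplicit false
set_option backward.isDefEq.respectTransparency false
universe u

open AlgebraicGeometry CategoryTheory CategoryTheory.Limits IsLocalRing TensorProduct

namespace Groth.Agent.Triage.CMBC

open Groth.Agent

/-- A prime of a base change lying over a prime at which the algebra is flat is a flat point. -/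
theorem flat_atPrime_of_pushout {O C A B : Type u} [CommRing O] [CommRing C] [CommRing A] [CommRing B]
    [Algebra O C] [Algebra O A] [Algebra A B] [Algebra C B] [Algebra O B] [IsScalarTower O A B]
    [IsScalarTower O C B] [Algebra.IsPushout O C A B] (Q' : Ideal B) [Q'.IsPrime] (Q : Ideal A) [Q.IsPrime]
    (hQ : Q'.comap (algebraMap A B) = Q) (AQ : Type u) [CommRing AQ] [Algebra A AQ] [Algebra O AQ]
    [IsScalarTower O A AQ] [IsLocalization.AtPrime AQ Q] [Module.Flat O AQ]
    (BQ : Type u) [CommRing BQ] [Algebra B BQ] [Algebra C BQ] [IsScalarTower C B BQ]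
    [IsLocalization.AtPrime BQ Q'] : Module.Flat C BQ := by
  let M := Algebra.algebraMapSubmonoid B Q.primeCompl
  let D := Localization M
  letI : Algebra AQ D := (IsLocalization.map (M := Q.primeCompl) (T := M) D (algebraMap A B)
    Q.primeCompl.le_comap_map).toAlgebra
  haveI : IsScalarTower A AQ D := IsScalarTower.of_algebraMap_eq fun a => by
    rw [RingHom.algebraMap_toAlgebra, IsLocalization.map_eq, ← IsScalarTower.algebraMap_apply]
  haveI : IsScalarTower O B D := inferInstance
  haveI : IsScalarTower O A D := IsScalarTower.of_algebraMap_eq fun r => by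
    rw [IsScalarTower.algebraMap_apply O B D, IsScalarTower.algebraMap_apply O A B,
      IsScalarTower.algebraMap_apply A B D]
  haveI : IsScalarTower O AQ D := IsScalarTower.of_algebraMap_eq fun r => by
    rw [IsScalarTower.algebraMap_apply O A D, IsScalarTower.algebraMap_apply A AQ D,
      ← IsScalarTower.algebraMap_apply O A AQ]
  haveI : IsScalarTower C B D := inferInstance
  haveI : IsScalarTower O C D := IsScalarTower.of_algebraMap_eq fun r => by
    rw [IsScalarTower.algebraMap_apply O B D, IsScalarTower.algebraMap_apply C B D,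
      ← IsScalarTower.algebraMap_apply O C B]
  haveI : Algebra.IsPushout O A C B := Algebra.IsPushout.symm ‹Algebra.IsPushout O C A B›
  have hr : Algebra.IsPushout A AQ B D :=
    Algebra.IsPushout.symm (Algebra.isPushout_of_isLocalization Q.primeCompl AQ B D)
  haveI : Algebra.IsPushout O C AQ D := Algebra.IsPushout.symm
    ((Algebra.IsPushout.comp_iff (R := O) (S := A) (T := AQ) (R' := C) (S' := B) (T' := D)).2 hr)
  haveI : Module.Flat C D :=
    Module.Flat.isBaseChange O C AQ D (Algebra.IsPushout.out (R := O) (S := C) (R' := AQ) (S' := D))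
  have hM : M ≤ Q'.primeCompl := by
    rintro _ ⟨a, ha, rfl⟩ h
    exact ha (hQ ▸ h)
  letI : Algebra D BQ := (IsLocalization.lift (M := M) (S := D) (g := algebraMap B BQ)
    (fun m => IsLocalization.map_units BQ (⟨m, hM m.2⟩ : Q'.primeCompl))).toAlgebra
  haveI : IsScalarTower B D BQ := IsScalarTower.of_algebraMap_eq fun b => by
    rw [RingHom.algebraMap_toAlgebra, IsLocalization.lift_eq]
  haveI : IsLocalization (Q'.primeCompl.map (algebraMap B D)) BQ :=
    IsLocalization.isLocalization_of_submonoid_le D BQ M Q'.primeCompl hM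
  haveI : Module.Flat D BQ := IsLocalization.flat BQ (Q'.primeCompl.map (algebraMap B D))
  haveI : IsScalarTower C D BQ := IsScalarTower.of_algebraMap_eq fun c => by
    rw [IsScalarTower.algebraMap_apply C B D, ← IsScalarTower.algebraMap_apply B D BQ,
      ← IsScalarTower.algebraMap_apply C B BQ]
  exact Module.Flat.trans C D BQ

variable {X S X' T : Scheme.{u}} {f : X ⟶ S} {f' : X' ⟶ T} {g' : X' ⟶ X} {g : T ⟶ S}

/-- Flatness at a point is stable under base change. -/
theorem flat_stalk_of_isPullback (hc : IsPullback g' f' f g) (x' : X')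
    (hf : (f.stalkMap (g' x')).hom.Flat) : (f'.stalkMap x').hom.Flat := by
  have e : f (g' x') = g (f' x') := by
    rw [← Scheme.Hom.comp_apply, hc.w, Scheme.Hom.comp_apply]
  obtain ⟨V, hV, hxV, -⟩ := exists_isAffineOpen_mem_and_subset (X := S) (x := f (g' x')) (U := ⊤) trivial
  obtain ⟨U, hU, hxU, hUV⟩ := exists_isAffineOpen_mem_and_subset (X := X) (x := g' x') (U := f ⁻¹ᵁ V) hxV
  obtain ⟨O, hO, htO, hOV⟩ := exists_isAffineOpen_mem_and_subset (X := T) (x := f' x') (U := g ⁻¹ᵁ V)
    (show g (f' x') ∈ V from e ▸ hxV)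
  replace hUV : U ≤ f ⁻¹ᵁ V := hUV
  replace hOV : O ≤ g ⁻¹ᵁ V := hOV
  let W : X'.Opens := g' ⁻¹ᵁ U ⊓ f' ⁻¹ᵁ O
  have hxW : x' ∈ W := ⟨hxU, htO⟩
  have hW : IsAffineOpen W := by
    haveI : IsAffine _ := hV
    haveI : IsAffine _ := hO
    haveI : IsAffine _ := hU
    exact .of_isIso (Scheme.Hom.isPullback_resLE hc hOV hUV (UY := W) rfl).isoPullback.hom
  have hpo := (isIso_pushoutSection_iff hc hOV hUV (UY := W) rfl).mp
    (isIso_pushoutSection_of_isAffineOpen hc hOV hUV rfl hV hO hU)
  letI : Algebra Γ(S, V) Γ(X, U) := (f.appLE V U hUV).hom.toAlgebra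
  letI : Algebra Γ(S, V) Γ(T, O) := (g.appLE V O hOV).hom.toAlgebra
  letI : Algebra Γ(X, U) Γ(X', W) := (g'.appLE U W inf_le_left).hom.toAlgebra
  letI : Algebra Γ(T, O) Γ(X', W) := (f'.appLE O W inf_le_right).hom.toAlgebra
  letI : Algebra Γ(S, V) Γ(X', W) := (f.appLE V U hUV ≫ g'.appLE U W inf_le_left).hom.toAlgebra
  haveI : IsScalarTower Γ(S, V) Γ(X, U) Γ(X', W) := .of_algebraMap_eq fun _ => rfl
  haveI : IsScalarTower Γ(S, V) Γ(T, O) Γ(X', W) := .of_algebraMap_eq fun r => congr($(hpo.w).hom r)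
  haveI : Algebra.IsPushout Γ(S, V) Γ(T, O) Γ(X, U) Γ(X', W) :=
    CommRingCat.isPushout_iff_isPushout.mp hpo.flip
  let Q := (hU.primeIdealOf ⟨g' x', hxU⟩).asIdeal
  let Q' := (hW.primeIdealOf ⟨x', hxW⟩).asIdeal
  have hQ : Q'.comap (algebraMap Γ(X, U) Γ(X', W)) = Q :=
    congrArg PrimeSpectrum.asIdeal (IsAffineOpen.comap_primeIdealOf_appLE U hU W hW inf_le_left hxW)
  letI := X.presheaf.algebra_section_stalk ⟨g' x', hxU⟩
  haveI := hU.isLocalization_stalk ⟨g' x', hxU⟩
  letI := X'.presheaf.algebra_section_stalk ⟨x', hxW⟩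
  haveI := hW.isLocalization_stalk ⟨x', hxW⟩
  letI := S.presheaf.algebra_section_stalk ⟨f (g' x'), hxV⟩
  haveI := hV.isLocalization_stalk ⟨f (g' x'), hxV⟩
  letI := T.presheaf.algebra_section_stalk ⟨f' x', htO⟩
  haveI := hO.isLocalization_stalk ⟨f' x', htO⟩
  letI : Algebra (S.presheaf.stalk (f (g' x'))) (X.presheaf.stalk (g' x')) := (f.stalkMap (g' x')).hom.toAlgebra
  letI : Algebra Γ(S, V) (X.presheaf.stalk (g' x')) :=
    ((algebraMap Γ(X, U) (X.presheaf.stalk (g' x'))).comp (algebraMap Γ(S, V) Γ(X, U))).toAlgebra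
  haveI : IsScalarTower Γ(S, V) Γ(X, U) (X.presheaf.stalk (g' x')) := .of_algebraMap_eq fun _ => rfl
  haveI : IsScalarTower Γ(S, V) (S.presheaf.stalk (f (g' x'))) (X.presheaf.stalk (g' x')) :=
    .of_algebraMap_eq fun r => by
      show (f.appLE V U hUV ≫ X.presheaf.germ U (g' x') hxU).hom r =
        (S.presheaf.germ V (f (g' x')) hxV ≫ f.stalkMap (g' x')).hom r
      rw [f.germ_stalkMap, Scheme.Hom.appLE, Category.assoc, X.presheaf.germ_res]
  haveI : Module.Flat (S.presheaf.stalk (f (g' x'))) (X.presheaf.stalk (g' x')) := hf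
  haveI : Module.Flat Γ(S, V) (S.presheaf.stalk (f (g' x'))) :=
    IsLocalization.flat _ (hV.primeIdealOf ⟨f (g' x'), hxV⟩).asIdeal.primeCompl
  haveI : Module.Flat Γ(S, V) (X.presheaf.stalk (g' x')) :=
    Module.Flat.trans Γ(S, V) (S.presheaf.stalk (f (g' x'))) _
  letI : Algebra (T.presheaf.stalk (f' x')) (X'.presheaf.stalk x') := (f'.stalkMap x').hom.toAlgebra
  letI : Algebra Γ(T, O) (X'.presheaf.stalk x') :=
    ((algebraMap Γ(X', W) (X'.presheaf.stalk x')).comp (algebraMap Γ(T, O) Γ(X', W))).toAlgebra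
  haveI : IsScalarTower Γ(T, O) Γ(X', W) (X'.presheaf.stalk x') := .of_algebraMap_eq fun _ => rfl
  haveI : IsScalarTower Γ(T, O) (T.presheaf.stalk (f' x')) (X'.presheaf.stalk x') :=
    .of_algebraMap_eq fun r => by
      show (f'.appLE O W inf_le_right ≫ X'.presheaf.germ W x' hxW).hom r =
        (T.presheaf.germ O (f' x') htO ≫ f'.stalkMap x').hom r
      rw [f'.germ_stalkMap, Scheme.Hom.appLE, Category.assoc, X'.presheaf.germ_res]
  have h := flat_atPrime_of_pushout (O := Γ(S, V)) (C := Γ(T, O)) Q' Q hQ (X.presheaf.stalk (g' x'))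
    (X'.presheaf.stalk x')
  exact (Module.flat_iff_of_isLocalization (T.presheaf.stalk (f' x'))
    (hO.primeIdealOf ⟨f' x', htO⟩).asIdeal.primeCompl (X'.presheaf.stalk x')).2 h

/-- The residue field extension of a morphism locally of finite type is finitely generated. -/
theorem essFiniteType_residueFieldMap {T S : Scheme.{u}} (g : T ⟶ S) [LocallyOfFiniteType g] (t : T) :
    (g.residueFieldMap t).hom.EssFiniteType := by
  have h0 : (g.stalkMap t).hom.EssFiniteType := LocallyOfFiniteType.stalkMap g t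
  have h1 : S.residue (g t) ≫ g.residueFieldMap t = g.stalkMap t ≫ T.residue t :=
    Scheme.residue_residueFieldMap g t
  have h2 : (g.stalkMap t ≫ T.residue t).hom.EssFiniteType :=
    h0.comp (RingHom.FiniteType.essFiniteType (RingHom.FiniteType.of_surjective _ (T.residue_surjective t)))
  rw [← h1] at h2
  exact RingHom.EssFiniteType.of_comp _ h2

/-- The local rings of a fibre of the base change by a finitely generated field extension. -/
theorem isCM_stalk_of_field_pullback {k K L : Type u} [Field k] [Field K] [Field L] [Algebra k K]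
    [Algebra k L] [Algebra.EssFiniteType k L] {G : Scheme.{u}} {a : G ⟶ Spec (CommRingCat.of K)}
    {b : G ⟶ Spec (CommRingCat.of L)}
    (h : IsPullback a b (Spec.map (CommRingCat.ofHom (algebraMap k K))) (Spec.map (CommRingCat.ofHom (algebraMap k L))))
    (w : G) : LocCoh.IsCohenMacaulayLocalRing (G.presheaf.stalk w) := by
  haveI : LocCoh.IsCohenMacaulayRing (K ⊗[k] L) :=
    FlatLoc6.isCM_of_ringEquiv (Algebra.TensorProduct.comm k L K).toRingEquiv
      (FlatLoc6.isCM_tensor_field k K L)
  let e : G ⟶ Spec (CommRingCat.of (K ⊗[k] L)) := (h.isoPullback ≪≫ pullbackSpecIso k K L).hom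
  let v := e w
  refine CMMor.isCM_of_equiv ((asIso (e.stalkMap w)).commRingCatIsoToRingEquiv) ?_
  exact CMMor.isCM_of_equiv (Spec.stalkIso (CommRingCat.of (K ⊗[k] L)) v).symm.commRingCatIsoToRingEquiv
    (LocCoh.IsCohenMacaulayRing.isCohenMacaulayLocalRing_localization v.asIdeal)

/-- The fibres of `g' ≫ f` are locally Noetherian when those of `f` are and `g'` is locally of finite type. -/
theorem isLocallyNoetherian_fibre_comp {X' X S : Scheme.{u}} (g' : X' ⟶ X) [LocallyOfFiniteType g']
    (f : X ⟶ S) (s : S) [IsLocallyNoetherian (f.fiber s)] : IsLocallyNoetherian ((g' ≫ f).fiber s) := by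
  haveI : IsLocallyNoetherian (pullback g' (f.fiberι s)) :=
    LocallyOfFiniteType.isLocallyNoetherian (pullback.snd g' (f.fiberι s))
  let j : (g' ≫ f).fiber s ⟶ pullback g' (f.fiberι s) :=
    (pullbackRightPullbackFstIso f (S.fromSpecResidueField s) g').inv
  haveI : IsIso j := inferInstanceAs (IsIso (pullbackRightPullbackFstIso f (S.fromSpecResidueField s) g').inv)
  exact isLocallyNoetherian_of_isOpenImmersion j

theorem isNoetherianRing_fibre_stalk_of_isPullback (hc : IsPullback g' f' f g) [LocallyOfFiniteType g]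
    (x' : X') (hN : IsLocallyNoetherian (f.fiber (g (f' x')))) :
    IsNoetherianRing
      (↑(X'.presheaf.stalk x') ⧸ (maximalIdeal (T.presheaf.stalk (f' x'))).map (FibFlat.sm f' x' (f' x') rfl)) := by
  haveI : LocallyOfFiniteType g' :=
    MorphismProperty.of_isPullback (P := @LocallyOfFiniteType) hc.flip inferInstance
  have hs : (g' ≫ f) x' = g (f' x') := by rw [hc.w, Scheme.Hom.comp_apply]
  haveI := CMMor.isNoetherianRing_fibre_stalk_sm (g' ≫ f) x' (g (f' x')) hs
    (isLocallyNoetherian_fibre_comp g' f _)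
  refine isNoetherianRing_of_surjective _ _ (Ideal.Quotient.factor (?_ :
    (maximalIdeal (S.presheaf.stalk (g (f' x')))).map (FibFlat.sm (g' ≫ f) x' (g (f' x')) hs) ≤ _))
    (Ideal.Quotient.factor_surjective _)
  rw [FibFlat.sm_congr hc.w x' (g (f' x')) hs, FibFlat.sm_comp f' g x' (f' x') (g (f' x')) rfl rfl,
    ← Ideal.map_map]
  exact Ideal.map_mono (map_maximalIdeal_le _)

/-- Cohen–Macaulayness of the local rings of the fibres along a base change. -/
theorem isCM_fibre_iff (hc : IsPullback g' f' f g) [LocallyOfFiniteType g] (x' : X')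
    (hN : IsLocallyNoetherian (f.fiber (g (f' x')))) :
    LocCoh.IsCohenMacaulayLocalRing
        (↑(X'.presheaf.stalk x') ⧸ (maximalIdeal (T.presheaf.stalk (f' x'))).map (FibFlat.sm f' x' (f' x') rfl)) ↔
      LocCoh.IsCohenMacaulayLocalRing
        (↑(X.presheaf.stalk (g' x')) ⧸
          (maximalIdeal (S.presheaf.stalk (f (g' x')))).map (FibFlat.sm f (g' x') (f (g' x')) rfl)) := by
  have hy : f (g' x') = g (f' x') := by rw [← Scheme.Hom.comp_apply, hc.w, Scheme.Hom.comp_apply]
  have hI : LocCoh.IsCohenMacaulayLocalRing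
        (↑(X.presheaf.stalk (g' x')) ⧸
          (maximalIdeal (S.presheaf.stalk (f (g' x')))).map (FibFlat.sm f (g' x') (f (g' x')) rfl)) ↔
      LocCoh.IsCohenMacaulayLocalRing
        (↑(X.presheaf.stalk (g' x')) ⧸
          (maximalIdeal (S.presheaf.stalk (g (f' x')))).map (FibFlat.sm f (g' x') (g (f' x')) hy)) :=
    CMMor.isCM_congr (Ideal.quotEquivOfEq (FibFlat.map_max_sm f (g' x') _ hy))
  rw [hI]
  obtain ⟨e, he, hι⟩ := ConsPropLib.exists_fibre_pullback hc (f' x')
  let z' := f'.asFiber x'
  have hz' : f'.fiberι (f' x') z' = x' := f'.fiberι_asFiber x'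
  have hz : f.fiberι (g (f' x')) (e z') = g' x' := by
    rw [← Scheme.Hom.comp_apply, hι, Scheme.Hom.comp_apply, hz']
  obtain ⟨E'⟩ := CMMor.exists_equiv_fibre_stalk_aux f' x' (f' x') rfl z' hz'
  obtain ⟨E⟩ := CMMor.exists_equiv_fibre_stalk_aux f (g' x') (g (f' x')) hy (e z') hz
  haveI := isNoetherianRing_fibre_stalk_of_isPullback hc x' hN
  haveI : IsNoetherianRing ((f'.fiber (f' x')).presheaf.stalk z') := isNoetherianRing_of_ringEquiv _ E'
  rw [CMMor.isCM_congr E', CMMor.isCM_congr E]
  haveI : Flat e := by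
    have h1 : Flat (Spec.map (g.residueFieldMap (f' x'))) := by
      rw [Flat.SpecMap_iff]
      let := (g.residueFieldMap (f' x')).hom.toAlgebra
      exact RingHom.flat_algebraMap_iff.2 inferInstance
    exact MorphismProperty.of_isPullback (P := (@Flat : MorphismProperty Scheme.{u})) he.flip h1
  letI : Algebra ((f.fiber (g (f' x'))).presheaf.stalk (e z')) ((f'.fiber (f' x')).presheaf.stalk z') :=
    (e.stalkMap z').hom.toAlgebra
  haveI : IsLocalHom (algebraMap ((f.fiber (g (f' x'))).presheaf.stalk (e z')) ((f'.fiber (f' x')).presheaf.stalk z')) :=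
    inferInstanceAs (IsLocalHom (e.stalkMap z').hom)
  haveI : Module.Flat ((f.fiber (g (f' x'))).presheaf.stalk (e z')) ((f'.fiber (f' x')).presheaf.stalk z') :=
    Flat.stalkMap e z'
  rw [CMMor.isCM_iff ((f.fiber (g (f' x'))).presheaf.stalk (e z')) ((f'.fiber (f' x')).presheaf.stalk z')]
  refine ⟨And.left, fun h => ⟨h, ?_⟩⟩
  refine (CMMor.isCM_congr (CMMor.exists_equiv_fibre_stalk e z').some).2 ?_
  -- the fibre of `e` is the base change of a field extension
  let F := f.fiber (g (f' x'))
  let k := S.residueField (g (f' x'))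
  obtain ⟨φ, hφ⟩ := Spec.map_surjective (F.fromSpecResidueField (e z') ≫ f.fiberToSpecResidueField (g (f' x')))
  letI : Field k := inferInstance
  letI : Algebra k (F.residueField (e z')) := φ.hom.toAlgebra
  letI : Algebra k (T.residueField (f' x')) := (g.residueFieldMap (f' x')).hom.toAlgebra
  haveI : Algebra.EssFiniteType k (T.residueField (f' x')) := essFiniteType_residueFieldMap g (f' x')
  refine isCM_stalk_of_field_pullback (k := k) (K := F.residueField (e z')) (L := T.residueField (f' x'))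
    (a := pullback.snd e (F.fromSpecResidueField (e z')))
    (b := pullback.fst e (F.fromSpecResidueField (e z')) ≫ f'.fiberToSpecResidueField (f' x')) ?_ _
  show IsPullback _ _ (Spec.map φ) (Spec.map (g.residueFieldMap (f' x')))
  rw [hφ]
  exact (IsPullback.of_hasPullback e (F.fromSpecResidueField (e z'))).flip.paste_vert he

end Groth.Agent.Triage.CMBC
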