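import Groth.Agent.Triage.SliceFlat
import Groth.Prelude.Def_Mor2
import Groth.Agent.ModPairLib.Basic

/-!
# Slicing at a point of a scheme flat and locally of finite presentation over the base
-/

set_option autoImplicit false
set_option backward.isDefEq.respectTransparency false
universe u

open AlgebraicGeometry CategoryTheory IsLocalRing TopologicalSpace

namespace Groth.Agent.Triage.SliceFlat

open Groth.Agent

variable {X S : Scheme.{u}}

/-- Finitely many germs are germs of sections on one small affine neighbourhood. -/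
theorem exists_lift_list (x : X) : ∀ (hs : List (X.presheaf.stalk x)) (W : X.Opens), x ∈ W →
    ∃ (U : X.Opens) (hx : x ∈ U) (hs' : List Γ(X, U)),
      IsAffineOpen U ∧ U ≤ W ∧ hs'.map (X.presheaf.germ U x hx) = hs
  | [], W, hW => by
    obtain ⟨U, hU, hx, hUW⟩ := exists_isAffineOpen_mem_and_subset hW
    exact ⟨U, hx, [], hU, hUW, rfl⟩
  | h :: hs, W, hW => by
    obtain ⟨U₁, hx₁, t, rfl⟩ := X.presheaf.germ_exist (x := x) h
    obtain ⟨U, hx, hs', hU, hUW, rfl⟩ := exists_lift_list x hs (W ⊓ U₁) ⟨hW, hx₁⟩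
    refine ⟨U, hx, X.presheaf.map (homOfLE (hUW.trans inf_le_right)).op t :: hs', hU,
      hUW.trans inf_le_left, ?_⟩
    rw [List.map_cons, TopCat.Presheaf.germ_res_apply]

/-- The slicing statement at a point, on an affine open mapping into an affine open of the base. -/
theorem exists_slice_sch (f : X ⟶ S) [LocallyOfFinitePresentation f] (x : X)
    (hflat : (f.stalkMap x).hom.Flat) (hs : List (X.presheaf.stalk x))
    (hm : ∀ h ∈ hs, h ∈ maximalIdeal (X.presheaf.stalk x))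
    (hreg : ∀ i (hi : i < hs.length), ∀ z, hs[i] * z ∈ Ideal.ofList (hs.take i) ⊔
        (maximalIdeal (S.presheaf.stalk (f x))).map (f.stalkMap x).hom →
      z ∈ Ideal.ofList (hs.take i) ⊔ (maximalIdeal (S.presheaf.stalk (f x))).map (f.stalkMap x).hom)
    (W : X.Opens) (hxW : x ∈ W) :
    ∃ (V : S.Opens) (_ : IsAffineOpen V) (U : X.Opens) (_ : IsAffineOpen U) (hx : x ∈ U) (_ : U ≤ W)
      (e : U ≤ f ⁻¹ᵁ V) (hs' : List Γ(X, U)),
      hs'.map (X.presheaf.germ U x hx) = hs ∧ (f.appLE V U e).hom.FinitePresentation ∧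
      RingTheory.Sequence.IsWeaklyRegular Γ(X, U) hs' ∧
      ∀ i, ((Ideal.Quotient.mk (Ideal.ofList (hs'.take i))).comp (f.appLE V U e).hom).Flat := by
  classical
  obtain ⟨V, hV, hxV, -⟩ := exists_isAffineOpen_mem_and_subset (X := S) (x := f x)
    (U := ⊤) trivial
  let F : X.Opens := ⟨{x | (f.stalkMap x).hom.Flat}, FlatLocus.isOpen_flat_locus f⟩
  obtain ⟨U, hx, hs₀, hU, hUle, hgerm⟩ := exists_lift_list x hs (W ⊓ f ⁻¹ᵁ V ⊓ F) ⟨⟨hxW, hxV⟩, hflat⟩
  have e : U ≤ f ⁻¹ᵁ V := hUle.trans (inf_le_left.trans inf_le_right)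
  have hUF : U ≤ F := hUle.trans inf_le_right
  letI : Algebra Γ(S, V) Γ(X, U) := (f.appLE V U e).hom.toAlgebra
  haveI : Algebra.FinitePresentation Γ(S, V) Γ(X, U) :=
    HasRingHomProperty.appLE @LocallyOfFinitePresentation f ‹_› ⟨V, hV⟩ ⟨U, hU⟩ e
  haveI : Module.Flat Γ(S, V) Γ(X, U) := by
    have h1 : Flat (U.ι ≫ f) := Flat.of_stalkMap _ fun z => (FibFlat.flat_stalk_open_comp U.ι f z).2 (hUF z.2)
    have h2 : Flat (Spec.map (f.appLE V U e) ≫ hV.fromSpec) := by
      rw [IsAffineOpen.SpecMap_appLE_fromSpec f hV hU e, ← hU.isoSpec_inv_ι, Category.assoc]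
      infer_instance
    have h3 : Flat (Spec.map (f.appLE V U e)) := Flat.of_stalkMap _ fun z => by
      have h := Flat.stalkMap (Spec.map (f.appLE V U e) ≫ hV.fromSpec) z
      rw [Scheme.Hom.stalkMap_comp] at h
      exact (FlatLocus.flat_isIso_comp _ _).1 h
    exact (HasRingHomProperty.Spec_iff (P := @Flat)).1 h3
  let P := hV.primeIdealOf ⟨f x, e hx⟩
  let Q := hU.primeIdealOf ⟨x, hx⟩
  have hPQ : Q.asIdeal.comap (algebraMap Γ(S, V) Γ(X, U)) = P.asIdeal :=
    congrArg PrimeSpectrum.asIdeal (IsAffineOpen.comap_primeIdealOf_appLE V hV U hU e hx)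
  haveI : Q.asIdeal.LiesOver P.asIdeal := ⟨hPQ.symm⟩
  letI := X.presheaf.algebra_section_stalk ⟨x, hx⟩
  haveI := hU.isLocalization_stalk ⟨x, hx⟩
  letI := S.presheaf.algebra_section_stalk ⟨f x, e hx⟩
  haveI := hV.isLocalization_stalk ⟨f x, e hx⟩
  let γ := (X.presheaf.germ U x hx).hom
  have hmS : (maximalIdeal (S.presheaf.stalk (f x))).map (f.stalkMap x).hom =
      (P.asIdeal.map (algebraMap Γ(S, V) Γ(X, U))).map γ := by
    rw [← IsLocalization.AtPrime.map_eq_maximalIdeal P.asIdeal (S.presheaf.stalk (f x)), Ideal.map_map,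
      Ideal.map_map]
    congr 1
    ext r
    show (S.presheaf.germ V (f x) (e hx) ≫ f.stalkMap x).hom r =
      (f.appLE V U e ≫ X.presheaf.germ U x hx).hom r
    rw [f.germ_stalkMap, Scheme.Hom.appLE, Category.assoc, X.presheaf.germ_res]
  subst hgerm
  have hQ : ∀ a ∈ hs₀, a ∈ Q.asIdeal := fun a ha =>
    (IsLocalization.AtPrime.to_map_mem_maximal_iff (X.presheaf.stalk x) Q.asIdeal a).1
      (hm _ (List.mem_map.2 ⟨a, ha, rfl⟩))
  have hsat : ∀ (i : ℕ) (t : Γ(X, U)),
      t ∈ FlatModel.sat P.asIdeal (Ideal.ofList (hs₀.take i)) Q.asIdeal.primeCompl ↔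
      γ t ∈ Ideal.ofList ((hs₀.map γ).take i) ⊔
        (maximalIdeal (S.presheaf.stalk (f x))).map (f.stalkMap x).hom := by
    intro i t
    rw [hmS, ← List.map_take, ← Ideal.map_ofList, ← Ideal.map_sup]
    exact (IsLocalization.algebraMap_mem_map_algebraMap_iff Q.asIdeal.primeCompl (X.presheaf.stalk x) _ _).symm
  obtain ⟨g, hg, hgood⟩ := exists_slice (O := Γ(S, V)) P.asIdeal Q.asIdeal hs₀ hQ fun i hi t ht => by
    rw [hsat] at ht ⊢
    rw [map_mul] at ht
    have := hreg i (by simpa using hi) (γ t)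
    simp only [List.getElem_map] at this
    exact this ht
  let U' := X.basicOpen g
  have hU' : IsAffineOpen U' := hU.basicOpen g
  have hx' : x ∈ U' := by
    rw [X.mem_basicOpen g x hx]
    exact IsLocalization.map_units (X.presheaf.stalk x) (⟨g, hg⟩ : Q.asIdeal.primeCompl)
  have hle : U' ≤ U := X.basicOpen_le g
  let ρ := X.presheaf.map (homOfLE hle).op
  letI : Algebra Γ(X, U) Γ(X, U') := ρ.hom.toAlgebra
  haveI : IsLocalization.Away g Γ(X, U') := hU.isLocalization_basicOpen g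
  haveI : Module.Flat Γ(X, U) Γ(X, U') := IsLocalization.flat _ (Submonoid.powers g)
  letI : Algebra Γ(S, V) Γ(X, U') := (f.appLE V U' (hle.trans e)).hom.toAlgebra
  haveI : IsScalarTower Γ(S, V) Γ(X, U) Γ(X, U') := IsScalarTower.of_algebraMap_eq fun r => by
    show (f.appLE V U' (hle.trans e)).hom r = (f.appLE V U e ≫ ρ).hom r
    rw [Scheme.Hom.appLE_map]
  obtain ⟨hwr, hfl⟩ := hgood Γ(X, U') (IsLocalization.Away.algebraMap_isUnit g)
  refine ⟨V, hV, U', hU', hx', hle.trans (hUle.trans (inf_le_left.trans inf_le_left)), hle.trans e,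
    hs₀.map ρ, ?_, HasRingHomProperty.appLE @LocallyOfFinitePresentation f ‹_› ⟨V, hV⟩ ⟨U', hU'⟩ _,
    hwr, fun i => ?_⟩
  · rw [List.map_map]
    refine List.map_congr_left fun a _ => ?_
    exact TopCat.Presheaf.germ_res_apply X.presheaf (homOfLE hle) x hx' a
  · rw [← List.map_take, ← Ideal.map_ofList]
    exact RingHom.flat_algebraMap_iff.2 (hfl i)

/-- The ideal of the closed immersion of `Spec (R/(rs))` into an affine scheme. -/
theorem ker_spec {R : CommRingCat.{u}} {Y : Scheme.{u}} (ε : Spec R ≅ Y) (rs : List R)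
    [IsClosedImmersion (Spec.map (CommRingCat.ofHom (Ideal.Quotient.mk (Ideal.ofList rs))))] [IsAffine Y] :
    (Spec.map (CommRingCat.ofHom (Ideal.Quotient.mk (Ideal.ofList rs))) ≫ ε.hom).ker.ideal
        ⟨⊤, isAffineOpen_top Y⟩ =
      Ideal.ofList (rs.map ((Scheme.ΓSpecIso R).inv ≫ ε.inv.appTop)) := by
  let q := CommRingCat.ofHom (Ideal.Quotient.mk (Ideal.ofList rs))
  let φ : R ⟶ Γ(Y, ⊤) := (Scheme.ΓSpecIso R).inv ≫ ε.inv.appTop
  haveI : IsIso φ := inferInstanceAs (IsIso ((Scheme.ΓSpecIso R).inv ≫ ε.inv.appTop))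
  let eR : R ≃+* Γ(Y, ⊤) := (asIso φ).commRingCatIsoToRingEquiv
  rw [Scheme.Hom.ker_apply, ← Ideal.map_ofList]
  have hi : (Spec.map q ≫ ε.hom).appTop = ε.hom.appTop ≫ (Scheme.ΓSpecIso R).hom ≫ q ≫
      (Scheme.ΓSpecIso (CommRingCat.of (R ⧸ Ideal.ofList rs))).inv := by
    rw [Scheme.Hom.comp_appTop, ← Scheme.ΓSpecIso_naturality_assoc, Iso.hom_inv_id, Category.comp_id]
  have h2 : φ ≫ (Spec.map q ≫ ε.hom).appTop =
      q ≫ (Scheme.ΓSpecIso (CommRingCat.of (R ⧸ Ideal.ofList rs))).inv := by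
    rw [hi]
    simp only [φ, Category.assoc]
    rw [← Scheme.Hom.comp_appTop_assoc, Iso.hom_inv_id, Scheme.Hom.id_appTop, Category.id_comp,
      Iso.inv_hom_id_assoc]
  show RingHom.ker (Spec.map q ≫ ε.hom).appTop.hom = _
  ext y
  obtain ⟨r, rfl⟩ := eR.surjective y
  rw [RingHom.mem_ker, show (Spec.map q ≫ ε.hom).appTop.hom (eR r) =
      (Scheme.ΓSpecIso (CommRingCat.of (R ⧸ Ideal.ofList rs))).inv.hom (Ideal.Quotient.mk _ r) from
    congrArg (fun k => k.hom r) h2,
    map_eq_zero_iff _ (ConcreteCategory.bijective_of_isIso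
      (Scheme.ΓSpecIso (CommRingCat.of (R ⧸ Ideal.ofList rs))).inv).1,
    Ideal.Quotient.eq_zero_iff_mem]
  constructor
  · exact fun h => Ideal.mem_map_of_mem _ h
  · intro h
    obtain ⟨r', hr', he⟩ := (Ideal.mem_map_iff_of_surjective _ eR.surjective).1 h
    rwa [← eR.injective he]

/-- Closed immersion of a spectrum into an affine scheme cut out by a regular sequence. -/
theorem isRegularClosedImmersion_spec {R : CommRingCat.{u}} {Y : Scheme.{u}} (ε : Spec R ≅ Y) (rs : List R)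
    (hwr : RingTheory.Sequence.IsWeaklyRegular R rs) :
    Mor2.IsRegularClosedImmersion
      (Spec.map (CommRingCat.ofHom (Ideal.Quotient.mk (Ideal.ofList rs))) ≫ ε.hom) := by
  let q := CommRingCat.ofHom (Ideal.Quotient.mk (Ideal.ofList rs))
  haveI : IsClosedImmersion (Spec.map q) :=
    IsClosedImmersion.spec_of_surjective _ Ideal.Quotient.mk_surjective
  refine ⟨inferInstance, fun z => ?_⟩
  haveI : IsAffine Y := IsAffine.of_isIso ε.inv
  let φ : R ⟶ Γ(Y, ⊤) := (Scheme.ΓSpecIso R).inv ≫ ε.inv.appTop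
  haveI : IsIso φ := inferInstanceAs (IsIso ((Scheme.ΓSpecIso R).inv ≫ ε.inv.appTop))
  let eR : R ≃+* Γ(Y, ⊤) := (asIso φ).commRingCatIsoToRingEquiv
  have hne : Ideal.ofList rs ≠ ⊤ := fun h => by
    have : Subsingleton (R ⧸ Ideal.ofList rs) := Ideal.Quotient.subsingleton_iff.2 h
    exact isEmptyElim (α := PrimeSpectrum (R ⧸ Ideal.ofList rs)) z
  refine ⟨⊤, isAffineOpen_top Y, trivial, rs.map φ, ⟨?_, ?_⟩, ?_⟩
  · letI : Algebra R Γ(Y, ⊤) := φ.hom.toAlgebra
    let eA : R ≃ₐ[R] Γ(Y, ⊤) := AlgEquiv.ofRingEquiv (f := eR) (fun _ => rfl)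
    exact (RingTheory.Sequence.isWeaklyRegular_map_algebraMap_iff Γ(Y, ⊤) Γ(Y, ⊤) rs).2
      ((eA.toLinearEquiv.isWeaklyRegular_congr rs).1 hwr)
  · rw [Ideal.smul_eq_mul, Ideal.mul_top, ← Ideal.map_ofList]
    intro h
    apply hne
    have h' := congrArg (Ideal.comap (eR : R →+* Γ(Y, ⊤))) h
    rw [Ideal.comap_top] at h'
    exact (h'.trans (Ideal.comap_map_of_bijective _ eR.bijective)).symm
  · exact ker_spec ε rs

/-- The closed subscheme cut out by a list of sections is flat and locally of finite presentation. -/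
theorem flat_and_lfp_spec (f : X ⟶ S) {V : S.Opens} (hV : IsAffineOpen V) {U : X.Opens} (hU : IsAffineOpen U)
    (e : U ≤ f ⁻¹ᵁ V) (hs' : List Γ(X, U)) (hfp : (f.appLE V U e).hom.FinitePresentation)
    (hfl : ((Ideal.Quotient.mk (Ideal.ofList hs')).comp (f.appLE V U e).hom).Flat) :
    Flat (Spec.map (CommRingCat.ofHom (Ideal.Quotient.mk (Ideal.ofList hs'))) ≫ hU.fromSpec ≫ f) ∧
      LocallyOfFinitePresentation
        (Spec.map (CommRingCat.ofHom (Ideal.Quotient.mk (Ideal.ofList hs'))) ≫ hU.fromSpec ≫ f) := by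
  classical
  let q := CommRingCat.ofHom (Ideal.Quotient.mk (Ideal.ofList hs'))
  have heq : Spec.map q ≫ hU.fromSpec ≫ f = Spec.map (f.appLE V U e ≫ q) ≫ hV.fromSpec := by
    rw [Spec.map_comp, Category.assoc, IsAffineOpen.SpecMap_appLE_fromSpec f hV hU e]
  rw [heq]
  have h1 : Flat (Spec.map (f.appLE V U e ≫ q)) := (HasRingHomProperty.Spec_iff (P := @Flat)).2 hfl
  have hfg : (Ideal.ofList hs').FG := ⟨hs'.toFinset, by rw [Ideal.ofList]; congr 1; ext; simp⟩
  have h2 : LocallyOfFinitePresentation (Spec.map (f.appLE V U e ≫ q)) :=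
    (HasRingHomProperty.Spec_iff (P := @LocallyOfFinitePresentation)).2
      ((RingHom.FinitePresentation.of_surjective _ Ideal.Quotient.mk_surjective
        (by rw [Ideal.mk_ker]; exact hfg)).comp hfp)
  exact ⟨inferInstance, inferInstance⟩

/-- A point at which all the sections lie in the maximal ideal is in their zero scheme. -/
theorem mem_range_of_germ_mem {U : X.Opens} (hU : IsAffineOpen U) (x : X) (hx : x ∈ U) (hs' : List Γ(X, U))
    (hm : ∀ a ∈ hs', X.presheaf.germ U x hx a ∈ maximalIdeal (X.presheaf.stalk x)) :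
    x ∈ Set.range ⇑(Spec.map (CommRingCat.ofHom (Ideal.Quotient.mk (Ideal.ofList hs'))) ≫ hU.fromSpec) := by
  letI := X.presheaf.algebra_section_stalk ⟨x, hx⟩
  haveI := hU.isLocalization_stalk ⟨x, hx⟩
  have hle : Ideal.ofList hs' ≤ (hU.primeIdealOf ⟨x, hx⟩).asIdeal := Ideal.span_le.2 fun a ha =>
    (IsLocalization.AtPrime.to_map_mem_maximal_iff (X.presheaf.stalk x) _ a).1 (hm a ha)
  have hz : hU.primeIdealOf ⟨x, hx⟩ ∈
      Set.range (PrimeSpectrum.comap (Ideal.Quotient.mk (Ideal.ofList hs'))) := by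
    rw [range_comap_of_surjective _ _ Ideal.Quotient.mk_surjective, Ideal.mk_ker]
    exact hle
  obtain ⟨z, hz⟩ := hz
  refine ⟨z, ?_⟩
  show hU.fromSpec (PrimeSpectrum.comap (Ideal.Quotient.mk (Ideal.ofList hs')) z) = x
  rw [hz]
  exact hU.fromSpec_primeIdealOf _

open Limits

/-- A base change of a closed immersion, in the form of a map of pullbacks. -/
theorem isPullback_map {Z U S' : Scheme.{u}} (i : Z ⟶ U) (a : U ⟶ S) (b : Z ⟶ S) (g : S' ⟶ S)
    (h1 : b ≫ 𝟙 S = i ≫ a) (h2 : g ≫ 𝟙 S = 𝟙 S' ≫ g) :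
    IsPullback (pullback.map b g a g i (𝟙 S') (𝟙 S) h1 h2) (pullback.fst b g) (pullback.fst a g) i := by
  have hb : b = i ≫ a := by rw [← h1, Category.comp_id]
  subst hb
  refine IsPullback.of_right ?_ (pullback.lift_fst _ _ _) (IsPullback.of_hasPullback a g).flip
  convert (IsPullback.of_hasPullback (i ≫ a) g).flip using 2
  rw [pullback.lift_snd, Category.comp_id]

/-- Base change of a closed immersion cut out by a sequence with flat quotients. -/
theorem isRegularClosedImmersion_baseChange {Z U S' : Scheme.{u}} [IsAffine U] (i : Z ⟶ U)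
    [IsClosedImmersion i] (a : U ⟶ S) (b : Z ⟶ S) (g : S' ⟶ S) (h1 : b ≫ 𝟙 S = i ≫ a)
    (h2 : g ≫ 𝟙 S = 𝟙 S' ≫ g) {V : S.Opens} (hV : IsAffineOpen V) (e : ⊤ ≤ a ⁻¹ᵁ V)
    (rs : List Γ(U, ⊤)) (hker : i.ker.ideal ⟨⊤, isAffineOpen_top U⟩ = Ideal.ofList rs)
    (hwr : RingTheory.Sequence.IsWeaklyRegular Γ(U, ⊤) rs)
    (hfl : ∀ j, ((Ideal.Quotient.mk (Ideal.ofList (rs.take j))).comp (a.appLE V ⊤ e).hom).Flat) :
    Mor2.IsRegularClosedImmersion (pullback.map b g a g i (𝟙 S') (𝟙 S) h1 h2) := by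
  have sq := isPullback_map i a b g h1 h2
  set i' := pullback.map b g a g i (𝟙 S') (𝟙 S) h1 h2
  haveI hi' : IsClosedImmersion i' :=
    MorphismProperty.of_isPullback (P := @IsClosedImmersion) sq.flip inferInstance
  refine ⟨hi', fun z => ?_⟩
  let w := i' z
  have hwV : g (pullback.snd a g w) ∈ V := by
    rw [← Scheme.Hom.comp_apply, ← pullback.condition, Scheme.Hom.comp_apply]
    exact e trivial
  obtain ⟨W, hW, hwW, hWle⟩ := exists_isAffineOpen_mem_and_subset (X := S') (x := pullback.snd a g w)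
    (U := g ⁻¹ᵁ V) hwV
  replace hWle : W ≤ g ⁻¹ᵁ V := hWle
  let W' := pullback.fst a g ⁻¹ᵁ ⊤ ⊓ pullback.snd a g ⁻¹ᵁ W
  haveI := isIso_pushoutSection_of_isAffineOpen (IsPullback.of_hasPullback a g) hWle e (UY := W') rfl hV hW
    (isAffineOpen_top U)
  have hW' : IsAffineOpen W' := by
    have : IsAffine _ := hV
    have : IsAffine _ := hW
    have : IsAffine _ := isAffineOpen_top U
    exact .of_isIso (Scheme.Hom.isPullback_resLE (IsPullback.of_hasPullback a g) hWle e (UY := W') rfl).isoPullback.hom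
  have sqR := (isIso_pushoutSection_iff (IsPullback.of_hasPullback a g) hWle e (UY := W') rfl).1 ‹_›
  refine ⟨W', hW', ⟨trivial, hwW⟩, rs.map ((pullback.fst a g).appLE ⊤ W' inf_le_left), ⟨?_, ?_⟩, ?_⟩
  · letI : Algebra Γ(S, V) Γ(U, ⊤) := (a.appLE V ⊤ e).hom.toAlgebra
    letI : Algebra Γ(S, V) Γ(S', W) := (g.appLE V W hWle).hom.toAlgebra
    letI : Algebra Γ(U, ⊤) Γ(pullback a g, W') := ((pullback.fst a g).appLE ⊤ W' inf_le_left).hom.toAlgebra
    letI : Algebra Γ(S', W) Γ(pullback a g, W') := ((pullback.snd a g).appLE W W' inf_le_right).hom.toAlgebra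
    letI : Algebra Γ(S, V) Γ(pullback a g, W') :=
      (a.appLE V ⊤ e ≫ (pullback.fst a g).appLE ⊤ W' inf_le_left).hom.toAlgebra
    haveI : IsScalarTower Γ(S, V) Γ(U, ⊤) Γ(pullback a g, W') := IsScalarTower.of_algebraMap_eq fun _ => rfl
    haveI : IsScalarTower Γ(S, V) Γ(S', W) Γ(pullback a g, W') := IsScalarTower.of_algebraMap_eq fun r =>
      congrArg (fun k => k.hom r) sqR.w
    haveI : Algebra.IsPushout Γ(S, V) Γ(S', W) Γ(U, ⊤) Γ(pullback a g, W') :=
      CommRingCat.isPushout_iff_isPushout.1 sqR.flip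
    exact isWeaklyRegular_baseChange (O := Γ(S, V)) Γ(S', W) rs hwr
      (fun j => RingHom.flat_algebraMap_iff.1 (hfl j))
  · rw [Ideal.smul_eq_mul, Ideal.mul_top, ← Ideal.map_ofList, ← hker]
    intro htop
    have hker' : i'.ker.ideal ⟨W', hW'⟩ = ⊤ := by
      rw [show i'.ker = i.ker.comap (pullback.fst a g) by
          rw [← sq.isoPullback_hom_fst, Scheme.Hom.ker_comp_of_isIso,
            Scheme.IdealSheafData.ker_fst_of_isClosedImmersion],
        ModPairLib.ideal_comap _ _ ⟨⊤, isAffineOpen_top U⟩ ⟨W', hW'⟩ inf_le_left]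
      exact htop.symm
    rw [Scheme.Hom.ker_apply] at hker'
    have h10 : i'.app W' 1 = 0 := RingHom.mem_ker.1 (hker'.ge (Submodule.mem_top (x := 1)))
    rw [map_one] at h10
    have h11 := congrArg ((pullback b g).presheaf.germ (i' ⁻¹ᵁ W') z ⟨trivial, hwW⟩) h10
    rw [map_one, map_zero] at h11
    exact one_ne_zero h11
  · rw [show i'.ker = i.ker.comap (pullback.fst a g) by
        rw [← sq.isoPullback_hom_fst, Scheme.Hom.ker_comp_of_isIso,
          Scheme.IdealSheafData.ker_fst_of_isClosedImmersion],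
      ModPairLib.ideal_comap _ _ ⟨⊤, isAffineOpen_top U⟩ ⟨W', hW'⟩ inf_le_left, ← Ideal.map_ofList, hker]

end Groth.Agent.Triage.SliceFlat
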