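import Groth.Agent.NormFieldX.Props
import Mathlib.RingTheory.Localization.FractionRing

/-!
# Universal property of the normalization of an integral scheme
-/

universe u

open CategoryTheory Limits AlgebraicGeometry TopologicalSpace

set_option backward.isDefEq.respectTransparency false
set_option backward.isDefEq.respectTransparency.types false

namespace Groth.Agent.Triage.NormUP

variable {X Z : Scheme.{u}} [IsIntegral X]

/-- Nonzero functions of `X` stay nonzero in the local rings of `Z`. -/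
def Good (g : Z ⟶ X) : Prop :=
  ∀ (U : X.Opens) (b : Γ(X, U)), b ≠ 0 → ∀ (z : Z) (hz : g z ∈ U),
    IsDomain (Z.presheaf.stalk z) ∧ Z.presheaf.germ (g ⁻¹ᵁ U) z hz (g.app U b) ≠ 0

theorem Good.comp {W : Scheme.{u}} {g : Z ⟶ X} (hg : Good g) (j : W ⟶ Z) [IsOpenImmersion j] :
    Good (j ≫ g) := by
  intro U b hb w hw
  obtain ⟨hd, hne⟩ := hg U b hb (j w) hw
  let σ := (asIso (j.stalkMap w)).commRingCatIsoToRingEquiv
  refine ⟨σ.symm.toMulEquiv.isDomain, fun h => hne (σ.injective ?_)⟩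
  rw [map_zero]
  refine Eq.trans ?_ h
  exact ConcreteCategory.congr_hom (Scheme.Hom.germ_stalkMap j (g ⁻¹ᵁ U) w hw) (g.app U b)

theorem good_of_normal (g : Z ⟶ X) (hZ : ∀ z : Z, IsDomain (Z.presheaf.stalk z))
    (hdom : ∀ z : Z, closure {z} ∈ irreducibleComponents ↥Z → g z = genericPoint ↥X) : Good g := by
  intro U b hb z hz
  haveI := hZ z
  refine ⟨hZ z, fun h0 => ?_⟩
  let p : ↥(Spec (Z.presheaf.stalk z)) := ⟨⊥, Ideal.isPrime_bot⟩
  let z₀ := Z.fromSpecStalk z p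
  have hz₀ : z₀ ⤳ z := by
    have : z₀ ∈ Set.range (Z.fromSpecStalk z) := ⟨p, rfl⟩
    rwa [Scheme.range_fromSpecStalk] at this
  have hmax : ∀ w : Z, w ⤳ z₀ → w = z₀ := fun w hw => by
    have : w ∈ Set.range (Z.fromSpecStalk z) := by
      rw [Scheme.range_fromSpecStalk]; exact hw.trans hz₀
    obtain ⟨q, rfl⟩ := this
    have h1 : q ⤳ p := (Z.fromSpecStalk z).isEmbedding.isInducing.specializes_iff.mp hw
    have h2 : p ⤳ q := (PrimeSpectrum.le_iff_specializes p q).1 bot_le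
    exact congrArg _ (h1.antisymm h2).eq
  have hirr : closure {z₀} ∈ irreducibleComponents ↥Z := by
    refine ⟨isIrreducible_singleton.closure, fun t ht hsub => ?_⟩
    obtain ⟨w, hw⟩ := QuasiSober.sober ht.closure isClosed_closure
    have h1 : w ⤳ z₀ := hw.specializes (subset_closure (hsub (subset_closure rfl)))
    rw [hmax w h1] at hw
    rw [hw]
    exact subset_closure
  have hη : g z₀ = genericPoint X := hdom z₀ hirr
  have hηU : g z₀ ∈ U := (hz₀.map g.continuous).mem_open U.isOpen hz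
  have h1 : Z.presheaf.germ (g ⁻¹ᵁ U) z₀ hηU (g.app U b) = 0 := by
    rw [← Z.presheaf.germ_stalkSpecializes (U := g ⁻¹ᵁ U) hz hz₀]
    exact (congrArg (Z.presheaf.stalkSpecializes hz₀).hom h0).trans (map_zero (Z.presheaf.stalkSpecializes hz₀).hom)
  have h2 : IsUnit (X.presheaf.germ U (g z₀) hηU b) := by
    have gen : ∀ (x : X) (hx : x ∈ U), x = genericPoint X → IsUnit (X.presheaf.germ U x hx b) := by
      rintro x hx rfl
      refine (isUnit_iff_ne_zero (G₀ := X.functionField)).2 fun h => hb ?_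
      exact AlgebraicGeometry.germ_injective_of_isIntegral X _ hx (h.trans (map_zero _).symm)
    exact gen _ _ hη
  have h3 := h2.map (g.stalkMap z₀).hom
  erw [Scheme.Hom.germ_stalkMap_apply g U z₀ hηU b] at h3
  erw [h1] at h3
  exact not_isUnit_zero h3

lemma eq_of_mul_eq {g : Z ⟶ X} (hg : Good g) {U : X.Opens} {b : Γ(X, U)} (hb : b ≠ 0)
    {W : Z.Opens} (hW : W ≤ g ⁻¹ᵁ U) {s s' : Γ(Z, W)}
    (h : g.appLE U W hW b * s = g.appLE U W hW b * s') : s = s' := by
  refine TopCat.Presheaf.section_ext Z.sheaf W s s' fun z hz => ?_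
  obtain ⟨hd, hne⟩ := hg U b hb z (hW hz)
  change Z.presheaf.germ W z hz s = Z.presheaf.germ W z hz s'
  refine mul_left_cancel₀ hne ?_
  have h1 := congrArg (Z.presheaf.germ W z hz) h
  rw [map_mul, map_mul] at h1
  have h2 : Z.presheaf.germ W z hz (g.appLE U W hW b) = Z.presheaf.germ (g ⁻¹ᵁ U) z (hW hz) (g.app U b) :=
    Z.presheaf.germ_res_apply (homOfLE hW) z hz _
  rwa [h2] at h1

variable {φ : X.functionField →+* X.functionField} (hφ : φ = RingHom.id _)
  [QuasiCompact (NormFieldX.pnt X X.functionField φ)] [QuasiSeparated (NormFieldX.pnt X X.functionField φ)]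

local notation "N" => NormFieldX.norm X X.functionField φ
local notation "ν" => NormFieldX.ν X X.functionField φ

include hφ in
omit [QuasiCompact (NormFieldX.pnt X X.functionField φ)] [QuasiSeparated (NormFieldX.pnt X X.functionField φ)] in
lemma φ_apply (x : X.functionField) : φ x = x := RingHom.congr_fun hφ x

lemma appLE_res (g : Z ⟶ X) {U : X.Opens} {W W' : Z.Opens} (e : W ≤ g ⁻¹ᵁ U) (i : W' ⟶ W) (r : Γ(X, U)) :
    Z.presheaf.map i.op (g.appLE U W e r) = g.appLE U W' (i.le.trans e) r :=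
  ConcreteCategory.congr_hom (g.appLE_map e i.op) r

include hφ in
lemma exists_num_den {U : X.Opens} (hU : IsAffineOpen U) (hη : genericPoint X ∈ U) (c : Γ(N, ν ⁻¹ᵁ U)) :
    ∃ a b : Γ(X, U), b ≠ 0 ∧ (ν).app U b * c = (ν).app U a := by
  haveI : Nonempty U := ⟨⟨_, hη⟩⟩
  haveI := functionField_isFractionRing_of_isAffineOpen X U hU
  obtain ⟨⟨a, b, hb⟩, hab⟩ := IsLocalization.surj (nonZeroDivisors Γ(X, U))
    (NormFieldX.evalK (K := X.functionField) (φ := φ) hη c)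
  refine ⟨a, b, nonZeroDivisors.ne_zero hb, ?_⟩
  apply (NormFieldX.evalK_injective_and_mem_range (K := X.functionField) (φ := φ) hU hη).1
  rw [map_mul, NormFieldX.evalK_app, NormFieldX.evalK_app, φ_apply hφ, φ_apply hφ, mul_comm]
  exact hab

include hφ in
lemma hom_ext {g : Z ⟶ X} (hg : Good g) (h₁ h₂ : Z ⟶ N) (e₁ : h₁ ≫ ν = g) (e₂ : h₂ ≫ ν = g) :
    h₁ = h₂ := by
  refine (Z.openCoverOfIsOpenCover _ (.comap (iSup_affineOpens_eq_top X) g.base.hom)).hom_ext _ _
    fun U => ?_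
  show (g ⁻¹ᵁ U.1).ι ≫ h₁ = (g ⁻¹ᵁ U.1).ι ≫ h₂
  have hV : IsAffineOpen ((ν) ⁻¹ᵁ U.1) := U.2.preimage _
  have le₁ : g ⁻¹ᵁ U.1 ≤ h₁ ⁻¹ᵁ (ν) ⁻¹ᵁ U.1 := by rw [← Scheme.Hom.comp_preimage, e₁]
  have le₂ : g ⁻¹ᵁ U.1 ≤ h₂ ⁻¹ᵁ (ν) ⁻¹ᵁ U.1 := by rw [← Scheme.Hom.comp_preimage, e₂]
  have key : ∀ (h : Z ⟶ N) (le : g ⁻¹ᵁ U.1 ≤ h ⁻¹ᵁ (ν) ⁻¹ᵁ U.1), (g ⁻¹ᵁ U.1).ι ≫ h =
      (g ⁻¹ᵁ U.1).toSpecΓ ≫ Spec.map (h.appLE _ _ le) ≫ hV.fromSpec := fun h le => by
    rw [Scheme.Opens.toSpecΓ_SpecMap_appLE_assoc, hV.toSpecΓ_fromSpec, Scheme.Hom.resLE_comp_ι]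
  rw [key h₁ le₁, key h₂ le₂]
  congr 3
  ext c
  rcases (U.1 : Set X).eq_empty_or_nonempty with he | ⟨x, hx⟩
  · have : g ⁻¹ᵁ U.1 = ⊥ := Opens.ext (by simp [he])
    haveI : Subsingleton Γ(Z, g ⁻¹ᵁ U.1) := by rw [this]; infer_instance
    exact Subsingleton.elim _ _
  have hη := NormFieldX.genericPoint_mem_of_nonempty hx
  obtain ⟨a, b, hb, hab⟩ := exists_num_den hφ U.2 hη c
  have hd : ∀ (h : Z ⟶ N) (e : h ≫ ν = g) (le : g ⁻¹ᵁ U.1 ≤ h ⁻¹ᵁ (ν) ⁻¹ᵁ U.1) (r : Γ(X, U.1)),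
      h.appLE _ _ le ((ν).app U.1 r) = g.appLE U.1 (g ⁻¹ᵁ U.1) le_rfl r := by
    rintro h rfl le r
    rw [Scheme.Hom.app_eq_appLE, ← CommRingCat.comp_apply, Scheme.Hom.appLE_comp_appLE]
  refine eq_of_mul_eq hg hb le_rfl ?_
  rw [← hd h₁ e₁ le₁ b]
  nth_rewrite 2 [hd h₁ e₁ le₁ b]
  nth_rewrite 1 [← hd h₂ e₂ le₂ b]
  rw [← map_mul, ← map_mul, hab, hd h₁ e₁ le₁, hd h₂ e₂ le₂]

/-- A section of `Z` which is the fraction `a / b`. -/
def IsFrac (g : Z ⟶ X) (U : X.Opens) (c : Γ(N, ν ⁻¹ᵁ U)) (s : Γ(Z, g ⁻¹ᵁ U)) : Prop :=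
  ∀ a b : Γ(X, U), b ≠ 0 → (ν).app U b * c = (ν).app U a → g.app U b * s = g.app U a

include hφ in
lemma isFrac_of_one {g : Z ⟶ X} (hg : Good g) {U : X.Opens} (hU : IsAffineOpen U)
    (hη : genericPoint X ∈ U) {c : Γ(N, ν ⁻¹ᵁ U)} {s : Γ(Z, g ⁻¹ᵁ U)} {a b : Γ(X, U)} (hb : b ≠ 0)
    (hc : (ν).app U b * c = (ν).app U a) (hs : g.app U b * s = g.app U a) : IsFrac g U c s := by
  intro a' b' _ hc'
  have key : a' * b = a * b' := by
    apply AlgebraicGeometry.germ_injective_of_isIntegral X _ hη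
    have h1 := congrArg (NormFieldX.evalK (K := X.functionField) (φ := φ) hη) hc
    have h2 := congrArg (NormFieldX.evalK (K := X.functionField) (φ := φ) hη) hc'
    simp only [map_mul, NormFieldX.evalK_app, φ_apply hφ] at h1 h2
    rw [map_mul, map_mul, ← h1, ← h2]
    ring
  refine eq_of_mul_eq hg hb le_rfl ?_
  simp only [← Scheme.Hom.app_eq_appLE]
  rw [← map_mul, mul_comm b a', key, map_mul, ← hs]
  ring

include hφ in
lemma exists_isFrac {g : Z ⟶ X} (hg : Good g) (hint : ∀ z : Z, IsIntegrallyClosed (Z.presheaf.stalk z))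
    {U : X.Opens} (hU : IsAffineOpen U) (hη : genericPoint X ∈ U) (c : Γ(N, ν ⁻¹ᵁ U)) :
    ∃ s, IsFrac g U c s := by
  obtain ⟨a, b, hb, hab⟩ := exists_num_den hφ hU hη c
  suffices ∃ s, g.app U b * s = g.app U a by
    obtain ⟨s, hs⟩ := this
    exact ⟨s, isFrac_of_one hφ hg hU hη hb hab hs⟩
  haveI : Nonempty U := ⟨⟨_, hη⟩⟩
  haveI := functionField_isFractionRing_of_isAffineOpen X U hU
  have hloc : ∀ z : (g ⁻¹ᵁ U : Z.Opens), ∃ (W : Z.Opens) (_ : z.1 ∈ W) (hW : W ≤ g ⁻¹ᵁ U) (s : Γ(Z, W)),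
      g.appLE U W hW b * s = g.appLE U W hW a := by
    rintro ⟨z, hz⟩
    haveI := (hg U b hb z hz).1
    haveI := hint z
    let ι : Γ(X, U) →+* Z.presheaf.stalk z :=
      (g.app U ≫ Z.presheaf.germ (g ⁻¹ᵁ U) z hz).hom
    let F := FractionRing (Z.presheaf.stalk z)
    let j : Γ(X, U) →+* F := (algebraMap (Z.presheaf.stalk z) F).comp ι
    have hj : Function.Injective j := (injective_iff_map_eq_zero j).2 fun r hr => by
      by_contra h
      exact (hg U r h z hz).2 (IsFractionRing.injective (Z.presheaf.stalk z) F (hr.trans (map_zero _).symm))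
    obtain ⟨L, hL⟩ : ∃ L : X.functionField →+* F, ∀ r, L (X.presheaf.germ U (genericPoint X) hη r) = j r := by
      letI : Algebra Γ(X, U) X.functionField := (X.presheaf.germ U (genericPoint X) hη).hom.toAlgebra
      exact ⟨IsFractionRing.lift hj, fun r => IsFractionRing.lift_algebraMap hj r⟩
    let q := L (NormFieldX.evalK (K := X.functionField) (φ := φ) hη c)
    obtain ⟨P, hP, hPc⟩ := ((NormFieldX.evalK_injective_and_mem_range (K := X.functionField) (φ := φ) hU hη).2 _).1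
      ⟨c, rfl⟩
    have hq : IsIntegral (Z.presheaf.stalk z) q := by
      refine ⟨P.map ι, hP.map ι, ?_⟩
      rw [Polynomial.eval₂_map]
      have h2 := congrArg L hPc
      rw [Polynomial.hom_eval₂, map_zero] at h2
      have e : L.comp (φ.comp (X.presheaf.germ U (genericPoint X) hη).hom) = j :=
        RingHom.ext fun r => (congrArg L (φ_apply hφ _)).trans (hL r)
      rw [e] at h2
      exact h2
    obtain ⟨t, ht⟩ := IsIntegrallyClosed.isIntegral_iff.1 hq
    obtain ⟨W₀, hzW₀, s₀, rfl⟩ := Z.presheaf.exists_germ_eq (x := z) t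
    have h3 : ι b * Z.presheaf.germ W₀ z hzW₀ s₀ = ι a := by
      apply IsFractionRing.injective (Z.presheaf.stalk z) F
      rw [map_mul, ht]
      have h4 := congrArg (NormFieldX.evalK (K := X.functionField) (φ := φ) hη) hab
      simp only [map_mul, NormFieldX.evalK_app, φ_apply hφ] at h4
      have h5 := congrArg L h4
      rw [map_mul] at h5
      rwa [hL, hL] at h5
    let W := W₀ ⊓ g ⁻¹ᵁ U
    have hzW : z ∈ W := ⟨hzW₀, hz⟩
    have h6 : Z.presheaf.germ W z hzW (g.appLE U W inf_le_right b * Z.presheaf.map (homOfLE inf_le_left).op s₀) =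
        Z.presheaf.germ W z hzW (g.appLE U W inf_le_right a) := by
      have e1 : ∀ r, Z.presheaf.germ W z hzW (g.appLE U W inf_le_right r) = ι r := fun r =>
        Z.presheaf.germ_res_apply (homOfLE inf_le_right) z hzW _
      have e2 : Z.presheaf.germ W z hzW (Z.presheaf.map (homOfLE inf_le_left).op s₀) =
          Z.presheaf.germ W₀ z hzW₀ s₀ := Z.presheaf.germ_res_apply (homOfLE inf_le_left) z hzW _
      rw [map_mul, e1, e1, e2]
      exact h3
    obtain ⟨W', hzW', i, i', hi⟩ := Z.presheaf.germ_eq z hzW hzW _ _ h6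
    refine ⟨W', hzW', i.le.trans inf_le_right,
      Z.presheaf.map i.op (Z.presheaf.map (homOfLE inf_le_left).op s₀), ?_⟩
    rw [Subsingleton.elim i' i, map_mul] at hi
    rwa [appLE_res, appLE_res] at hi
  choose W hzW hW s hs using hloc
  obtain ⟨S, hS, -⟩ := TopCat.Sheaf.existsUnique_gluing' Z.sheaf W (g ⁻¹ᵁ U) (fun p => homOfLE (hW p))
    (fun p hp => Opens.mem_iSup.2 ⟨⟨p, hp⟩, hzW ⟨p, hp⟩⟩) s fun p q => by
      refine eq_of_mul_eq hg hb (inf_le_left.trans (hW p)) ?_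
      have h1 := congrArg (Z.presheaf.map (homOfLE (inf_le_left : W p ⊓ W q ≤ W p)).op) (hs p)
      have h2 := congrArg (Z.presheaf.map (homOfLE (inf_le_right : W p ⊓ W q ≤ W q)).op) (hs q)
      rw [map_mul, appLE_res, appLE_res] at h1 h2
      exact h1.trans h2.symm
  refine ⟨S, TopCat.Sheaf.eq_of_locally_eq' Z.sheaf W (g ⁻¹ᵁ U) (fun p => homOfLE (hW p))
    (fun p hp => Opens.mem_iSup.2 ⟨⟨p, hp⟩, hzW ⟨p, hp⟩⟩) _ _ fun p => ?_⟩
  refine (map_mul (Z.presheaf.map (homOfLE (hW p)).op).hom _ _).trans ?_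
  exact (congrArg (g.appLE U (W p) (hW p) b * ·) (hS p)).trans (hs p)

include hφ in
theorem existsUnique_lift (g : Z ⟶ X) (hg : Good g) (hint : ∀ z : Z, IsIntegrallyClosed (Z.presheaf.stalk z)) :
    ∃! h : Z ⟶ N, h ≫ ν = g := by
  classical
  -- the ring maps
  have hψ : ∀ U : X.affineOpens, ∃ ψ : Γ(N, ν ⁻¹ᵁ U.1) →+* Γ(Z, g ⁻¹ᵁ U.1),
      ψ.comp ((ν).app U.1).hom = (g.app U.1).hom := by
    intro U
    rcases (U.1 : Set X).eq_empty_or_nonempty with he | ⟨x, hx⟩
    · haveI : Subsingleton Γ(Z, g ⁻¹ᵁ U.1) := by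
        rw [show g ⁻¹ᵁ U.1 = ⊥ from Opens.ext (by simp [he])]; infer_instance
      exact ⟨{ toFun := fun _ => 0
               map_one' := Subsingleton.elim _ _
               map_mul' := fun _ _ => Subsingleton.elim _ _
               map_zero' := rfl
               map_add' := fun _ _ => Subsingleton.elim _ _ }, RingHom.ext fun _ => Subsingleton.elim _ _⟩
    have hη := NormFieldX.genericPoint_mem_of_nonempty hx
    choose ψ hψ using exists_isFrac hφ hg hint U.2 hη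
    have huniq : ∀ c a b, b ≠ 0 → (ν).app U.1 b * c = (ν).app U.1 a → ∀ t,
        g.app U.1 b * t = g.app U.1 a → ψ c = t := fun c a b hb hc t ht => by
      refine eq_of_mul_eq hg hb le_rfl ?_
      simp only [← Scheme.Hom.app_eq_appLE]
      exact (hψ c a b hb hc).trans ht.symm
    haveI : Nonempty U.1 := ⟨⟨_, hη⟩⟩
    have hbase : ∀ r, ψ ((ν).app U.1 r) = g.app U.1 r := fun r =>
      huniq _ r 1 one_ne_zero (by rw [map_one, one_mul]) _ (by rw [map_one, one_mul])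
    refine ⟨{ toFun := ψ
              map_one' := by simpa using hbase 1
              map_zero' := by simpa using hbase 0
              map_mul' := fun c c' => ?_
              map_add' := fun c c' => ?_ }, RingHom.ext hbase⟩
    · obtain ⟨a, b, hb, hc⟩ := exists_num_den hφ U.2 hη c
      obtain ⟨a', b', hb', hc'⟩ := exists_num_den hφ U.2 hη c'
      refine huniq _ (a * a') (b * b') (mul_ne_zero hb hb') ?_ _ ?_
      · rw [map_mul, map_mul, ← hc, ← hc']; ring
      · rw [map_mul, map_mul, ← hψ c a b hb hc, ← hψ c' a' b' hb' hc']; ring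
    · obtain ⟨a, b, hb, hc⟩ := exists_num_den hφ U.2 hη c
      obtain ⟨a', b', hb', hc'⟩ := exists_num_den hφ U.2 hη c'
      refine huniq _ (a * b' + a' * b) (b * b') (mul_ne_zero hb hb') ?_ _ ?_
      · rw [map_add, map_mul, map_mul, map_mul, ← hc, ← hc']; ring
      · rw [map_add, map_mul, map_mul, map_mul, ← hψ c a b hb hc, ← hψ c' a' b' hb' hc']; ring
  choose ψ hψ using hψ
  let 𝒰 : Z.OpenCover := Z.openCoverOfIsOpenCover _ (.comap (iSup_affineOpens_eq_top X) g.base.hom)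
  let h : ∀ U : X.affineOpens, (g ⁻¹ᵁ U.1).toScheme ⟶ N := fun U =>
    (g ⁻¹ᵁ U.1).toSpecΓ ≫ Spec.map (CommRingCat.ofHom (ψ U)) ≫ (U.2.preimage (ν)).fromSpec
  have hh : ∀ U, h U ≫ ν = (g ⁻¹ᵁ U.1).ι ≫ g := fun U => by
    simp only [h, Category.assoc]
    rw [← IsAffineOpen.SpecMap_appLE_fromSpec (ν) U.2 (U.2.preimage _) le_rfl,
      ← Spec.map_comp_assoc, ← Scheme.Hom.app_eq_appLE]
    have : (ν).app U.1 ≫ CommRingCat.ofHom (ψ U) = g.app U.1 := CommRingCat.hom_ext (hψ U)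
    rw [this]
    simp
  let H : Z ⟶ N := 𝒰.glueMorphisms h fun U V => by
    refine hom_ext hφ (hg.comp (pullback.fst (𝒰.f U) (𝒰.f V) ≫ 𝒰.f U)) _ _ ?_ ?_
    · rw [Category.assoc, Category.assoc]
      exact congrArg _ (hh U)
    · rw [pullback.condition, Category.assoc, Category.assoc]
      exact congrArg _ (hh V)
  have hH : H ≫ ν = g := 𝒰.hom_ext _ _ fun U => by
    rw [Scheme.Cover.ι_glueMorphisms_assoc]
    exact hh U
  exact ⟨H, hH, fun h' hh' => hom_ext hφ hg h' H hh' hH⟩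

include hφ in
theorem existsUnique_lift_of_eq (f : Spec X.functionField ⟶ X) [QuasiCompact f] [QuasiSeparated f]
    (hf : f = NormFieldX.pnt X X.functionField φ) (g : Z ⟶ X) (hg : Good g)
    (hint : ∀ z : Z, IsIntegrallyClosed (Z.presheaf.stalk z)) :
    ∃! h : Z ⟶ f.normalization, h ≫ f.fromNormalization = g := by
  subst hf
  exact existsUnique_lift hφ g hg hint

end Groth.Agent.Triage.NormUP
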