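import Groth.Agent.Triage.SliceFlatSch
import Groth.Agent.LC.DepthExt
import Groth.Prelude.Def_MoreMor

/-!
# Slicing a Cohen–Macaulay morphism: the auxiliary statements
-/

set_option autoImplicit false
set_option backward.isDefEq.respectTransparency false
universe u

open AlgebraicGeometry CategoryTheory IsLocalRing TopologicalSpace RingTheory.Sequence

namespace Groth.Agent.Triage.SliceCM

/-- A closed point without generalizations of a Noetherian sober space is open. -/
theorem isOpen_singleton_of_minimal {T : Type*} [TopologicalSpace T] [QuasiSober T]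
    [NoetherianSpace T] (z : T) (hcl : IsClosed ({z} : Set T)) (hgen : ∀ w, w ⤳ z → w = z) :
    IsOpen ({z} : Set T) := by
  have hf := NoetherianSpace.finite_irreducibleComponents (α := T)
  have e : ({z} : Set T) = (⋃ W ∈ irreducibleComponents T \ {{z}}, W)ᶜ := by
    ext x
    simp only [Set.mem_singleton_iff, Set.mem_compl_iff, Set.mem_iUnion₂, not_exists]
    refine ⟨?_, fun h => ?_⟩
    · rintro rfl W hW hxW
      apply hW.2
      have hg := hW.1.1.closure_genericPoint (isClosed_of_mem_irreducibleComponents W hW.1)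
      have h1 : hW.1.1.genericPoint ⤳ x := specializes_iff_mem_closure.2 (hg.symm ▸ hxW)
      rw [Set.mem_singleton_iff, ← hg, hgen _ h1, hcl.closure_eq]
    · obtain ⟨W, hW, hxW⟩ := Set.mem_sUnion.1
        ((sUnion_irreducibleComponents (X := T)).ge (Set.mem_univ x))
      by_contra hxz
      exact h W ⟨hW, fun he => hxz (by rw [Set.mem_singleton_iff] at he; rw [he] at hxW; exact hxW)⟩ hxW
  rw [e]
  exact ((hf.subset Set.sdiff_subset).isClosed_biUnion fun W hW =>
    isClosed_of_mem_irreducibleComponents W hW.1).isOpen_compl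

/-- The same on a locally Noetherian scheme. -/
theorem isOpen_singleton_of_minimal_scheme {X : Scheme.{u}} [IsLocallyNoetherian X] (z : X)
    (hcl : IsClosed ({z} : Set X)) (hgen : ∀ w, w ⤳ z → w = z) : IsOpen ({z} : Set X) := by
  obtain ⟨W, hW, hzW, -⟩ := exists_isAffineOpen_mem_and_subset (X := X) (x := z) (U := ⊤) trivial
  haveI : IsNoetherianRing Γ(X, W) := IsLocallyNoetherian.component_noetherian ⟨W, hW⟩
  haveI : NoetherianSpace ↥(Spec Γ(X, W)) :=
    inferInstanceAs (NoetherianSpace (PrimeSpectrum Γ(X, W)))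
  let z' := hW.primeIdealOf ⟨z, hzW⟩
  have hz' : hW.fromSpec z' = z := hW.fromSpec_primeIdealOf _
  have he : ({z'} : Set _) = hW.fromSpec ⁻¹' {z} := by
    ext w
    simp only [Set.mem_singleton_iff, Set.mem_preimage]
    exact ⟨fun h => h ▸ hz', fun h => hW.fromSpec.isOpenEmbedding.injective (h.trans hz'.symm)⟩
  have h1 : IsOpen ({z'} : Set _) := by
    refine isOpen_singleton_of_minimal z' (he ▸ hcl.preimage hW.fromSpec.continuous) fun w hw => ?_
    refine hW.fromSpec.isOpenEmbedding.injective ((hgen _ ?_).trans hz'.symm)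
    exact hz' ▸ hw.map hW.fromSpec.continuous
  have h2 := hW.fromSpec.isOpenEmbedding.isOpenMap _ h1
  rwa [Set.image_singleton, hz'] at h2

/-- A regular sequence of length the dimension of a Cohen–Macaulay local ring lies only in the maximal
ideal. -/
theorem exists_seq (R : Type u) [CommRing R] [hR : LocCoh.IsCohenMacaulayLocalRing R] :
    ∃ rs : List R, IsWeaklyRegular R rs ∧ (∀ r ∈ rs, r ∈ maximalIdeal R) ∧
      ∀ P : Ideal R, P.IsPrime → (∀ r ∈ rs, r ∈ P) → P = maximalIdeal R := by
  have hIM := LC.smul_top_ne_top_of_le_maximal (R := R) (M := R) (J := maximalIdeal R) le_rfl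
  obtain ⟨rs, hrs, hmem, hlen⟩ := LC.exists_idealDepth_eq_length (I := maximalIdeal R) (M := R) hIM
  refine ⟨rs, hrs, hmem, fun P hP hPmem => ?_⟩
  have hreg : IsRegular R rs := ⟨hrs, fun h => by
    refine (maximalIdeal.isMaximal R).ne_top (top_le_iff.1 ?_)
    rw [Ideal.smul_eq_mul, Ideal.mul_top] at h
    exact h.le.trans (LC.ofList_le _ hmem)⟩
  have h1 := Module.supportDim_add_length_eq_supportDim_of_isRegular rs hreg
  rw [hR.supportDim_eq_depth, show LocCoh.depth R R = (rs.length : ℕ∞) from hlen,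
    Module.supportDim_eq_of_equiv (Submodule.quotEquivOfEq (Ideal.ofList rs • ⊤ : Submodule R R) (Ideal.ofList rs)
      (by rw [Ideal.smul_eq_mul, Ideal.mul_top]))] at h1
  let I := Ideal.ofList rs
  have hIP : I ≤ P := Ideal.span_le.2 hPmem
  have hle : P ≤ maximalIdeal R := IsLocalRing.le_maximalIdeal hP.ne_top
  have hne : Nontrivial (R ⧸ I) := Ideal.Quotient.nontrivial_iff.2 fun h => hP.ne_top (top_le_iff.1 (h ▸ hIP))
  rw [Module.supportDim_eq_ringKrullDim_quotient_annihilator, Ideal.annihilator_quotient] at h1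
  have h0 : ringKrullDim (R ⧸ I) = 0 := by
    have h2 : ringKrullDim (R ⧸ I) + ((rs.length : ℕ) : WithBot ℕ∞) = 0 + ((rs.length : ℕ) : WithBot ℕ∞) := by
      rw [zero_add]; exact h1
    refine le_antisymm ?_ ringKrullDim_nonneg_of_nontrivial
    obtain ⟨d, hd⟩ := WithBot.ne_bot_iff_exists.1
      (ne_bot_of_le_ne_bot WithBot.zero_ne_bot (ringKrullDim_nonneg_of_nontrivial (R := R ⧸ I)))
    rw [← hd] at h2 ⊢
    have h3 : d + (rs.length : ℕ∞) = 0 + (rs.length : ℕ∞) := by exact_mod_cast h2
    rw [(ENat.add_left_injective_of_ne_top (ENat.natCast_ne_top _)) h3]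
    rfl
  haveI : Ring.KrullDimLE 0 (R ⧸ I) := Ring.krullDimLE_iff.2 (by rw [h0]; rfl)
  haveI hPm : (P.map (Ideal.Quotient.mk I)).IsPrime :=
    Ideal.map_isPrime_of_surjective Ideal.Quotient.mk_surjective (by rwa [Ideal.mk_ker])
  have hmax : P.IsMaximal := by
    have := (Ideal.IsPrime.isMaximal' (I := P.map (Ideal.Quotient.mk I)) : _)
    have h4 := Ideal.comap_isMaximal_of_surjective (Ideal.Quotient.mk I) Ideal.Quotient.mk_surjective
      (K := P.map (Ideal.Quotient.mk I))
    rwa [Ideal.comap_map_of_surjective _ Ideal.Quotient.mk_surjective, ← RingHom.ker_eq_comap_bot,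
      Ideal.mk_ker, sup_eq_left.2 hIP] at h4
  exact eq_maximalIdeal hmax

variable {X S : Scheme.{u}}

theorem isLocalHom_stalkSpecializes_of_eq {X : Scheme.{u}} {a b : X} (h : a ⤳ b) (e : a = b) :
    IsLocalHom (X.presheaf.stalkSpecializes h).hom := by
  subst e
  rw [TopCat.Presheaf.stalkSpecializes_refl]
  exact ⟨fun r hr => hr⟩

/-- The only generalization of `x` in its fibre at which the sequence vanishes is `x`. -/
theorem eq_of_specializes (f : X ⟶ S) (x y : X) (hyx : y ⤳ x) (hfy : f y = f x)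
    (hs : List (X.presheaf.stalk x))
    (hP : ∀ P : Ideal (X.presheaf.stalk x), P.IsPrime → (∀ h ∈ hs, h ∈ P) →
      (maximalIdeal (S.presheaf.stalk (f x))).map (f.stalkMap x).hom ≤ P → P = maximalIdeal _)
    (hy : ∀ h ∈ hs, (X.presheaf.stalkSpecializes hyx).hom h ∈ maximalIdeal (X.presheaf.stalk y)) :
    y = x := by
  let σ := X.presheaf.stalkSpecializes hyx
  have hP' : (maximalIdeal (X.presheaf.stalk y)).comap σ.hom = maximalIdeal _ := by
    refine hP _ inferInstance hy (Ideal.map_le_iff_le_comap.2 fun r hr => ?_)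
    rw [Ideal.mem_comap, Ideal.mem_comap]
    have hn : σ.hom ((f.stalkMap x).hom r) =
        (f.stalkMap y).hom ((S.presheaf.stalkSpecializes (hyx.map f.continuous)).hom r) :=
      (congrArg (fun k => k.hom r) (f.stalkSpecializes_stalkMap y x hyx)).symm
    rw [hn]
    haveI := isLocalHom_stalkSpecializes_of_eq (hyx.map f.continuous) hfy
    exact map_nonunit _ _ (map_nonunit _ _ hr)
  have h1 := congrArg (fun (k : Spec (X.presheaf.stalk y) ⟶ X) => k (closedPoint _))
    (Scheme.SpecMap_stalkSpecializes_fromSpecStalk (X := X) hyx)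
  simp only [Scheme.Hom.comp_apply, Scheme.fromSpecStalk_closedPoint] at h1
  rw [← h1, show Spec.map σ (closedPoint _) = closedPoint (X.presheaf.stalk x) from PrimeSpectrum.ext hP',
    Scheme.fromSpecStalk_closedPoint]

end Groth.Agent.Triage.SliceCM
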