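import Groth.Agent.GeomConn5.Count
import Groth.Agent.GeomConn5.Irred
import Groth.Agent.VarGeom.OpenMap
import Groth.Prelude.Def_MoreMor
import Mathlib

/-!
# Geometric numbers of components do not depend on the separably closed field
-/

set_option autoImplicit false
set_option linter.style.haveILetI false
set_option backward.isDefEq.respectTransparency false
set_option backward.isDefEq.respectTransparency.types false

open AlgebraicGeometry CategoryTheory CategoryTheory.Limits Topology

namespace Groth.Agent.Triage.GeomCount

universe u

theorem card_connectedComponents_eq {X Y : Type u} [TopologicalSpace X] [TopologicalSpace Y] (p : X → Y)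
    (hc : Continuous p) (hs : Function.Surjective p)
    (h : ∀ y : Y, IsPreconnected (p ⁻¹' connectedComponent y)) :
    ENat.card (ConnectedComponents X) = ENat.card (ConnectedComponents Y) := by
  refine ENat.card_congr (Equiv.ofBijective hc.connectedComponentsMap ⟨?_, ?_⟩)
  · rintro ⟨a⟩ ⟨b⟩ hab
    have h1 : connectedComponent (p a) = connectedComponent (p b) :=
      ConnectedComponents.coe_eq_coe.1 hab
    exact (ConnectedComponents.coe_eq_coe'.2
      ((h (p a)).subset_connectedComponent (mem_connectedComponent (x := p a))
        (show p b ∈ connectedComponent (p a) from h1 ▸ mem_connectedComponent))).symm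
  · rintro ⟨y⟩
    obtain ⟨x, rfl⟩ := hs y
    exact ⟨⟦x⟧, rfl⟩

theorem range_of_sepClosed (k K : Type u) [Field k] [Field K] [Algebra k K] [IsSepClosed k] (a : K)
    (ha : IsSeparable k a) : a ∈ Set.range (algebraMap k K) :=
  minpoly.mem_range_of_degree_eq_one k a
    (IsSepClosed.degree_eq_one_of_irreducible k (minpoly.irreducible ha.isIntegral) ha)

theorem nGeom_baseChange {X Y X' Y' : Scheme.{u}} (f : X ⟶ Y) (f' : X' ⟶ Y') (g' : X' ⟶ X) (g : Y' ⟶ Y)
    (hc : IsPullback g' f' f g) (y' : Y') :
    MoreMor.nGeomIrredComp f' y' = MoreMor.nGeomIrredComp f (g y') ∧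
      MoreMor.nGeomConnComp f' y' = MoreMor.nGeomConnComp f (g y') := by
  let k := Y.residueField (g y')
  let k' := Y'.residueField y'
  let Ω := SeparableClosure k
  let Ω' := SeparableClosure k'
  let φ : k →+* k' := (g.residueFieldMap y').hom
  letI : Algebra k Ω' := ((algebraMap k' Ω').comp φ).toAlgebra
  let ι : Ω →ₐ[k] Ω' := IsSepClosed.lift
  letI : Algebra Ω Ω' := ι.toRingHom.toAlgebra
  let a : Spec (CommRingCat.of Ω') ⟶ Spec (CommRingCat.of Ω) := Spec.map (CommRingCat.ofHom (algebraMap Ω Ω'))
  let b : Spec (CommRingCat.of Ω) ⟶ Spec (Y.residueField (g y')) :=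
    Spec.map (CommRingCat.ofHom (algebraMap k Ω))
  let b' : Spec (CommRingCat.of Ω') ⟶ Spec (Y'.residueField y') :=
    Spec.map (CommRingCat.ofHom (algebraMap k' Ω'))
  have hw : a ≫ b = b' ≫ Spec.map (g.residueFieldMap y') := by
    show Spec.map _ ≫ Spec.map _ = Spec.map _ ≫ Spec.map _
    rw [← Spec.map_comp, ← Spec.map_comp]
    congr 1
    refine CommRingCat.hom_ext (RingHom.ext fun c => ?_)
    exact ι.commutes c
  haveI : GeometricallyIrreducible a :=
    GeomConn5.geometricallyIrreducible_spec_field Ω Ω' fun x hx => range_of_sepClosed Ω Ω' x hx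
  haveI : GeometricallyConnected a :=
    GeomConn5.geometricallyConnected_spec_field Ω Ω' fun x hx => range_of_sepClosed Ω Ω' x hx
  haveI : UniversallyOpen a := VarGeom.universallyOpen_of_field _
  -- the geometric fibre upstairs is the base change of the geometric fibre downstairs
  have hbig : IsPullback (pullback.fst (f'.fiberToSpecResidueField y') b' ≫ f'.fiberι y' ≫ g')
      (pullback.snd (f'.fiberToSpecResidueField y') b') f (b' ≫ Y'.fromSpecResidueField y' ≫ g) :=
    (IsPullback.of_hasPullback (f'.fiberToSpecResidueField y') b').paste_horiz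
      ((IsPullback.of_hasPullback f' (Y'.fromSpecResidueField y')).paste_horiz hc)
  have hsmall : IsPullback (pullback.fst (f.fiberToSpecResidueField (g y')) b ≫ f.fiberι (g y'))
      (pullback.snd (f.fiberToSpecResidueField (g y')) b) f (b ≫ Y.fromSpecResidueField (g y')) :=
    (IsPullback.of_hasPullback (f.fiberToSpecResidueField (g y')) b).paste_horiz
      (IsPullback.of_hasPullback f (Y.fromSpecResidueField (g y')))
  have hmid : IsPullback (pullback.fst (pullback.snd (f.fiberToSpecResidueField (g y')) b) a ≫
      (pullback.fst (f.fiberToSpecResidueField (g y')) b ≫ f.fiberι (g y')))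
      (pullback.snd (pullback.snd (f.fiberToSpecResidueField (g y')) b) a) f
      (b' ≫ Y'.fromSpecResidueField y' ≫ g) := by
    have h := (IsPullback.of_hasPullback (pullback.snd (f.fiberToSpecResidueField (g y')) b) a).paste_horiz hsmall
    rwa [reassoc_of% hw, Scheme.Hom.SpecMap_residueFieldMap_fromSpecResidueField] at h
  let e := hbig.isoIsPullback _ _ hmid
  let p := pullback.fst (pullback.snd (f.fiberToSpecResidueField (g y')) b) a
  have hhom : IsHomeomorph e.hom := e.hom.homeomorph.isHomeomorph
  have h1 : (irreducibleComponents ↥(MoreMor.geomFiber f' y')).encard =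
      (irreducibleComponents ↥(pullback (pullback.snd (f.fiberToSpecResidueField (g y')) b) a)).encard := by
    let H := e.hom.homeomorph
    exact (Set.encard_congr (irreducibleComponentsEquivOfIsPreirreducibleFiber H H.continuous H.isOpenMap
      (fun z => Set.Subsingleton.isPreirreducible ((Set.subsingleton_singleton).preimage H.injective))
      H.surjective).toEquiv).symm
  have h2 : ENat.card (_root_.ConnectedComponents ↥(MoreMor.geomFiber f' y')) =
      ENat.card (_root_.ConnectedComponents ↥(pullback (pullback.snd (f.fiberToSpecResidueField (g y')) b) a)) := by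
    let H := e.hom.homeomorph
    exact card_connectedComponents_eq H H.continuous H.surjective fun z =>
      H.isPreconnected_preimage.2 isPreconnected_connectedComponent
  refine ⟨h1.trans ?_, h2.trans ?_⟩
  · exact (Set.encard_congr (irreducibleComponentsEquivOfIsPreirreducibleFiber p p.continuous
      p.isOpenMap (fun z => (p.isIrreducible_preimage p.isOpenMap isIrreducible_singleton).isPreirreducible)
      p.surjective).toEquiv).symm
  · exact card_connectedComponents_eq p p.continuous p.surjective fun z =>
      (p.isConnected_preimage p.isOpenMap isConnected_connectedComponent isClosed_connectedComponent).isPreconnected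

end Groth.Agent.Triage.GeomCount
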