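import Mathlib

universe u

namespace Triage.NilGen

variable {A B : Type u} [CommRing A] [CommRing B] [Algebra A B]

/-- A subalgebra containing generators of a nilpotent ideal and surjecting onto the quotient is everything. -/
theorem adjoin_eq_top (J : Ideal B) (hJ : IsNilpotent J) (C : Subalgebra A B) (g : Set B)
    (hg : Ideal.span g = J) (hgC : g ⊆ C) (hC : ∀ b, ∃ c ∈ C, b - c ∈ J) : C = ⊤ := by
  have key : ∀ (k : ℕ), ∀ x ∈ J ^ k, ∃ c ∈ C, x - c ∈ J ^ (k + 1) := by
    intro k
    induction k with
    | zero => intro x _; simpa using hC x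
    | succ k ih =>
      intro x hx
      rw [pow_succ] at hx
      refine Submodule.mul_induction_on hx (fun y hy z hz => ?_) (fun y z hy hz => ?_)
      · clear hx x
        obtain ⟨c, hc, hyc⟩ := ih y hy
        have hz' : z ∈ Ideal.span g := hg ▸ hz
        clear hz
        induction hz' using Submodule.span_induction generalizing y c with
        | mem t ht =>
          refine ⟨c * t, C.mul_mem hc (hgC ht), ?_⟩
          rw [← sub_mul, pow_succ]
          exact Ideal.mul_mem_mul hyc (hg ▸ Ideal.subset_span ht)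
        | zero => exact ⟨0, C.zero_mem, by simp⟩
        | add t t' _ _ h h' =>
          obtain ⟨d, hd, e⟩ := h y hy c hc hyc
          obtain ⟨d', hd', e'⟩ := h' y hy c hc hyc
          refine ⟨d + d', C.add_mem hd hd', ?_⟩
          rw [show y * (t + t') - (d + d') = y * t - d + (y * t' - d') by ring]
          exact Ideal.add_mem _ e e'
        | smul r t _ h =>
          obtain ⟨c', hc', e⟩ := ih (y * r) (Ideal.mul_mem_right r _ hy)
          obtain ⟨d, hd, e'⟩ := h (y * r) (Ideal.mul_mem_right r _ hy) c' hc' e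
          exact ⟨d, hd, by rwa [smul_eq_mul, ← mul_assoc]⟩
      · obtain ⟨c, hc, e⟩ := hy
        obtain ⟨d, hd, e'⟩ := hz
        refine ⟨c + d, C.add_mem hc hd, ?_⟩
        rw [show y + z - (c + d) = y - c + (z - d) by ring]
        exact Ideal.add_mem _ e e'
  obtain ⟨n, hn⟩ := hJ
  have : ∀ k, ∀ x : B, ∃ c ∈ C, x - c ∈ J ^ k := by
    intro k x
    induction k with
    | zero => exact ⟨0, C.zero_mem, by simp⟩
    | succ k ih =>
      obtain ⟨c, hc, e⟩ := ih
      obtain ⟨d, hd, e'⟩ := key k _ e
      exact ⟨c + d, C.add_mem hc hd, by rwa [← sub_sub]⟩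
  refine eq_top_iff.2 fun x _ => ?_
  obtain ⟨c, hc, e⟩ := this n x
  rw [hn, Ideal.zero_eq_bot, Ideal.mem_bot, sub_eq_zero] at e
  exact e ▸ hc

/-- Finite type lifts along a nilpotent finitely generated ideal. -/
theorem finiteType {A B B₀ : Type u} [CommRing A] [CommRing B] [CommRing B₀] (f : A →+* B) (π : B →+* B₀)
    (hπ : Function.Surjective π) (hnil : IsNilpotent (RingHom.ker π)) (hfg : (RingHom.ker π).FG)
    (h : (π.comp f).FiniteType) : f.FiniteType := by
  algebraize [f, π.comp f]
  let p : B →ₐ[A] B₀ := { π with commutes' := fun _ => rfl }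
  obtain ⟨s, hs⟩ := h.out
  obtain ⟨g, hg⟩ := hfg
  choose σ hσ using hπ
  classical
  refine ⟨s.image σ ∪ g, adjoin_eq_top (RingHom.ker π) hnil _ g hg ?_ ?_⟩
  · exact fun x hx => Algebra.subset_adjoin (by simp [Finset.mem_coe.1 hx])
  · intro b
    have hb : p b ∈ Algebra.adjoin A (p '' (s.image σ : Set B)) := by
      have : p '' (s.image σ : Set B) = (s : Set B₀) := by
        rw [Finset.coe_image, Set.image_image]
        exact Set.ext fun x => ⟨fun ⟨y, hy, e⟩ => by simpa [← e, show p (σ y) = y from hσ y] using hy,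
          fun hx => ⟨x, hx, hσ x⟩⟩
      rw [this, hs]; trivial
    rw [Algebra.adjoin_image] at hb
    obtain ⟨c, hc, e⟩ := hb
    refine ⟨c, Algebra.adjoin_mono (by simp) hc, ?_⟩
    rw [RingHom.mem_ker, map_sub, sub_eq_zero]
    exact e.symm

end Triage.NilGen
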