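import Groth.Agent.Triage.CMBC
import Groth.Agent.AlgSpLib.Descent2

/-!
# Locally Noetherian fibres along a base change
-/

set_option autoImplicit false
set_option backward.isDefEq.respectTransparency false
universe u

open AlgebraicGeometry CategoryTheory CategoryTheory.Limits IsLocalRing TensorProduct

namespace Groth.Agent.Triage.CMBC

/-- Ring maps obtained by base change from a field extension: finiteness and faithful flatness. -/
theorem noetherian_pushout {O C A B : Type u} [CommRing O] [CommRing C] [CommRing A] [CommRing B]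
    [Algebra O C] [Algebra O A] [Algebra A B] [Algebra C B] [Algebra O B] [IsScalarTower O A B]
    [IsScalarTower O C B] [Algebra.IsPushout O C A B] (hO : IsField O) [Nontrivial C] :
    ((algebraMap O C).EssFiniteType → IsNoetherianRing A → IsNoetherianRing B) ∧
      (IsNoetherianRing B → IsNoetherianRing A) := by
  letI := hO.toField
  haveI : Algebra.IsPushout O A C B := Algebra.IsPushout.symm ‹_›
  let e : A ⊗[O] C ≃ₐ[A] B := Algebra.IsPushout.equiv O A C B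
  constructor
  · intro hC hA
    haveI : Algebra.EssFiniteType O C := RingHom.essFiniteType_algebraMap.1 hC
    haveI : IsNoetherianRing (A ⊗[O] C) := Algebra.EssFiniteType.isNoetherianRing A _
    exact isNoetherianRing_of_ringEquiv _ e.toRingEquiv
  · intro hB
    haveI : Module.FaithfullyFlat A B := Module.FaithfullyFlat.of_linearEquiv A _ e.toLinearEquiv.symm
    exact AlgSpLib.isNoetherianRing_of_faithfullyFlat A B

/-- Locally Noetherian schemes along the base change by a field extension. -/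
theorem isLocallyNoetherian_field_pullback {k L : CommRingCat.{u}} (hk : IsField k) [Nontrivial L] (φ : k ⟶ L)
    {F F' : Scheme.{u}} {e : F' ⟶ F} {b : F' ⟶ Spec L} {a : F ⟶ Spec k} (he : IsPullback e b a (Spec.map φ)) :
    (φ.hom.EssFiniteType → IsLocallyNoetherian F → IsLocallyNoetherian F') ∧
      (IsLocallyNoetherian F' → IsLocallyNoetherian F) := by
  haveI : IsAffineHom e := MorphismProperty.of_isPullback (P := @IsAffineHom) he.flip inferInstance
  have hO : IsField Γ(Spec k, ⊤) :=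
    (Scheme.ΓSpecIso k).commRingCatIsoToRingEquiv.toMulEquiv.isField hk
  haveI : Nontrivial Γ(Spec L, ⊤) := (Scheme.ΓSpecIso L).commRingCatIsoToRingEquiv.toEquiv.nontrivial
  have key : ∀ U : F.affineOpens,
      (φ.hom.EssFiniteType → IsNoetherianRing Γ(F, U) → IsNoetherianRing Γ(F', e ⁻¹ᵁ U.1)) ∧
      (IsNoetherianRing Γ(F', e ⁻¹ᵁ U.1) → IsNoetherianRing Γ(F, U)) := by
    intro U
    have hW : e ⁻¹ᵁ U.1 = e ⁻¹ᵁ U.1 ⊓ b ⁻¹ᵁ ⊤ := by simp
    have hST : (⊤ : (Spec L).Opens) ≤ Spec.map φ ⁻¹ᵁ ⊤ := le_of_eq rfl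
    have hUX : U.1 ≤ a ⁻¹ᵁ ⊤ := fun _ _ => trivial
    have hpo := (isIso_pushoutSection_iff he hST hUX hW).mp
      (isIso_pushoutSection_of_isAffineOpen he hST hUX hW (isAffineOpen_top _) (isAffineOpen_top _) U.2)
    letI : Algebra Γ(Spec k, ⊤) Γ(F, U) := (a.appLE ⊤ U.1 hUX).hom.toAlgebra
    letI : Algebra Γ(Spec k, ⊤) Γ(Spec L, ⊤) := ((Spec.map φ).appLE ⊤ ⊤ hST).hom.toAlgebra
    letI : Algebra Γ(F, U) Γ(F', e ⁻¹ᵁ U.1) := (e.appLE U.1 (e ⁻¹ᵁ U.1) le_rfl).hom.toAlgebra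
    letI : Algebra Γ(Spec L, ⊤) Γ(F', e ⁻¹ᵁ U.1) := (b.appLE ⊤ (e ⁻¹ᵁ U.1) (fun _ _ => trivial)).hom.toAlgebra
    letI : Algebra Γ(Spec k, ⊤) Γ(F', e ⁻¹ᵁ U.1) := (a.appLE ⊤ U.1 hUX ≫ e.appLE U.1 (e ⁻¹ᵁ U.1) le_rfl).hom.toAlgebra
    haveI : IsScalarTower Γ(Spec k, ⊤) Γ(F, U) Γ(F', e ⁻¹ᵁ U.1) := .of_algebraMap_eq fun _ => rfl
    haveI : IsScalarTower Γ(Spec k, ⊤) Γ(Spec L, ⊤) Γ(F', e ⁻¹ᵁ U.1) :=
      .of_algebraMap_eq fun r => congr($(hpo.w).hom r)
    haveI : Algebra.IsPushout Γ(Spec k, ⊤) Γ(Spec L, ⊤) Γ(F, U) Γ(F', e ⁻¹ᵁ U.1) :=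
      CommRingCat.isPushout_iff_isPushout.mp hpo.flip
    obtain ⟨h1, h2⟩ := noetherian_pushout (O := Γ(Spec k, ⊤)) (C := Γ(Spec L, ⊤)) (A := Γ(F, U)) (B := Γ(F', e ⁻¹ᵁ U.1)) hO
    refine ⟨fun hφ => h1 ?_, h2⟩
    show ((Spec.map φ).appLE ⊤ ⊤ hST).hom.EssFiniteType
    rw [show (Spec.map φ).appLE ⊤ ⊤ hST = (Spec.map φ).appTop from (Spec.map φ).app_eq_appLE.symm,
      show (Spec.map φ).appTop = (Scheme.ΓSpecIso k).hom ≫ φ ≫ (Scheme.ΓSpecIso L).inv by
        rw [← Scheme.ΓSpecIso_naturality_assoc, Iso.hom_inv_id, Category.comp_id]]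
    simp only [CommRingCat.hom_comp]
    exact (RingHom.EssFiniteType.respectsIso.2 _ (Scheme.ΓSpecIso k).commRingCatIsoToRingEquiv
      (RingHom.EssFiniteType.respectsIso.1 _ (Scheme.ΓSpecIso L).symm.commRingCatIsoToRingEquiv hφ))
  constructor
  · intro hφ hF
    refine isLocallyNoetherian_of_affine_cover (S := fun U : F.affineOpens => ⟨e ⁻¹ᵁ U.1, U.2.preimage e⟩) ?_ ?_
    · refine top_le_iff.1 fun z _ => ?_
      obtain ⟨U, hU, hzU, -⟩ := exists_isAffineOpen_mem_and_subset (X := F) (x := e z) (U := ⊤) trivial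
      exact TopologicalSpace.Opens.mem_iSup.2 ⟨⟨U, hU⟩, hzU⟩
    · exact fun U => (key U).1 hφ (IsLocallyNoetherian.component_noetherian U)
  · intro hF'
    exact ⟨fun U => (key U).2 (IsLocallyNoetherian.component_noetherian ⟨e ⁻¹ᵁ U.1, U.2.preimage e⟩)⟩

end Groth.Agent.Triage.CMBC
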