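import Mathlib

open CategoryTheory CategoryTheory.Limits AlgebraicGeometry

universe u

namespace Triage.SepDescent

variable {S X Y : Scheme.{u}} (p : X ⟶ S) (q : Y ⟶ S) (π : X ⟶ Y) (hπ : π ≫ q = p)

/-- `π ×_S π` for an `S`-morphism `π`. -/
noncomputable def sq : pullback p p ⟶ pullback q q :=
  pullback.map p p q q π π (𝟙 S) (by simp [hπ]) (by simp [hπ])

lemma sq_eq : sq p q π hπ =
    pullback.map p p q q π π (𝟙 S) (by simp [hπ]) (by simp [hπ]) := rfl

lemma diagonal_sq : π ≫ pullback.diagonal q = pullback.diagonal p ≫ sq p q π hπ := by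
  subst hπ; unfold sq; ext
  · rw [Category.assoc, Category.assoc, pullback.lift_fst, pullback.diagonal_fst_assoc,
      pullback.diagonal_fst, Category.comp_id]
  · rw [Category.assoc, Category.assoc, pullback.lift_snd, pullback.diagonal_snd_assoc,
      pullback.diagonal_snd, Category.comp_id]

instance universallyClosed_sq [UniversallyClosed π] : UniversallyClosed (sq p q π hπ) := by
  subst hπ
  unfold sq
  exact MorphismProperty.pullback_map (P := @UniversallyClosed)
    (f := π ≫ q) (g := π ≫ q) (f' := q) (g' := q) ‹UniversallyClosed π› ‹UniversallyClosed π› rfl rfl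

include π hπ in
lemma isSeparated [Surjective π] [UniversallyClosed π] [IsSeparated p] : IsSeparated q := by
  constructor
  have : IsImmersion (pullback.diagonal q) := inferInstance
  refine IsClosedImmersion.iff_isPreimmersion.mpr ⟨inferInstance, ?_⟩
  have h1 : Set.range (pullback.diagonal q) =
      (sq p q π hπ) '' Set.range (pullback.diagonal p) := by
    rw [← Set.range_comp]
    conv_lhs => rw [← (Surjective.surj (f := π)).range_comp]
    congr 1
    funext x
    simp only [Function.comp_apply, ← Scheme.Hom.comp_apply, diagonal_sq p q π hπ]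
  rw [h1]
  exact (sq p q π hπ).isClosedMap _ (pullback.diagonal p).isClosedEmbedding.isClosed_range

include π hπ in
lemma quasiSeparated [Surjective π] [UniversallyClosed π] [QuasiSeparated p] :
    QuasiSeparated q := by
  constructor
  rw [quasiCompact_iff]
  intro U hU hUc
  have h : QuasiCompact (pullback.diagonal p ≫ sq p q π hπ) := inferInstance
  rw [← diagonal_sq p q π hπ] at h
  have hc : IsCompact (π ⁻¹' ((pullback.diagonal q) ⁻¹' U)) :=
    (π ≫ pullback.diagonal q).isCompact_preimage (U := ⟨U, hU⟩) hUc
  have h2 := hc.image π.continuous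
  rwa [Set.image_preimage_eq _ (Surjective.surj (f := π))] at h2

end Triage.SepDescent
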