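import Mathlib

/-! Eilenberg–Watts: right exact coproduct preserving functors of module categories are tensor products. -/

universe u

open CategoryTheory CategoryTheory.Limits TensorProduct

set_option backward.isDefEq.respectTransparency false

namespace Triage.EW

variable {A B : Type u} [CommRing A] [CommRing B] (F : ModuleCat.{u} A ⥤ ModuleCat.{u} B) [F.Additive]

/-- The value at `A`. -/
def K : Type u := F.obj (ModuleCat.of A A)

instance : AddCommGroup (K F) := inferInstanceAs (AddCommGroup (F.obj (ModuleCat.of A A)))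

instance : Module B (K F) := inferInstanceAs (Module B (F.obj (ModuleCat.of A A)))

/-- The map `A → M`, `a ↦ a m`, under `F`. -/
noncomputable def ev (M : ModuleCat.{u} A) (m : M) : K F →ₗ[B] F.obj M :=
  (F.map (ModuleCat.ofHom (LinearMap.toSpanSingleton A M m) : ModuleCat.of A A ⟶ M)).hom

theorem ev_add (M : ModuleCat.{u} A) (m m' : M) (k : K F) :
    ev F M (m + m') k = ev F M m k + ev F M m' k := by
  unfold ev
  rw [show (ModuleCat.ofHom (LinearMap.toSpanSingleton A M (m + m')) : ModuleCat.of A A ⟶ M) =
    ModuleCat.ofHom (LinearMap.toSpanSingleton A M m) + ModuleCat.ofHom (LinearMap.toSpanSingleton A M m') by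
      ext; exact one_smul A (m + m') |>.trans (congrArg₂ (· + ·) (one_smul A m).symm (one_smul A m').symm)]
  rw [F.map_add]
  rfl

/-- The action of `A` on `F A`. -/
noncomputable def act : A →+* Module.End B (K F) where
  toFun a := ev F (ModuleCat.of A A) a
  map_one' := by
    unfold ev
    rw [show (ModuleCat.ofHom (LinearMap.toSpanSingleton A A (1 : A)) : ModuleCat.of A A ⟶ ModuleCat.of A A) = 𝟙 _ by
      ext; exact one_smul A (1 : A)]
    rw [F.map_id]
    rfl
  map_mul' a b := by
    unfold ev
    rw [show (ModuleCat.ofHom (LinearMap.toSpanSingleton A A (a * b)) : ModuleCat.of A A ⟶ ModuleCat.of A A) =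
      ModuleCat.ofHom (LinearMap.toSpanSingleton A A b) ≫ ModuleCat.ofHom (LinearMap.toSpanSingleton A A a) by
        ext; simp [mul_comm]]
    rw [F.map_comp]
    rfl
  map_zero' := by
    unfold ev
    rw [show (ModuleCat.ofHom (LinearMap.toSpanSingleton A A (0 : A)) : ModuleCat.of A A ⟶ ModuleCat.of A A) = 0 by
      ext; exact smul_zero (1 : A)]
    rw [F.map_zero]
    rfl
  map_add' a b := LinearMap.ext fun k => ev_add F (ModuleCat.of A A) a b k

noncomputable instance : Module A (K F) := Module.compHom (K F) (act F)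

theorem smul_def (a : A) (k : K F) : a • k = ev F (ModuleCat.of A A) a k := rfl

instance : SMulCommClass A B (K F) := ⟨fun a b k => (act F a).map_smul b k⟩

theorem map_ev {M N : ModuleCat.{u} A} (f : M ⟶ N) (m : M) (k : K F) :
    (F.map f).hom (ev F M m k) = ev F N (f.hom m) k := by
  unfold ev
  rw [← LinearMap.comp_apply, ← ModuleCat.hom_comp, ← F.map_comp]
  congr 4
  ext
  simp

theorem ev_smul (M : ModuleCat.{u} A) (a : A) (m : M) (k : K F) : ev F M m (a • k) = ev F M (a • m) k := by
  rw [smul_def]
  exact (map_ev F (ModuleCat.ofHom (LinearMap.toSpanSingleton A M m) : ModuleCat.of A A ⟶ M) a k).trans rfl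

/-- The comparison map. -/
noncomputable def η (M : ModuleCat.{u} A) : K F ⊗[A] M →+ F.obj M :=
  TensorProduct.liftAddHom
    (AddMonoidHom.mk' (fun k => AddMonoidHom.mk' (fun m => ev F M m k) fun m m' => ev_add F M m m' k)
      fun k k' => AddMonoidHom.ext fun m => map_add (ev F M m) k k')
    fun a k m => ev_smul F M a m k

@[simp] theorem η_tmul (M : ModuleCat.{u} A) (k : K F) (m : M) : η F M (k ⊗ₜ m) = ev F M m k := rfl

theorem η_natural {M N : ModuleCat.{u} A} (f : M ⟶ N) (x : K F ⊗[A] M) :
    η F N (LinearMap.lTensor (K F) f.hom x) = (F.map f).hom (η F M x) := by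
  induction x using TensorProduct.induction_on with
  | zero => simp
  | tmul k m => simp [map_ev]
  | add x y hx hy => simp [hx, hy]

/-- The comparison map is `B`-linear. -/
noncomputable def ηLin (M : ModuleCat.{u} A) : K F ⊗[A] M →ₗ[B] F.obj M where
  toFun := η F M
  map_add' := map_add (η F M)
  map_smul' b x := by
    induction x using TensorProduct.induction_on with
    | zero => simp
    | tmul k m => simp [TensorProduct.smul_tmul']
    | add x y hx hy => simp only [RingHom.id_apply] at hx hy ⊢; simp [smul_add, hx, hy]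

theorem bijective_free [∀ J : Type u, PreservesColimitsOfShape (Discrete J) F] (ι : Type u) :
    Function.Bijective (η F (ModuleCat.of A (ι →₀ A))) := by
  classical
  let M := ModuleCat.of A (ι →₀ A)
  let hcol := isColimitOfPreserves F (ModuleCat.finsuppCoconeIsColimit A A ι)
  let tens : ModuleCat.{u} B := ModuleCat.of B (K F ⊗[A] M)
  let incK (i : ι) : K F →ₗ[B] K F ⊗[A] M :=
    { toFun := fun k : K F => k ⊗ₜ[A] (Finsupp.single i (1 : A) : M)
      map_add' := fun k k' => TensorProduct.add_tmul k k' _
      map_smul' := fun b k => (TensorProduct.smul_tmul' b k _).symm }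
  let inc (i : ι) : F.obj (ModuleCat.of A A) ⟶ tens := ModuleCat.ofHom (incK i)
  let s : Cocone (Discrete.functor (fun _ : ι => ModuleCat.of A A) ⋙ F) :=
    { pt := tens
      ι := Discrete.natTrans fun i => inc i.as }
  let ψ : F.obj M ⟶ tens := hcol.desc s
  have hev : ∀ i, (F.mapCocone (ModuleCat.finsuppCocone A A ι)).ι.app ⟨i⟩ =
      ModuleCat.ofHom (ev F M (Finsupp.single i (1 : A))) := by
    intro i
    show F.map _ = F.map _
    congr 1
    apply ModuleCat.hom_ext
    ext
    exact (one_smul A (Finsupp.single i (1 : A))).symm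
  have hψ : ∀ i (k : K F), ψ.hom (ev F M (Finsupp.single i (1 : A)) k) = k ⊗ₜ[A] (Finsupp.single i (1 : A) : M) := by
    intro i k
    have := congrArg (fun φ : F.obj (ModuleCat.of A A) ⟶ tens => φ.hom k) (hcol.fac s ⟨i⟩)
    rw [hev] at this
    exact this
  have h1 : ∀ x, ψ.hom (η F M x) = x := by
    intro x
    induction x using TensorProduct.induction_on with
    | zero => rw [map_zero]; exact map_zero ψ.hom
    | add x y hx hy => rw [map_add]; exact (map_add ψ.hom _ _).trans (congrArg₂ (· + ·) hx hy)
    | tmul k m =>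
      induction m using Finsupp.induction_linear with
      | zero => rw [TensorProduct.tmul_zero, map_zero]; exact map_zero ψ.hom
      | add m m' hm hm' =>
        rw [TensorProduct.tmul_add, map_add]; exact (map_add ψ.hom _ _).trans (congrArg₂ (· + ·) hm hm')
      | single i a =>
        have e : (Finsupp.single i a : ι →₀ A) = a • Finsupp.single i 1 := by simp
        rw [e, η_tmul, ← ev_smul, hψ, TensorProduct.smul_tmul]
  have h2 : ψ ≫ ModuleCat.ofHom (ηLin F M) = 𝟙 _ := by
    refine hcol.hom_ext fun ⟨i⟩ => ?_
    apply ModuleCat.hom_ext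
    apply LinearMap.ext
    intro k
    rw [hev]
    show η F M (ψ.hom (ev F M (Finsupp.single i (1 : A)) k)) = ev F M (Finsupp.single i (1 : A)) k
    rw [hψ]
    rfl
  exact ⟨Function.LeftInverse.injective h1,
    fun y => ⟨ψ.hom y, congrArg (fun φ : F.obj M ⟶ F.obj M => φ.hom y) h2⟩⟩

theorem bijective [PreservesFiniteColimits F] [∀ J : Type u, PreservesColimitsOfShape (Discrete J) F]
    (M : ModuleCat.{u} A) : Function.Bijective (η F M) := by
  let π : ModuleCat.of A (M →₀ A) ⟶ M := ModuleCat.ofHom (Finsupp.linearCombination A id)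
  have hπ : Function.Surjective π.hom := Finsupp.linearCombination_id_surjective A M
  let R' := LinearMap.ker π.hom
  let d : ModuleCat.of A (R' →₀ A) ⟶ ModuleCat.of A (M →₀ A) :=
    ModuleCat.ofHom (R'.subtype ∘ₗ Finsupp.linearCombination A id)
  have hex : Function.Exact d.hom π.hom := by
    rw [LinearMap.exact_iff]
    show R' = LinearMap.range (R'.subtype ∘ₗ Finsupp.linearCombination A id)
    rw [LinearMap.range_comp, LinearMap.range_eq_top.2 (Finsupp.linearCombination_id_surjective A R'),
      Submodule.map_top, Submodule.range_subtype]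
  let S : ShortComplex (ModuleCat.{u} A) := ShortComplex.mk d π (by ext1; exact hex.linearMap_comp_eq_zero)
  have : Epi π := (ModuleCat.epi_iff_surjective π).2 hπ
  have hS : S.Exact := (ShortComplex.ShortExact.moduleCat_exact_iff_function_exact S).2 hex
  have hFex : Function.Exact (F.map d).hom (F.map π).hom :=
    (ShortComplex.ShortExact.moduleCat_exact_iff_function_exact _).1
      (hS.map_of_epi_of_preservesCokernel F inferInstance inferInstance)
  have hFπ : Function.Surjective (F.map π).hom := (ModuleCat.epi_iff_surjective _).1 inferInstance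
  have hTex : Function.Exact (LinearMap.lTensor (K F) d.hom) (LinearMap.lTensor (K F) π.hom) :=
    lTensor_exact (K F) hex hπ
  have hTπ : Function.Surjective (LinearMap.lTensor (K F) π.hom) := LinearMap.lTensor_surjective _ hπ
  have b1 := bijective_free F R'
  have b0 := bijective_free F M
  constructor
  · rw [injective_iff_map_eq_zero]
    intro x hx
    obtain ⟨x, rfl⟩ := hTπ x
    rw [η_natural] at hx
    obtain ⟨y, hy⟩ := (hFex _).1 hx
    obtain ⟨z, rfl⟩ := b1.2 y
    rw [← η_natural] at hy
    rw [← b0.1 hy]
    exact hTex.apply_apply_eq_zero z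
  · intro y
    obtain ⟨y, rfl⟩ := hFπ y
    obtain ⟨z, rfl⟩ := b0.2 y
    exact ⟨LinearMap.lTensor (K F) π.hom z, η_natural F π z⟩

theorem exists_tensor_repr [PreservesFiniteColimits F] [∀ J : Type u, PreservesColimitsOfShape (Discrete J) F] :
    ∃ e : ∀ M : ModuleCat.{u} A, (K F ⊗[A] M) ≃ₗ[B] F.obj M,
      ∀ (M N : ModuleCat.{u} A) (f : M ⟶ N) (x : K F ⊗[A] M),
        e N (LinearMap.lTensor (K F) f.hom x) = F.map f (e M x) :=
  ⟨fun M => LinearEquiv.ofBijective (ηLin F M) (bijective F M), fun _ _ f x => η_natural F f x⟩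

end Triage.EW
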