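import Mathlib

/-! `Hom(M, -)` and filtered colimits of modules. -/

universe u

open CategoryTheory CategoryTheory.Limits

namespace Triage.FPColim

variable {A : Type u} [CommRing A] {J : Type u} [SmallCategory J] [IsFiltered J] (N : J ⥤ ModuleCat.{u} A)

theorem post_ι (M : ModuleCat.{u} A) (j : J) (f : M ⟶ N.obj j) :
    colimit.post N (coyoneda.obj (Opposite.op M))
      (colimit.ι (N ⋙ coyoneda.obj (Opposite.op M)) j f) = f ≫ colimit.ι N j := by
  rw [← ConcreteCategory.comp_apply, colimit.ι_post]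
  rfl

theorem eventually_zero {ι : Type*} (s : Finset ι) : ∀ (j : J) (x : ι → N.obj j),
    (∀ i ∈ s, (colimit.ι N j).hom (x i) = 0) →
    ∃ (k : J) (φ : j ⟶ k), ∀ i ∈ s, (N.map φ).hom (x i) = 0 := by
  classical
  induction s using Finset.induction with
  | empty => intro j _ _; exact ⟨j, 𝟙 j, by simp⟩
  | insert a s _ ih =>
    intro j x hx
    obtain ⟨k, φ, hφ⟩ := ih j x fun i hi => hx i (Finset.mem_insert_of_mem hi)
    have h0 : (colimit.ι N k).hom ((N.map φ).hom (x a)) = (colimit.ι N k).hom 0 := by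
      rw [map_zero, ← hx a (Finset.mem_insert_self a s), ← colimit.w N φ]
      rfl
    obtain ⟨l, u, v, huv⟩ := Concrete.colimit_exists_of_rep_eq N _ _ h0
    refine ⟨l, φ ≫ u, fun i hi => ?_⟩
    rcases Finset.mem_insert.1 hi with rfl | hi
    · rw [N.map_comp, ModuleCat.hom_comp, LinearMap.comp_apply]
      exact huv.trans (map_zero (N.map v).hom)
    · rw [N.map_comp, ModuleCat.hom_comp, LinearMap.comp_apply, hφ i hi, map_zero]

theorem injective (M : ModuleCat.{u} A) [Module.Finite A M] :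
    Function.Injective (colimit.post N (coyoneda.obj (Opposite.op M))) := by
  intro z₁ z₂ h
  obtain ⟨i, f, rfl⟩ := Types.jointly_surjective' z₁
  obtain ⟨i', f', rfl⟩ := Types.jointly_surjective' z₂
  rw [post_ι, post_ι] at h
  obtain ⟨s, hs⟩ := Module.Finite.fg_top (R := A) (M := M)
  let k := IsFiltered.max i i'
  let g : M ⟶ N.obj k := f ≫ N.map (IsFiltered.leftToMax i i')
  let g' : M ⟶ N.obj k := f' ≫ N.map (IsFiltered.rightToMax i i')
  have hgg : g ≫ colimit.ι N k = g' ≫ colimit.ι N k := by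
    simp only [g, g', Category.assoc, colimit.w]
    exact h
  obtain ⟨l, φ, hφ⟩ := eventually_zero N s k (fun m => g.hom m - g'.hom m) fun m _ => by
    rw [map_sub, sub_eq_zero]
    exact congrArg (fun ψ : M ⟶ colimit N => ψ.hom m) hgg
  apply (Types.FilteredColimit.colimit_eq_iff (F := N ⋙ coyoneda.obj (Opposite.op M))).mpr
  refine ⟨l, IsFiltered.leftToMax i i' ≫ φ, IsFiltered.rightToMax i i' ≫ φ, ?_⟩
  show f ≫ N.map (IsFiltered.leftToMax i i' ≫ φ) = f' ≫ N.map (IsFiltered.rightToMax i i' ≫ φ)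
  rw [N.map_comp, N.map_comp]
  apply ModuleCat.hom_ext
  refine LinearMap.ext_on hs fun m hm => ?_
  have := hφ m hm
  rw [map_sub, sub_eq_zero] at this
  exact this

theorem exists_stage {ι : Type*} (s : Finset ι) (y : ι → ↑(colimit N : ModuleCat.{u} A)) :
    ∃ (j : J) (x : ι → N.obj j), ∀ i ∈ s, (colimit.ι N j).hom (x i) = y i := by
  classical
  induction s using Finset.induction with
  | empty => exact ⟨IsFiltered.nonempty.some, fun _ => 0, by simp⟩
  | insert a s ha ih =>
    obtain ⟨j, x, hx⟩ := ih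
    obtain ⟨j', x', hx'⟩ := Concrete.colimit_exists_rep N (y a)
    refine ⟨IsFiltered.max j j', Function.update (fun i => (N.map (IsFiltered.leftToMax j j')).hom (x i)) a
      ((N.map (IsFiltered.rightToMax j j')).hom x'), fun i hi => ?_⟩
    rcases Finset.mem_insert.1 hi with rfl | hi'
    · rw [Function.update_self, ← hx']
      exact congrArg (fun ψ => ψ.hom x') (colimit.w N (IsFiltered.rightToMax j j'))
    · rw [Function.update_of_ne (show i ≠ _ from fun e => by subst e; exact ha hi'), ← hx i hi']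
      exact congrArg (fun ψ => ψ.hom (x i)) (colimit.w N (IsFiltered.leftToMax j j'))

theorem bijective (M : ModuleCat.{u} A) [Module.FinitePresentation A M] :
    Function.Bijective (colimit.post N (coyoneda.obj (Opposite.op M))) := by
  refine ⟨injective N M, fun g => ?_⟩
  obtain ⟨n, π, hπ⟩ := Module.Finite.exists_fin' A M
  obtain ⟨t, ht⟩ := Module.FinitePresentation.fg_ker π hπ
  obtain ⟨j, x, hx⟩ := exists_stage N (Finset.univ : Finset (Fin n))
    fun i => g.hom (π (Pi.basisFun A (Fin n) i))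
  let ψ : (Fin n → A) →ₗ[A] N.obj j := (Pi.basisFun A (Fin n)).constr A x
  have hψ : (colimit.ι N j).hom ∘ₗ ψ = g.hom ∘ₗ π :=
    (Pi.basisFun A (Fin n)).ext fun i => by
      rw [LinearMap.comp_apply, Module.Basis.constr_basis]
      exact hx i (Finset.mem_univ i)
  obtain ⟨k, φ, hφ⟩ := eventually_zero N t j (fun a => ψ a) fun a ha => by
    have h1 : π a = 0 := LinearMap.mem_ker.1 (ht ▸ Submodule.subset_span ha)
    rw [show (colimit.ι N j).hom (ψ a) = g.hom (π a) from LinearMap.congr_fun hψ a, h1]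
    exact map_zero g.hom
  have hle : LinearMap.ker π ≤ LinearMap.ker ((N.map φ).hom ∘ₗ ψ) := by
    rw [← ht, Submodule.span_le]
    exact fun a ha => hφ a ha
  let f : M ⟶ N.obj k := ModuleCat.ofHom ((LinearMap.ker π).liftQ _ hle ∘ₗ
    (π.quotKerEquivOfSurjective hπ).symm.toLinearMap)
  refine ⟨colimit.ι (N ⋙ coyoneda.obj (Opposite.op M)) k f, ?_⟩
  rw [post_ι]
  apply ModuleCat.hom_ext
  apply LinearMap.ext
  intro m
  obtain ⟨v, rfl⟩ := hπ m
  have h2 : f.hom (π v) = (N.map φ).hom (ψ v) := by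
    have : (π.quotKerEquivOfSurjective hπ).symm (π v) = Submodule.Quotient.mk v :=
      (LinearEquiv.symm_apply_eq _).2 rfl
    simp [f, this]
  show (colimit.ι N k).hom (f.hom (π v)) = g.hom (π v)
  rw [h2, ← show (colimit.ι N j).hom (ψ v) = g.hom (π v) from LinearMap.congr_fun hψ v, ← colimit.w N φ]
  rfl

end Triage.FPColim
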