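import Mathlib
import Groth.Agent.AlgSpPts.Field

/-! Monomorphisms into disjoint unions of spectra of fields. -/

set_option autoImplicit false

universe u

open CategoryTheory CategoryTheory.Limits AlgebraicGeometry

namespace Groth.Agent.Triage.MonoFields

variable {ι : Type u} (k : ι → Type u) [∀ i, Field (k i)] {Y : Scheme.{u}}
  (j : ∀ i, Spec (CommRingCat.of (k i)) ⟶ Y) [∀ i, IsOpenImmersion (j i)]

theorem isOpenImmersion_of_mono (hj : ∀ y : Y, ∃ i, y ∈ Set.range (j i))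
    {X : Scheme.{u}} (f : X ⟶ Y) [Mono f] : IsOpenImmersion f := by
  refine (IsZariskiLocalAtTarget.iff_of_iSup_eq_top (P := @IsOpenImmersion)
    (fun i => (j i).opensRange) (by
      refine top_le_iff.mp fun y _ => ?_
      obtain ⟨i, hi⟩ := hj y
      exact TopologicalSpace.Opens.mem_iSup.2 ⟨i, hi⟩)).2 fun i => ?_
  haveI : Mono (f ∣_ (j i).opensRange) :=
    (MorphismProperty.monomorphisms Scheme.{u}).of_isPullback
      (isPullback_morphismRestrict f (j i).opensRange).flip ‹Mono f›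
  rw [← MorphismProperty.cancel_right_of_respectsIso @IsOpenImmersion (f ∣_ (j i).opensRange)
    (j i).isoOpensRange.inv]
  rcases isEmpty_or_nonempty ↥((f ⁻¹ᵁ (j i).opensRange : X.Opens) : Scheme.{u}) with h | h
  · exact isOpenImmersion_of_isEmpty _
  · haveI := AlgSpPts.isIso_of_mono_to_field (f ∣_ (j i).opensRange ≫ (j i).isoOpensRange.inv)
    infer_instance

omit [∀ i, IsOpenImmersion (j i)] in
theorem exists_range_eq (hj : ∀ y : Y, ∃ i, y ∈ Set.range (j i)) (T : Set Y) :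
    ∃ I : Set ι, ∀ y, y ∈ T ↔ ∃ i ∈ I, y ∈ Set.range (j i) := by
  refine ⟨{i | Set.range (j i) ⊆ T}, fun y => ⟨fun hy => ?_, fun ⟨i, hi, hy⟩ => hi hy⟩⟩
  obtain ⟨i, p, rfl⟩ := hj y
  refine ⟨i, ?_, p, rfl⟩
  rintro _ ⟨q, rfl⟩
  haveI : Subsingleton ↥(Spec (CommRingCat.of (k i))) :=
    inferInstanceAs (Subsingleton (PrimeSpectrum (k i)))
  rwa [Subsingleton.elim q p]

end Groth.Agent.Triage.MonoFields
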