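import Groth.Agent.Triage.LRSClosed
import Mathlib.AlgebraicGeometry.Morphisms.ClosedImmersion

/-!
# Closed immersions of locally ringed spaces into schemes
-/

universe u

open CategoryTheory TopologicalSpace Opposite AlgebraicGeometry

set_option backward.isDefEq.respectTransparency false
set_option backward.isDefEq.respectTransparency.types false

namespace Groth.Agent.Triage.LRSClosed

variable {X : Scheme.{u}} {Z : LocallyRingedSpace.{u}} (i : Z ⟶ X.toLocallyRingedSpace)

/-- The ideal of sections killed by `i`. -/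
noncomputable def killed (U : X.Opens) : Ideal Γ(X, U) := RingHom.ker (pull i U)

/-- Killed on a basic open means killed after multiplying by a power. -/
def HasPow : Prop :=
  ∀ (U : X.Opens), IsAffineOpen U → ∀ a r : Γ(X, U),
    pull i (X.basicOpen a) (X.presheaf.map (homOfLE (X.basicOpen_le a)).op r) = 0 →
      ∃ N, a ^ N * r ∈ killed i U

/-- The restriction map. -/
noncomputable abbrev rs {U V : X.Opens} (h : V ≤ U) : Γ(X, U) →+* Γ(X, V) :=
  (X.presheaf.map (homOfLE h).op).hom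

lemma exists_pow_of_germ {U : X.Opens} (hU : IsAffineOpen U) {J : Ideal Γ(X, U)} {a b r : Γ(X, U)}
    (h : ∀ (x : X) (hx : x ∈ U), x ∈ X.basicOpen a → x ∈ X.basicOpen b →
      X.presheaf.germ U x hx r ∈ J.map (X.presheaf.germ U x hx).hom) :
    ∃ N, (a * b) ^ N * r ∈ J := by
  suffices a * b ∈ (J.colon (Set.singleton r : Set Γ(X, U))).radical by
    obtain ⟨N, hN⟩ := this
    exact ⟨N, Submodule.mem_colon_singleton.1 hN⟩
  rw [Ideal.radical_eq_sInf, Submodule.mem_sInf]
  rintro (p : Ideal Γ(X, U)) ⟨hp, hpp⟩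
  by_contra hab
  let x := hU.fromSpec ⟨p, hpp⟩
  have hxU : x ∈ U := hU.range_fromSpec.le ⟨_, rfl⟩
  have hD : ∀ c : Γ(X, U), c ∉ p → x ∈ X.basicOpen c := fun c hc => by
    show (⟨p, hpp⟩ : Spec Γ(X, U)) ∈ hU.fromSpec ⁻¹ᵁ X.basicOpen c
    rw [hU.fromSpec_preimage_basicOpen]
    exact hc
  have hmem := h x hxU (hD a fun ha => hab (p.mul_mem_right _ ha)) (hD b fun hb => hab (p.mul_mem_left _ hb))
  letI := X.presheaf.algebra_section_stalk (⟨x, hxU⟩ : U)
  haveI : IsLocalization.AtPrime (X.presheaf.stalk x) p := hU.isLocalization_stalk' ⟨p, hpp⟩ hxU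
  obtain ⟨⟨z, s⟩, hzs⟩ := (IsLocalization.mem_map_algebraMap_iff p.primeCompl (X.presheaf.stalk x)).1 hmem
  change algebraMap Γ(X, U) (X.presheaf.stalk x) r * _ = _ at hzs
  rw [← map_mul] at hzs
  obtain ⟨c, hc⟩ := (IsLocalization.eq_iff_exists p.primeCompl (X.presheaf.stalk x)).1 hzs
  have : (s : Γ(X, U)) * c ∈ J.colon (Set.singleton r : Set Γ(X, U)) := by
    refine Submodule.mem_colon_singleton.2 ?_
    rw [smul_eq_mul, show (s : Γ(X, U)) * c * r = c * (r * s) by ring, hc]
    exact J.mul_mem_left _ z.2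
  exact (p.primeCompl.mul_mem s.2 c.2) (hp this)

theorem hasPow_of_keyLocal (hk : LRSImm.KerLocallyGenerated i) : HasPow i := by
  intro U hU a r hr
  have hloc : ∀ x : U, ∃ b : Γ(X, U), x.1 ∈ X.basicOpen b ∧
      ∃ N, pull i (X.basicOpen b) (rs (X.basicOpen_le b) (a ^ N * r)) = 0 := by
    rintro ⟨x, hx⟩
    obtain ⟨U₁, hxU₁, ι, s, hs0, hspan⟩ := hk x
    obtain ⟨b, hbU, hxb⟩ := hU.exists_basicOpen_le (V := U₁) ⟨x, hxU₁⟩ hx
    refine ⟨b, hxb, ?_⟩
    let ρ := rs (X.basicOpen_le b)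
    letI : Algebra Γ(X, U) Γ(X, X.basicOpen b) := ρ.toAlgebra
    haveI : IsLocalization.Away b Γ(X, X.basicOpen b) := hU.isLocalization_basicOpen b
    choose n q hq using fun j => IsLocalization.Away.surj b (rs hbU (s j) : Γ(X, X.basicOpen b))
    let J := Ideal.span (Set.range q)
    have hbu : IsUnit (ρ b) := IsLocalization.Away.algebraMap_isUnit b
    have hJ0 : ∀ t ∈ J, pull i (X.basicOpen b) (ρ t) = 0 := by
      intro t ht
      induction ht using Submodule.span_induction with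
      | mem t ht =>
        obtain ⟨j, rfl⟩ := ht
        show pull i _ (algebraMap Γ(X, U) Γ(X, X.basicOpen b) (q j)) = 0
        rw [← hq j, map_mul]
        rw [show pull i (X.basicOpen b) (rs hbU (s j)) = 0 from pull_res_eq_zero i hbU (s j) (hs0 j)]
        exact zero_mul _
      | zero => simp
      | add u v _ _ hu hv => rw [map_add, map_add, hu, hv, add_zero]
      | smul c u _ hu => rw [smul_eq_mul, map_mul, map_mul, hu, mul_zero]
    obtain ⟨N, hN⟩ := exists_pow_of_germ hU (J := J) (a := a) (b := b) (r := r) (by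
      intro y hyU hya hyb
      have h1 : X.presheaf.germ U y hyU r ∈ kerStalk i y :=
        (mem_kerStalk_iff i hyU r).2 ⟨X.basicOpen a, hya, X.basicOpen_le a, hr⟩
      rw [kerStalk, ← hspan y (hbU hyb)] at h1
      refine (Ideal.span_le.2 ?_) h1
      rintro _ ⟨j, rfl⟩
      let g := X.presheaf.germ (X.basicOpen b) y hyb
      have hu : IsUnit (g (ρ b)) := hbu.map g.hom
      have e : g (rs hbU (s j)) * g (ρ b) ^ n j = g (ρ (q j)) := by
        rw [← map_pow, ← map_mul]; exact congrArg g (hq j)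
      have e' : g (ρ (q j)) ∈ J.map (X.presheaf.germ U y hyU).hom := by
        rw [show g (ρ (q j)) = X.presheaf.germ U y hyU (q j) from X.presheaf.germ_res_apply _ y hyb _]
        exact Ideal.mem_map_of_mem _ (Ideal.subset_span ⟨j, rfl⟩)
      rw [← e] at e'
      dsimp only
      rw [SetLike.mem_coe, show X.presheaf.germ U₁ y (hbU hyb) (s j) = g (rs hbU (s j)) from
        (X.presheaf.germ_res_apply (homOfLE hbU) y hyb (s j)).symm]
      exact (Ideal.mul_unit_mem_iff_mem _ (hu.pow _)).1 e')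
    refine ⟨N, ?_⟩
    have h2 := hJ0 _ hN
    rw [mul_pow, mul_comm (a ^ N), mul_assoc, map_mul ρ, map_mul] at h2
    exact ((hbu.map (pull i (X.basicOpen b))).pow N).mul_right_eq_zero.1 (by rwa [map_pow, map_pow] at h2)
  choose b hxb N hN using hloc
  obtain ⟨t, ht⟩ := hU.isCompact.elim_finite_subcover (fun x : U => (X.basicOpen (b x) : Set X))
    (fun x => (X.basicOpen (b x)).isOpen) fun x hx => Set.mem_iUnion.2 ⟨⟨x, hx⟩, hxb _⟩
  refine ⟨t.sup N, pull_eq_zero_of_forall i _ fun x hx => ?_⟩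
  obtain ⟨p, hp, hxp⟩ := Set.mem_iUnion₂.1 (ht hx)
  refine (mem_kerStalk_iff i hx _).2 ⟨X.basicOpen (b p), hxp, X.basicOpen_le _, ?_⟩
  obtain ⟨d, hd⟩ := Nat.exists_eq_add_of_le (Finset.le_sup hp (f := N))
  show pull i _ (rs (X.basicOpen_le (b p)) (a ^ t.sup N * r)) = 0
  rw [hd, pow_add, mul_assoc, mul_comm (a ^ N p), mul_assoc, map_mul, map_mul, mul_comm r, hN, mul_zero]

variable (hp : HasPow i)

include hp

theorem kerStalk_eq {U : X.Opens} (hU : IsAffineOpen U) (x : X) (hx : x ∈ U) :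
    kerStalk i x = (killed i U).map (X.presheaf.germ U x hx).hom := by
  apply le_antisymm
  · intro t ht
    letI := X.presheaf.algebra_section_stalk (⟨x, hx⟩ : U)
    haveI := hU.isLocalization_stalk (⟨x, hx⟩ : U)
    obtain ⟨⟨r, v⟩, hrv⟩ := IsLocalization.surj (hU.primeIdealOf ⟨x, hx⟩).asIdeal.primeCompl t
    have h1 : X.presheaf.germ U x hx r ∈ kerStalk i x := by
      show algebraMap Γ(X, U) (X.presheaf.stalk x) r ∈ kerStalk i x
      rw [← hrv]; exact (kerStalk i x).mul_mem_right _ ht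
    obtain ⟨W, hxW, hWU, hW⟩ := (mem_kerStalk_iff i hx r).1 h1
    obtain ⟨a, haW, hxa⟩ := hU.exists_basicOpen_le (V := W) ⟨x, hxW⟩ hx
    obtain ⟨N, hN⟩ := hp U hU a r (by
      have := pull_res_eq_zero i haW _ hW
      rwa [← CommRingCat.comp_apply, ← Functor.map_comp] at this)
    have hu : IsUnit (X.presheaf.germ U x hx a) := (RingedSpace.mem_basicOpen X.toRingedSpace a x hx).1 hxa
    have h2 := Ideal.mem_map_of_mem (X.presheaf.germ U x hx).hom hN
    rw [map_mul, map_pow] at h2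
    have h3 := (Ideal.unit_mul_mem_iff_mem _ (hu.pow N)).1 h2
    change algebraMap Γ(X, U) (X.presheaf.stalk x) r ∈ _ at h3
    rw [← hrv] at h3
    exact (Ideal.mul_unit_mem_iff_mem _ (IsLocalization.map_units _ v)).1 h3
  · rw [Ideal.map_le_iff_le_comap]
    intro r hr
    exact (mem_kerStalk_iff i hx r).2 ⟨U, hx, le_rfl, pull_res_eq_zero i le_rfl r hr⟩

theorem map_killed_basicOpen {U : X.Opens} (hU : IsAffineOpen U) (a : Γ(X, U)) :
    (killed i U).map (rs (X.basicOpen_le a)) = killed i (X.basicOpen a) := by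
  apply le_antisymm
  · rw [Ideal.map_le_iff_le_comap]
    exact fun r hr => pull_res_eq_zero i _ r hr
  · intro s hs
    letI : Algebra Γ(X, U) Γ(X, X.basicOpen a) := (rs (X.basicOpen_le a)).toAlgebra
    haveI : IsLocalization.Away a Γ(X, X.basicOpen a) := hU.isLocalization_basicOpen a
    obtain ⟨n, r, hnr⟩ := IsLocalization.Away.surj a s
    obtain ⟨N, hN⟩ := hp U hU a r (by
      show pull i _ (algebraMap Γ(X, U) Γ(X, X.basicOpen a) r) = 0
      rw [← hnr, map_mul, show pull i _ s = 0 from hs, zero_mul])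
    have h2 := Ideal.mem_map_of_mem (rs (X.basicOpen_le a)) hN
    rw [map_mul, map_pow] at h2
    have hu : IsUnit (rs (X.basicOpen_le a) a) := IsLocalization.Away.algebraMap_isUnit a
    have h3 := (Ideal.unit_mul_mem_iff_mem _ (hu.pow N)).1 h2
    rw [show rs (X.basicOpen_le a) r = _ from hnr.symm] at h3
    exact (Ideal.mul_unit_mem_iff_mem _ (hu.pow n)).1 h3

omit hp

theorem hasPow_of_scheme {X' : Scheme.{u}} (f : X' ⟶ X) [IsClosedImmersion f] : HasPow f.toLRSHom := by
  intro U hU a r hr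
  have hV : IsAffineOpen (f ⁻¹ᵁ U) := hU.preimage f
  letI : Algebra Γ(X', f ⁻¹ᵁ U) Γ(X', X'.basicOpen (f.app U a)) :=
    (X'.presheaf.map (homOfLE (X'.basicOpen_le _)).op).hom.toAlgebra
  haveI : IsLocalization.Away (f.app U a) Γ(X', X'.basicOpen (f.app U a)) := hV.isLocalization_basicOpen _
  rw [pull_res] at hr
  have gen : ∀ {W : X'.Opens} (h : W ≤ f ⁻¹ᵁ U) (_ : W = X'.basicOpen (f.app U a)),
      X'.presheaf.map (homOfLE h).op (f.app U r) = 0 →
      algebraMap Γ(X', f ⁻¹ᵁ U) Γ(X', X'.basicOpen (f.app U a)) (f.app U r) = 0 := by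
    rintro W h rfl e; exact e
  have h0 := gen (f.preimage_mono (X.basicOpen_le a)) (f.preimage_basicOpen a) hr
  rw [← map_zero (algebraMap Γ(X', f ⁻¹ᵁ U) Γ(X', X'.basicOpen (f.app U a)))] at h0
  obtain ⟨⟨_, N, rfl⟩, hN⟩ := (IsLocalization.eq_iff_exists (Submonoid.powers (f.app U a)) _).1 h0
  refine ⟨N, ?_⟩
  show f.app U (a ^ N * r) = 0
  rw [map_mul, map_pow]
  simpa using hN

lemma surjectiveOnStalks_of_isLocallySurjective {X' : Scheme.{u}} (f : X' ⟶ X)
    (he : Topology.IsInducing f.base) (h : TopCat.Presheaf.IsLocallySurjective f.c) : SurjectiveOnStalks f := by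
  refine ⟨fun x a => ?_⟩
  obtain ⟨U, hx, s, rfl⟩ := exists_rep f.toLRSHom h he x a
  exact ⟨X.presheaf.germ U (f x) hx s, Scheme.Hom.germ_stalkMap_apply f U x hx s⟩

theorem lrsClosedImmersion_of_scheme {X' : Scheme.{u}} (f : X' ⟶ X) [IsClosedImmersion f]
    (h : TopCat.Presheaf.IsLocallySurjective f.c) : LRSImm.IsClosedImmersion f.toLRSHom := by
  refine ⟨f.isClosedEmbedding, h, fun x => ?_⟩
  obtain ⟨U, hU, hxU, -⟩ := exists_isAffineOpen_mem_and_subset (x := x) (U := ⊤) trivial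
  refine ⟨U, hxU, killed f.toLRSHom U, Subtype.val, fun j => j.2, fun y hy => ?_⟩
  refine Eq.trans ?_ (kerStalk_eq f.toLRSHom (hasPow_of_scheme f) hU y hy).symm
  rw [Ideal.map]
  congr 1
  ext t
  simp

end Groth.Agent.Triage.LRSClosed
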