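import Groth.Prelude.Def_W4stkremschemesLRS

/-!
# Closed immersions of locally ringed spaces: the universal property
-/

universe u

open CategoryTheory TopologicalSpace Opposite AlgebraicGeometry

set_option backward.isDefEq.respectTransparency false
set_option backward.isDefEq.respectTransparency.types false

namespace Groth.Agent.Triage.LRSClosed

variable {Z X Y : LocallyRingedSpace.{u}}

/-- Preimage of an open. -/
abbrev pre (i : Z ⟶ X) (U : Opens X.toTopCat) : Opens Z.toTopCat := (Opens.map i.base).obj U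

/-- The pullback of sections. -/
noncomputable def pull (i : Z ⟶ X) (U : Opens X.toTopCat) :
    X.presheaf.obj (op U) →+* Z.presheaf.obj (op (pre i U)) := (i.c.app (op U)).hom

/-- Germ in `Z`. -/
noncomputable abbrev gm (Z : LocallyRingedSpace.{u}) {U : Opens Z.toTopCat} (z : Z.toTopCat) (hz : z ∈ U)
    (s : Z.presheaf.obj (op U)) : Z.presheaf.stalk z := Z.presheaf.germ U z hz s

lemma pull_res (i : Z ⟶ X) {U V : Opens X.toTopCat} (h : V ≤ U) (s : X.presheaf.obj (op U)) :
    pull i V (X.presheaf.map (homOfLE h).op s) =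
      Z.presheaf.map ((Opens.map i.base).map (homOfLE h)).op (pull i U s) :=
  NatTrans.naturality_apply i.c (homOfLE h).op s

lemma pull_res_eq_zero (i : Z ⟶ X) {U V : Opens X.toTopCat} (h : V ≤ U) (s : X.presheaf.obj (op U))
    (hs : pull i U s = 0) : pull i V (X.presheaf.map (homOfLE h).op s) = 0 := by
  rw [pull_res, hs, map_zero]

lemma gm_pull_res (i : Z ⟶ X) {U V : Opens X.toTopCat} (h : V ≤ U) (s : X.presheaf.obj (op U))
    (z : Z.toTopCat) (hz : i.base z ∈ V) :
    gm Z (U := pre i V) z hz (pull i V (X.presheaf.map (homOfLE h).op s)) =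
      gm Z (U := pre i U) z (h hz) (pull i U s) := by
  rw [pull_res]
  exact Z.presheaf.germ_res_apply _ z hz _

/-- The ideal of germs killed by `i`. -/
noncomputable abbrev kerStalk (i : Z ⟶ X) (x : X.toTopCat) : Ideal (X.presheaf.stalk x) :=
  RingHom.ker ((TopCat.Presheaf.stalkFunctor CommRingCat x).map i.c).hom

lemma mem_kerStalk_iff (i : Z ⟶ X) {U : Opens X.toTopCat} {x : X.toTopCat} (hx : x ∈ U)
    (s : X.presheaf.obj (op U)) :
    X.presheaf.germ U x hx s ∈ kerStalk i x ↔
      ∃ (W : Opens X.toTopCat) (_ : x ∈ W) (h : W ≤ U), pull i W (X.presheaf.map (homOfLE h).op s) = 0 := by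
  have e : ((TopCat.Presheaf.stalkFunctor CommRingCat x).map i.c) (X.presheaf.germ U x hx s) =
      (i.base _* Z.presheaf).germ U x hx (pull i U s) :=
    TopCat.Presheaf.stalkFunctor_map_germ_apply U x hx i.c s
  rw [RingHom.mem_ker]
  change ((TopCat.Presheaf.stalkFunctor CommRingCat x).map i.c) (X.presheaf.germ U x hx s) = 0 ↔ _
  rw [e]
  constructor
  · intro h
    obtain ⟨W, hxW, iU, iV, hW⟩ := (i.base _* Z.presheaf).germ_eq x hx hx (pull i U s) 0
      (h.trans (map_zero ((i.base _* Z.presheaf).germ U x hx).hom).symm)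
    refine ⟨W, hxW, iU.le, ?_⟩
    rw [pull_res]
    exact hW.trans (map_zero ((i.base _* Z.presheaf).map iV.op).hom)
  · rintro ⟨W, hxW, h, hW⟩
    rw [pull_res] at hW
    refine ((i.base _* Z.presheaf).germ_res_apply (homOfLE h) x hxW (pull i U s)).symm.trans ?_
    exact (congrArg ((i.base _* Z.presheaf).germ W x hxW) hW).trans
      (map_zero ((i.base _* Z.presheaf).germ W x hxW).hom)

lemma pull_eq_zero_of_forall (i : Z ⟶ X) {U : Opens X.toTopCat} (s : X.presheaf.obj (op U))
    (h : ∀ (x : X.toTopCat) (hx : x ∈ U), X.presheaf.germ U x hx s ∈ kerStalk i x) : pull i U s = 0 := by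
  refine TopCat.Presheaf.section_ext Z.toSheafedSpace.sheaf (pre i U) _ 0 fun z hz => ?_
  obtain ⟨W, hW, hWU, h0⟩ := (mem_kerStalk_iff i hz s).1 (h _ hz)
  change gm Z z hz (pull i U s) = Z.presheaf.germ (pre i U) z hz 0
  rw [← gm_pull_res i hWU s z hW, h0, map_zero]
  exact map_zero _

/-- The condition of the universal property, from germs. -/
lemma forall_killed_of_kerStalk_le (i : Z ⟶ X) (f : Y ⟶ X) (h : ∀ x, kerStalk i x ≤ kerStalk f x)
    (U : Opens X.toTopCat) (s : X.presheaf.obj (op U)) (hs : i.c.app (op U) s = 0) :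
    f.c.app (op U) s = 0 :=
  pull_eq_zero_of_forall f s fun x hx => h x ((mem_kerStalk_iff i hx s).2
    ⟨U, hx, le_rfl, pull_res_eq_zero i le_rfl s hs⟩)

lemma exists_rep (i : Z ⟶ X) (hs : TopCat.Presheaf.IsLocallySurjective i.c)
    (he : Topology.IsInducing i.base) (z : Z.toTopCat) (a : Z.presheaf.stalk z) :
    ∃ (U : Opens X.toTopCat) (hz : i.base z ∈ U) (s : X.presheaf.obj (op U)),
      gm Z (U := pre i U) z hz (pull i U s) = a := by
  obtain ⟨V, hV, t, rfl⟩ := Z.presheaf.exists_germ_eq (x := z) a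
  obtain ⟨U, hU, hUV⟩ := he.isOpen_iff.1 V.isOpen
  have hle : pre i ⟨U, hU⟩ ≤ V := fun w hw => hUV.le hw
  have hzU : i.base z ∈ U := hUV.ge hV
  obtain ⟨W, hWU, ⟨s, hs⟩, hzW⟩ := (TopCat.Presheaf.isLocallySurjective_iff _).1 hs ⟨U, hU⟩
    (show (i.base _* Z.presheaf).obj (op ⟨U, hU⟩) from Z.presheaf.map (homOfLE hle).op t) (i.base z) hzU
  refine ⟨W, hzW, s, ?_⟩
  change gm Z (U := pre i W) z hzW (i.c.app (op W) s) = _
  rw [hs]
  exact (Z.presheaf.germ_res_apply _ z hzW _).trans (Z.presheaf.germ_res_apply _ z _ t)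

section factor

variable (i : Z ⟶ X) (hi : LRSImm.IsClosedImmersion i) (f : Y ⟶ X)

include hi

lemma germ_eq_of_germ_eq
    (hf : ∀ (U : Opens X.toTopCat) (s : X.presheaf.obj (op U)), pull i U s = 0 → pull f U s = 0)
    {y : Y.toTopCat} {z : Z.toTopCat} (hzy : i.base z = f.base y)
    {U U' : Opens X.toTopCat} (hz : i.base z ∈ U) (hz' : i.base z ∈ U') (hy : f.base y ∈ U) (hy' : f.base y ∈ U')
    (s : X.presheaf.obj (op U)) (s' : X.presheaf.obj (op U'))
    (h : gm Z (U := pre i U) z hz (pull i U s) = gm Z (U := pre i U') z hz' (pull i U' s')) :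
    gm Y (U := pre f U) y hy (pull f U s) = gm Y (U := pre f U') y hy' (pull f U' s') := by
  obtain ⟨V, hzV, iU, iU', hV⟩ := Z.presheaf.germ_eq z hz hz' _ _ h
  obtain ⟨U₀, hU₀, hUV⟩ := hi.1.isInducing.isOpen_iff.1 V.isOpen
  let W : Opens X.toTopCat := ⟨U₀, hU₀⟩ ⊓ (U ⊓ U')
  have hWV : pre i W ≤ V := fun w hw => hUV.le hw.1
  have hzW : i.base z ∈ W := ⟨hUV.ge hzV, hz, hz'⟩
  let d : X.presheaf.obj (op W) := X.presheaf.map (homOfLE (inf_le_right.trans inf_le_left : W ≤ U)).op s -
    X.presheaf.map (homOfLE (inf_le_right.trans inf_le_right : W ≤ U')).op s'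
  have h0 : pull i W d = 0 := by
    rw [map_sub, pull_res, pull_res, sub_eq_zero]
    have := congrArg (Z.presheaf.map (homOfLE hWV).op) hV
    rw [← CommRingCat.comp_apply, ← CommRingCat.comp_apply, ← Functor.map_comp, ← Functor.map_comp] at this
    exact this
  have h1 := congrArg (gm Y (U := pre f W) y (show f.base y ∈ W by rw [← hzy]; exact hzW)) (hf W d h0)
  simp only [d, map_sub, map_zero, gm, sub_eq_zero] at h1
  rw [← gm_pull_res f (inf_le_right.trans inf_le_left : W ≤ U) s y,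
    ← gm_pull_res f (inf_le_right.trans inf_le_right : W ≤ U') s' y]
  exact h1

lemma germ_hom (g : Y ⟶ Z) (hg : g ≫ i = f) (V : Opens Z.toTopCat) (a : Z.presheaf.obj (op V))
    (y : Y.toTopCat) (hy : g.base y ∈ V) (U : Opens X.toTopCat) (hU : i.base (g.base y) ∈ U)
    (hyU : f.base y ∈ U) (s : X.presheaf.obj (op U))
    (h : gm Z (U := pre i U) (g.base y) hU (pull i U s) = gm Z (g.base y) hy a) :
    gm Y (U := pre g V) y hy (pull g V a) = gm Y (U := pre f U) y hyU (pull f U s) := by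
  subst hg
  have h2 := congrArg (g.stalkMap y) h
  erw [LocallyRingedSpace.stalkMap_germ_apply, LocallyRingedSpace.stalkMap_germ_apply] at h2
  exact h2.symm

theorem hom_unique (g g' : Y ⟶ Z) (hg : g ≫ i = f) (hg' : g' ≫ i = f) : g = g' := by
  have hb : g.base = g'.base := by
    ext y
    refine hi.1.injective ?_
    exact (ConcreteCategory.congr_hom (congrArg (fun φ : Y ⟶ X => φ.base) hg) y).trans
      (ConcreteCategory.congr_hom (congrArg (fun φ : Y ⟶ X => φ.base) hg') y).symm
  have key : ∀ (V : Opens Z.toTopCat) (a : Z.presheaf.obj (op V)) (y : Y.toTopCat) (hy : g.base y ∈ V)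
      (hy' : g'.base y ∈ V), gm Y (U := pre g V) y hy (pull g V a) = gm Y (U := pre g' V) y hy' (pull g' V a) := by
    intro V a y hy hy'
    obtain ⟨U, hU, s, hs⟩ := exists_rep i hi.2.1 hi.1.isInducing (g.base y) (gm Z (g.base y) hy a)
    have hyU : f.base y ∈ U := by subst hg; exact hU
    have hU' : i.base (g'.base y) ∈ U := by rw [← hb]; exact hU
    have hs' : gm Z (U := pre i U) (g'.base y) hU' (pull i U s) = gm Z (g'.base y) hy' a := by
      have gen : ∀ (z : Z.toTopCat) (_ : z = g.base y) (h1 : i.base z ∈ U) (h2 : z ∈ V),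
          gm Z (U := pre i U) z h1 (pull i U s) = gm Z z h2 a := by
        rintro z rfl h1 h2; exact hs
      exact gen _ (ConcreteCategory.congr_hom hb y).symm hU' hy'
    rw [germ_hom i hi f g hg V a y hy U hU hyU s hs, germ_hom i hi f g' hg' V a y hy' U hU' hyU s hs']
  obtain ⟨⟨b, c⟩, p⟩ := g
  obtain ⟨⟨b', c'⟩, p'⟩ := g'
  obtain rfl : b = b' := hb
  congr 2
  refine NatTrans.ext (funext fun V => CommRingCat.hom_ext (RingHom.ext fun a => ?_))
  induction V with
  | op V =>
    exact TopCat.Presheaf.section_ext Y.toSheafedSpace.sheaf ((Opens.map b).obj V) _ _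
      fun y hy => key V a y hy hy

lemma mem_range_of_killed
    (hf : ∀ (U : Opens X.toTopCat) (s : X.presheaf.obj (op U)), pull i U s = 0 → pull f U s = 0)
    (y : Y.toTopCat) : f.base y ∈ Set.range i.base := by
  by_contra hy
  let U : Opens X.toTopCat := ⟨(Set.range i.base)ᶜ, hi.1.isClosed_range.isOpen_compl⟩
  have h0 : pull i U 1 = 0 := by
    refine TopCat.Presheaf.section_ext Z.toSheafedSpace.sheaf (pre i U) _ _ fun z hz => ?_
    exact (hz ⟨z, rfl⟩).elim
  have h1 := congrArg (gm Y (U := pre f U) y hy) (hf U 1 h0)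
  simp only [gm, map_one, map_zero] at h1
  exact one_ne_zero h1

theorem exists_fac
    (hf : ∀ (U : Opens X.toTopCat) (s : X.presheaf.obj (op U)), pull i U s = 0 → pull f U s = 0) :
    ∃ g : Y ⟶ Z, g ≫ i = f := by
  choose g0 hg0 using mem_range_of_killed i hi f hf
  have hc : Continuous g0 := hi.1.isInducing.continuous_iff.2 (by
    have : (i.base : Z.toTopCat → X.toTopCat) ∘ g0 = f.base := funext hg0
    rw [this]; exact f.base.hom.continuous)
  let b : Y.toTopCat ⟶ Z.toTopCat := TopCat.ofHom ⟨g0, hc⟩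
  -- the local maps
  choose U hU s hs using fun (y : Y.toTopCat) (a : Z.presheaf.stalk (g0 y)) =>
    exists_rep i hi.2.1 hi.1.isInducing (g0 y) a
  let φ : ∀ y : Y.toTopCat, Z.presheaf.stalk (g0 y) → Y.presheaf.stalk y := fun y a =>
    gm Y (U := pre f (U y a)) y (show f.base y ∈ U y a by rw [← hg0 y]; exact hU y a) (pull f _ (s y a))
  have hφ : ∀ (y : Y.toTopCat) (W : Opens X.toTopCat) (hW : i.base (g0 y) ∈ W) (hyW : f.base y ∈ W)
      (t : X.presheaf.obj (op W)),
      φ y (gm Z (U := pre i W) (g0 y) hW (pull i W t)) = gm Y (U := pre f W) y hyW (pull f W t) :=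
    fun y W hW hyW t => germ_eq_of_germ_eq i hi f hf (hg0 y) (hU _ _) hW _ hyW _ t (hs _ _)
  have hmem : ∀ {y : Y.toTopCat} {W : Opens X.toTopCat}, i.base (g0 y) ∈ W → f.base y ∈ W :=
    fun {y W} h => hg0 y ▸ h
  have hhom : ∀ y, (φ y 1 = 1) ∧ (φ y 0 = 0) ∧ (∀ a a', φ y (a + a') = φ y a + φ y a') ∧
      ∀ a a', φ y (a * a') = φ y a * φ y a' := by
    intro y
    have htop : i.base (g0 y) ∈ (⊤ : Opens X.toTopCat) := trivial
    refine ⟨?_, ?_, fun a a' => ?_, fun a a' => ?_⟩
    · have h := hφ y ⊤ htop trivial 1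
      rw [map_one (pull i ⊤), map_one (pull f ⊤)] at h
      exact ((congrArg (φ y) (map_one (Z.presheaf.germ (pre i ⊤) (g0 y) htop).hom).symm).trans h).trans
        (map_one (Y.presheaf.germ (pre f ⊤) y trivial).hom)
    · have h := hφ y ⊤ htop trivial 0
      rw [map_zero (pull i ⊤), map_zero (pull f ⊤)] at h
      exact ((congrArg (φ y) (map_zero (Z.presheaf.germ (pre i ⊤) (g0 y) htop).hom).symm).trans h).trans
        (map_zero (Y.presheaf.germ (pre f ⊤) y trivial).hom)
    all_goals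
      obtain ⟨W, hW, t, rfl⟩ := exists_rep i hi.2.1 hi.1.isInducing (g0 y) a
      obtain ⟨W', hW', t', rfl⟩ := exists_rep i hi.2.1 hi.1.isInducing (g0 y) a'
      have hWW : i.base (g0 y) ∈ W ⊓ W' := ⟨hW, hW'⟩
      rw [← gm_pull_res i (inf_le_left : W ⊓ W' ≤ W) t (g0 y) hWW,
        ← gm_pull_res i (inf_le_right : W ⊓ W' ≤ W') t' (g0 y) hWW]
    · have e := fun u => hφ y (W ⊓ W') hWW (hmem hWW) u
      rw [e, e]
      simp only [gm, ← map_add, e]
    · have e := fun u => hφ y (W ⊓ W') hWW (hmem hWW) u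
      rw [e, e]
      simp only [gm, ← map_mul, e]
  -- sections
  have hsec : ∀ (V : Opens Z.toTopCat) (a : Z.presheaf.obj (op V)),
      ∃ t : Y.presheaf.obj (op ((Opens.map b).obj V)), ∀ (y : Y.toTopCat) (hy : g0 y ∈ V),
        gm Y (U := (Opens.map b).obj V) y hy t = φ y (gm Z (g0 y) hy a) := by
    intro V a
    have hloc : ∀ y : (Opens.map b).obj V, ∃ (N : Opens Y.toTopCat) (_ : y.1 ∈ N) (hN : N ≤ (Opens.map b).obj V)
        (t : Y.presheaf.obj (op N)), ∀ (w : Y.toTopCat) (hw : w ∈ N), gm Y w hw t = φ w (gm Z (g0 w) (hN hw) a) := by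
      rintro ⟨y, hy⟩
      obtain ⟨W, hW, t, ht⟩ := exists_rep i hi.2.1 hi.1.isInducing (g0 y) (gm Z (g0 y) hy a)
      obtain ⟨V', hV', iW, iV, hVeq⟩ := Z.presheaf.germ_eq (g0 y) hW hy _ _ ht
      let N : Opens Y.toTopCat := (Opens.map b).obj V' ⊓ pre f W
      refine ⟨N, ⟨hV', hmem hW⟩, fun w hw => iV.le hw.1,
        Y.presheaf.map (homOfLE (inf_le_right : N ≤ pre f W)).op (pull f W t), fun w hw => ?_⟩
      rw [show gm Z (g0 w) (iV.le hw.1) a = gm Z (U := pre i W) (g0 w) (iW.le hw.1) (pull i W t) from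
        ((Z.presheaf.germ_res_apply iV (g0 w) hw.1 a).symm.trans
          (congrArg (Z.presheaf.germ V' (g0 w) hw.1) hVeq.symm)).trans
          (Z.presheaf.germ_res_apply iW (g0 w) hw.1 _)]
      rw [hφ w W (iW.le hw.1) hw.2]
      exact Y.presheaf.germ_res_apply _ w hw _
    choose N hyN hN t ht using hloc
    obtain ⟨T, hT, -⟩ := TopCat.Sheaf.existsUnique_gluing' Y.toSheafedSpace.sheaf N ((Opens.map b).obj V)
      (fun p => homOfLE (hN p)) (fun p hp => Opens.mem_iSup.2 ⟨⟨p, hp⟩, hyN ⟨p, hp⟩⟩) t fun p q => by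
        refine TopCat.Presheaf.section_ext Y.toSheafedSpace.sheaf (N p ⊓ N q) _ _ fun w hw => ?_
        exact ((Y.presheaf.germ_res_apply _ w hw (t p)).trans (ht p w hw.1)).trans
          ((Y.presheaf.germ_res_apply _ w hw (t q)).trans (ht q w hw.2)).symm
    refine ⟨T, fun y hy => ?_⟩
    rw [← ht ⟨y, hy⟩ y (hyN _), ← hT ⟨y, hy⟩]
    exact (Y.presheaf.germ_res_apply _ y (hyN ⟨y, hy⟩) T).symm
  choose T hT using hsec
  have hext : ∀ {W : Opens Y.toTopCat} (t t' : Y.presheaf.obj (op W)),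
      (∀ y hy, gm Y y hy t = gm Y y hy t') → t = t' := fun t t' h =>
    TopCat.Presheaf.section_ext Y.toSheafedSpace.sheaf _ t t' h
  let c : Z.presheaf ⟶ b _* Y.presheaf :=
    { app := fun V => CommRingCat.ofHom (S := (b _* Y.presheaf).obj V)
        { toFun := T V.unop
          map_one' := hext _ _ fun y hy => by
            rw [hT _ _ y hy]; simp only [gm, map_one]; rw [(hhom y).1]
          map_zero' := hext _ _ fun y hy => by
            rw [hT _ _ y hy]; simp only [gm, map_zero]; rw [(hhom y).2.1]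
          map_add' := fun u v => hext _ _ fun y hy => by
            rw [hT _ _ y hy]; simp only [gm, map_add]; rw [(hhom y).2.2.1]
            exact (congrArg₂ (· + ·) (hT _ u y hy) (hT _ v y hy)).symm
          map_mul' := fun u v => hext _ _ fun y hy => by
            rw [hT _ _ y hy]; simp only [gm, map_mul]; rw [(hhom y).2.2.2]
            exact (congrArg₂ (· * ·) (hT _ u y hy) (hT _ v y hy)).symm }
      naturality := fun V V' j => CommRingCat.hom_ext (RingHom.ext fun a => hext _ _ fun y hy => by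
        refine (hT V'.unop _ y hy).trans ?_
        refine Eq.trans ?_ (Y.presheaf.germ_res_apply _ y hy (T V.unop a)).symm
        exact (congrArg (φ y) (Z.presheaf.germ_res_apply j.unop (g0 y) hy a)).trans
          (hT V.unop a y (j.unop.le hy)).symm) }
  let gP : PresheafedSpace.Hom Y.toPresheafedSpace Z.toPresheafedSpace := ⟨b, c⟩
  have hstalk : ∀ (y : Y.toTopCat) (a : Z.presheaf.stalk (g0 y)), gP.stalkMap y a = φ y a := by
    intro y a
    obtain ⟨V, hV, a, rfl⟩ := Z.presheaf.exists_germ_eq (x := g0 y) a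
    exact (PresheafedSpace.stalkMap_germ_apply gP V y hV a).trans (hT V a y hV)
  let g : Y ⟶ Z := ⟨gP, fun y => ⟨fun a ha => by
    change IsUnit (gP.stalkMap y a) at ha
    rw [hstalk] at ha
    obtain ⟨W, hW, t, rfl⟩ := exists_rep i hi.2.1 hi.1.isInducing (g0 y) a
    rw [hφ y W hW (hmem hW) t] at ha
    haveI : IsLocalHom (f.stalkMap y).hom := inferInstance
    have h1 : IsUnit (f.stalkMap y (X.presheaf.germ W (f.base y) (hmem hW) t)) := by
      erw [LocallyRingedSpace.stalkMap_germ_apply]; exact ha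
    have h2 := (isUnit_map_iff (f.stalkMap y).hom _).1 h1
    have gen : ∀ (x : X.toTopCat) (hx : x ∈ W), x = f.base y → IsUnit (X.presheaf.germ W x hx t) := by
      rintro x hx rfl; exact h2
    have h3 := (gen _ hW (hg0 y)).map (i.stalkMap (g0 y)).hom
    erw [LocallyRingedSpace.stalkMap_germ_apply] at h3
    exact h3⟩⟩
  refine ⟨g, ?_⟩
  have hb : (g ≫ i).base = f.base := by ext y; exact hg0 y
  have key : ∀ (W : Opens X.toTopCat) (t : X.presheaf.obj (op W)) (y : Y.toTopCat) (hy : f.base y ∈ W)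
      (hy' : (g ≫ i).base y ∈ W),
      gm Y (U := pre (g ≫ i) W) y hy' (pull (g ≫ i) W t) = gm Y (U := pre f W) y hy (pull f W t) := by
    intro W t y hy hy'
    exact (hT (pre i W) (pull i W t) y hy').trans (hφ y W hy' hy t)
  have ext' : ∀ (G G' : Y ⟶ X), G.base = G'.base → (∀ (W : Opens X.toTopCat) (t : X.presheaf.obj (op W))
      (y : Y.toTopCat) (hy : G.base y ∈ W) (hy' : G'.base y ∈ W),
      gm Y (U := pre G W) y hy (pull G W t) = gm Y (U := pre G' W) y hy' (pull G' W t)) → G = G' := by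
    rintro ⟨⟨b₁, c₁⟩, p₁⟩ ⟨⟨b₂, c₂⟩, p₂⟩ hbb h
    obtain rfl : b₁ = b₂ := hbb
    congr 2
    refine NatTrans.ext (funext fun W => CommRingCat.hom_ext (RingHom.ext fun t => ?_))
    induction W with
    | op W => exact hext _ _ fun y hy => h W t y hy hy
  exact ext' _ _ hb fun W t y hy hy' => key W t y hy' hy

end factor

end Groth.Agent.Triage.LRSClosed
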