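import Mathlib.AlgebraicGeometry.Morphisms.Finite
import Mathlib.AlgebraicGeometry.Morphisms.QuasiFinite
import Mathlib.AlgebraicGeometry.Morphisms.FiniteType
import Mathlib.AlgebraicGeometry.FunctionField
import Mathlib.AlgebraicGeometry.ResidueField
import Mathlib.RingTheory.Algebraic.Integral

/-!
# Generically finite morphisms of integral schemes
-/

universe u

open CategoryTheory Limits AlgebraicGeometry TopologicalSpace

set_option backward.isDefEq.respectTransparency false
set_option backward.isDefEq.respectTransparency.types false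

namespace Groth.Agent.Triage.GenFinite

variable {X Y : Scheme.{u}}

lemma bijective_residue {x : X} (h : IsField (X.presheaf.stalk x)) : Function.Bijective (X.residue x) := by
  refine ⟨?_, X.residue_surjective x⟩
  letI := h.toField
  exact RingHom.injective (X.residue x).hom

theorem finite_residue_iff (f : X ⟶ Y) {x : X} (hX : IsField (X.presheaf.stalk x))
    (hY : IsField (Y.presheaf.stalk (f x))) :
    (f.residueFieldMap x).hom.Finite ↔ (f.stalkMap x).hom.Finite := by
  haveI : IsIso (X.residue x) := (ConcreteCategory.isIso_iff_bijective _).2 (bijective_residue hX)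
  haveI : IsIso (Y.residue (f x)) := (ConcreteCategory.isIso_iff_bijective _).2 (bijective_residue hY)
  exact (RingHom.finite_respectsIso.arrow_mk_iso_iff
    (Arrow.isoMk (asIso (Y.residue (f x))) (asIso (X.residue x)) (Scheme.residue_residueFieldMap f x))).symm

theorem finite_stalkMap_iff (f : X ⟶ Y) (x : X) (hY : IsField (Y.presheaf.stalk (f x))) :
    (f.stalkMap x).hom.Finite ↔ f.QuasiFiniteAt x := by
  letI := hY.toField
  letI := (f.stalkMap x).hom.toAlgebra
  constructor
  · intro h
    haveI : Module.Finite (Y.presheaf.stalk (f x)) (X.presheaf.stalk x) := h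
    exact (inferInstance : Algebra.QuasiFinite (Y.presheaf.stalk (f x)) (X.presheaf.stalk x))
  · intro h
    haveI : Algebra.QuasiFinite (Y.presheaf.stalk (f x)) (X.presheaf.stalk x) := h
    exact (Module.Finite.of_quasiFinite : Module.Finite (Y.presheaf.stalk (f x)) (X.presheaf.stalk x))

variable [IsIntegral X] [IsIntegral Y] (f : X ⟶ Y)

lemma map_genericPoint [IsDominant f] : f (genericPoint X) = genericPoint Y :=
  ((genericPoint_spec X).image f.continuous).eq (by
    simpa [Set.image_univ, f.denseRange.closure_range] using genericPoint_spec Y)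

lemma isField_stalk {x : X} (h : x = genericPoint X) : IsField (X.presheaf.stalk x) := by
  subst h; exact Field.toIsField X.functionField

/-- Over a suitable basic open, an affine piece is finite. -/
theorem exists_good [IsDominant f] [LocallyOfFiniteType f] (hA : (f.stalkMap (genericPoint X)).hom.Finite)
    {V : Y.Opens} (hV : IsAffineOpen V) {U : X.Opens} (hU : IsAffineOpen U) (hUV : U ≤ f ⁻¹ᵁ V)
    (hξ : genericPoint X ∈ U) :
    ∃ a : Γ(Y, V), a ≠ 0 ∧ ∀ a' : Γ(Y, V), a ∣ a' →
      ∃ e : X.basicOpen (f.appLE V U hUV a') ≤ f ⁻¹ᵁ Y.basicOpen a',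
        IsFinite (f.resLE (Y.basicOpen a') (X.basicOpen (f.appLE V U hUV a')) e) := by
  classical
  have hηV : f (genericPoint X) ∈ V := hUV hξ
  haveI : Nonempty V := ⟨⟨_, hηV⟩⟩
  letI algB : Algebra Γ(Y, V) Γ(X, U) := (f.appLE V U hUV).hom.toAlgebra
  have hFT : (algebraMap Γ(Y, V) Γ(X, U)).FiniteType := f.finiteType_appLE hV hU hUV
  obtain ⟨S, hS⟩ := (RingHom.finiteType_algebraMap.1 hFT).out
  have hfrac : IsField (Y.presheaf.stalk (f (genericPoint X))) ∧
      letI := (Y.presheaf.germ V (f (genericPoint X)) hηV).hom.toAlgebra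
      IsFractionRing Γ(Y, V) (Y.presheaf.stalk (f (genericPoint X))) := by
    have gen : ∀ (z : Y) (hz : z ∈ V), z = genericPoint Y → IsField (Y.presheaf.stalk z) ∧
        letI := (Y.presheaf.germ V z hz).hom.toAlgebra
        IsFractionRing Γ(Y, V) (Y.presheaf.stalk z) := by
      rintro z hz rfl
      exact ⟨Field.toIsField Y.functionField, functionField_isFractionRing_of_isAffineOpen Y V hV⟩
    exact gen _ hηV (map_genericPoint f)
  obtain ⟨hF, hfr⟩ := hfrac
  letI := hF.toField
  letI : Algebra (Y.presheaf.stalk (f (genericPoint X))) X.functionField := (f.stalkMap (genericPoint X)).hom.toAlgebra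
  letI := (Y.presheaf.germ V (f (genericPoint X)) hηV).hom.toAlgebra
  let γ : Γ(X, U) →+* X.functionField := (X.presheaf.germ U (genericPoint X) hξ).hom
  letI : Algebra Γ(Y, V) X.functionField := (γ.comp (algebraMap Γ(Y, V) Γ(X, U))).toAlgebra
  haveI : IsScalarTower Γ(Y, V) (Y.presheaf.stalk (f (genericPoint X))) X.functionField :=
    IsScalarTower.of_algebraMap_eq fun a => by
      show γ (f.appLE V U hUV a) = f.stalkMap _ (Y.presheaf.germ V _ hηV a)
      rw [Scheme.Hom.germ_stalkMap_apply]
      exact X.presheaf.germ_res_apply _ _ hξ _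
  haveI : Module.Finite (Y.presheaf.stalk (f (genericPoint X))) X.functionField := hA
  have hex : ∀ b : Γ(X, U), ∃ a : Γ(Y, V), a ≠ 0 ∧ IsIntegral Γ(Y, V) (a • b) := by
    intro b
    have halg : IsAlgebraic Γ(Y, V) (γ b) :=
      (IsFractionRing.isAlgebraic_iff Γ(Y, V) (Y.presheaf.stalk (f (genericPoint X))) X.functionField).2
        (Algebra.IsAlgebraic.isAlgebraic (γ b))
    obtain ⟨a, ha, P, hP, hPz⟩ := halg.exists_integral_multiple
    refine ⟨a, ha, P, hP, germ_injective_of_isIntegral X _ hξ ?_⟩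
    show γ _ = γ _
    rw [map_zero, Polynomial.hom_eval₂, Algebra.smul_def, map_mul]
    rw [Algebra.smul_def] at hPz
    exact hPz
  choose a ha hint using hex
  refine ⟨∏ b ∈ S, a b, Finset.prod_ne_zero_iff.2 fun b _ => ha b, fun a' ha' => ?_⟩
  have e : X.basicOpen (f.appLE V U hUV a') ≤ f ⁻¹ᵁ Y.basicOpen a' := by
    rw [Scheme.Hom.preimage_basicOpen, Scheme.Hom.appLE, CommRingCat.comp_apply, Scheme.basicOpen_res]
    exact inf_le_right
  refine ⟨e, ?_⟩
  haveI : IsAffine (Y.basicOpen a').toScheme := hV.basicOpen a'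
  haveI : IsAffine (X.basicOpen (f.appLE V U hUV a')).toScheme := hU.basicOpen _
  rw [HasAffineProperty.iff_of_isAffine (P := @IsFinite)]
  refine ⟨inferInstance, (RingHom.finite_respectsIso.arrow_mk_iso_iff (arrowResLEAppIso f _ _ e)).2 ?_⟩
  let R := Γ(Y, Y.basicOpen a')
  let T := Γ(X, X.basicOpen (f.appLE V U hUV a'))
  letI : Algebra R T := (f.appLE (Y.basicOpen a') (X.basicOpen (f.appLE V U hUV a')) e).hom.toAlgebra
  letI : Algebra Γ(Y, V) R := (Y.presheaf.map (homOfLE (Y.basicOpen_le a')).op).hom.toAlgebra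
  letI : Algebra Γ(X, U) T :=
    (X.presheaf.map (homOfLE (X.basicOpen_le (f.appLE V U hUV a'))).op).hom.toAlgebra
  letI : Algebra Γ(Y, V) T := ((algebraMap R T).comp (algebraMap Γ(Y, V) R)).toAlgebra
  haveI : IsScalarTower Γ(Y, V) R T := .of_algebraMap_eq' rfl
  haveI : IsScalarTower Γ(Y, V) Γ(X, U) T := by
    refine .of_algebraMap_eq' ?_
    show (f.appLE _ _ e).hom.comp (Y.presheaf.map _).hom = (X.presheaf.map _).hom.comp (f.appLE V U hUV).hom
    rw [← CommRingCat.hom_comp, ← CommRingCat.hom_comp, Scheme.Hom.map_appLE, Scheme.Hom.appLE_map]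
  haveI : IsLocalization.Away a' R := hV.isLocalization_basicOpen a'
  haveI : IsLocalization.Away (f.appLE V U hUV a') T := hU.isLocalization_basicOpen _
  have hu : IsUnit (algebraMap Γ(Y, V) R a') := IsLocalization.Away.algebraMap_isUnit a'
  let C : Subalgebra Γ(Y, V) Γ(X, U) :=
    ((integralClosure R T).restrictScalars Γ(Y, V)).comap (IsScalarTower.toAlgHom Γ(Y, V) Γ(X, U) T)
  have hCtop : C = ⊤ := by
    refine top_le_iff.1 (hS ▸ Algebra.adjoin_le fun s hs => ?_)
    obtain ⟨d, hd⟩ := (Finset.dvd_prod_of_mem a (Finset.mem_coe.1 hs)).trans ha'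
    show IsIntegral R (algebraMap Γ(X, U) T s)
    have h1 : IsIntegral Γ(Y, V) (a' • algebraMap Γ(X, U) T s) := by
      have : a' • algebraMap Γ(X, U) T s = algebraMap Γ(X, U) T (d • (a s • s)) := by
        rw [hd, smul_smul, mul_comm d, ← IsScalarTower.toAlgHom_apply Γ(Y, V) Γ(X, U) T, ← IsScalarTower.toAlgHom_apply Γ(Y, V) Γ(X, U) T, map_smul]
      rw [this]
      exact ((hint s).smul d).algebraMap
    have h2 : IsIntegral R (a' • algebraMap Γ(X, U) T s) := h1.tower_top
    rw [← IsScalarTower.algebraMap_smul R a'] at h2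
    obtain ⟨w, hw⟩ := hu
    rw [← hw] at h2
    have h3 := h2.smul (↑w⁻¹ : R)
    rwa [smul_smul, Units.inv_mul, one_smul] at h3
  have hint' : (algebraMap R T).IsIntegral := by
    intro z
    obtain ⟨n, b, hz⟩ := IsLocalization.Away.surj (f.appLE V U hUV a') z
    have hb : IsIntegral R (algebraMap Γ(X, U) T b) := (hCtop ▸ Algebra.mem_top : b ∈ C)
    have e2 : algebraMap Γ(X, U) T (f.appLE V U hUV a') = algebraMap R T (algebraMap Γ(Y, V) R a') :=
      (IsScalarTower.algebraMap_apply Γ(Y, V) Γ(X, U) T a').symm.trans (IsScalarTower.algebraMap_apply Γ(Y, V) R T a')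
    obtain ⟨w, hw⟩ := hu.pow n
    have h4 : z = (↑w⁻¹ : R) • algebraMap Γ(X, U) T b := by
      rw [← hz, e2, ← map_pow, ← hw, mul_comm z, ← Algebra.smul_def, smul_smul, Units.inv_mul, one_smul]
    rw [h4]
    exact hb.smul _
  exact RingHom.finite_iff_isIntegral_and_finiteType.2
    ⟨hint', f.finiteType_appLE (hV.basicOpen a') (hU.basicOpen _) e⟩

theorem isFinite_morphismRestrict_of_eq {W : Y.Opens} {T : X.Opens} (e : T ≤ f ⁻¹ᵁ W) (h : T = f ⁻¹ᵁ W)
    (hf : IsFinite (f.resLE W T e)) : IsFinite (f ∣_ W) := by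
  subst h
  rwa [Scheme.Hom.resLE_eq_morphismRestrict] at hf

end Groth.Agent.Triage.GenFinite
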