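import Mathlib

/-! Properties of a morphism near a point, on affine charts. -/

set_option autoImplicit false

universe u

open CategoryTheory AlgebraicGeometry TopologicalSpace

namespace Groth.Agent.Triage.NhdLocal

variable {X S : Scheme.{u}} (f : X ⟶ S)

theorem appLE_ι {V : S.Opens} {A : X.Opens} (e : A ≤ f ⁻¹ᵁ V) :
    ∃ (e' : (⊤ : (A : Scheme.{u}).Opens) ≤ (A.ι ≫ f) ⁻¹ᵁ V) (t : Γ(X, A) ⟶ Γ(A, ⊤)), IsIso t ∧
      (A.ι ≫ f).appLE V ⊤ e' = f.appLE V A e ≫ t := by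
  refine ⟨fun a _ => e a.2, A.ι.appLE A ⊤ A.ι_preimage_self.ge, ?_,
    (Scheme.Hom.appLE_comp_appLE A.ι f V A ⊤ e A.ι_preimage_self.ge).symm⟩
  rw [Scheme.Opens.ι_appLE]
  have : A.ι ''ᵁ ⊤ = A := A.ι_image_top
  suffices h : ∀ h : A.ι ''ᵁ ⊤ ≤ A, IsIso (X.presheaf.map (homOfLE h).op) from h _
  intro h
  haveI : IsIso (homOfLE h).op :=
    ⟨(homOfLE this.ge).op, Subsingleton.elim _ _, Subsingleton.elim _ _⟩
  infer_instance

theorem exists_affine {W : X.Opens} {x : X} (hx : x ∈ W) {V : S.Opens} (hxV : f x ∈ V) :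
    ∃ (A : X.Opens) (_ : IsAffineOpen A) (_ : x ∈ A) (_ : A ≤ f ⁻¹ᵁ V), A ≤ W := by
  obtain ⟨_, ⟨A, hA, rfl⟩, hxA, hAW⟩ :=
    X.isBasis_affineOpens.exists_subset_of_mem_open (show x ∈ ((W ⊓ f ⁻¹ᵁ V : X.Opens) : Set X) from ⟨hx, hxV⟩)
      (W ⊓ f ⁻¹ᵁ V).2
  exact ⟨A, hA, hxA, fun a ha => (hAW ha).2, fun a ha => (hAW ha).1⟩

theorem ringProp_appLE {P : MorphismProperty Scheme.{u}}
    {Q : ∀ {R T : Type u} [CommRing R] [CommRing T], (R →+* T) → Prop} [HasRingHomProperty P Q]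
    {W A : X.Opens} (hAW : A ≤ W) (hA : IsAffineOpen A) {V : S.Opens} (hV : IsAffineOpen V)
    (e : A ≤ f ⁻¹ᵁ V) (h : P (W.ι ≫ f)) : Q (f.appLE V A e).hom := by
  have hA' : P (A.ι ≫ f) := by
    rw [← X.homOfLE_ι hAW, Category.assoc]
    exact HasRingHomProperty.comp_of_isOpenImmersion P (X.homOfLE hAW) _ h
  haveI : IsAffine (A : Scheme.{u}) := hA
  obtain ⟨e', t, ht, h2⟩ := appLE_ι f e
  have h3 := HasRingHomProperty.appLE P (A.ι ≫ f) hA' ⟨V, hV⟩ ⟨⊤, isAffineOpen_top _⟩ e'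
  simp only [h2] at h3
  exact ((HasRingHomProperty.isLocal_ringHomProperty P).respectsIso.cancel_right_isIso _ t).1 h3

theorem exists_basic {x : X} {A : X.Opens} (hA : IsAffineOpen A) (hx : x ∈ A) (s : Set Γ(X, A))
    (hs : Ideal.span s = ⊤) : ∃ r ∈ s, x ∈ X.basicOpen r := by
  have : x ∈ ⨆ r : s, X.basicOpen (r : Γ(X, A)) := by rw [hA.iSup_basicOpen_eq_self_iff.2 hs]; exact hx
  obtain ⟨⟨r, hr⟩, hxr⟩ := Opens.mem_iSup.1 this
  exact ⟨r, hr, hxr⟩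

end Groth.Agent.Triage.NhdLocal
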